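import Mathlib
import Cfsg.Agent.Lib.Blocks.CyclicSubpairs
import Cfsg.Agent.Lib.CharTheory.CyclicCofactor.Fourier
import Cfsg.Agent.Lib.CharTheory.CyclicCofactor.Fusion

/-!
# Residue coordinates on a cyclic defect group
-/

set_option linter.style.haveILetI false
set_option linter.unusedSectionVars false

namespace Cfsg.Agent.BlockCharsA.CyclicDefect

open Cfsg.Agent.Blocks Cfsg.Agent.Characters Cfsg.Agent.Blocks.Star
open Cfsg.Agent.BlockCharsA.BrauerPairs Cfsg.Agent.BlockCharsA.PairLocal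
open Cfsg.Agent.CharTheory.CyclicCofactor

universe u

variable {G : Type u} [Group G] [Finite G] {p : ℕ} {M : Ideal Cfsg.AlgInt}
  {B : Set (Cfsg.IrrCharacter G)} {P : Subgroup G}
  {c : Set (Cfsg.IrrCharacter (Subgroup.centralizer (P : Set G)))}

/-- The point of the cyclic group with a given coordinate. -/
noncomputable def pt (hcyc : IsCyclic P) (i : ZMod (Nat.card P)) : P :=
  zmodCyclicMulEquiv hcyc (Multiplicative.ofAdd i)

/-- The coordinate of a point. -/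
noncomputable def ix (hcyc : IsCyclic P) (v : P) : ZMod (Nat.card P) :=
  ((zmodCyclicMulEquiv hcyc).symm v).toAdd

variable {hcyc : IsCyclic P}

@[simp] theorem ix_pt (i : ZMod (Nat.card P)) : ix hcyc (pt hcyc i) = i := by simp [ix, pt]

@[simp] theorem pt_ix (v : P) : pt hcyc (ix hcyc v) = v := by simp [ix, pt]

theorem pt_zero : pt hcyc 0 = 1 := by simp [pt]

theorem ix_one : ix hcyc 1 = 0 := by simp [ix]

theorem ix_mul (v w : P) : ix hcyc (v * w) = ix hcyc v + ix hcyc w := by simp [ix]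

theorem pt_injective {i j : ZMod (Nat.card P)} (h : (pt hcyc i : G) = pt hcyc j) : i = j := by
  rw [← ix_pt (hcyc := hcyc) i, Subtype.ext h, ix_pt]

theorem pt_ne_one {i : ZMod (Nat.card P)} (hi : i ≠ 0) : (pt hcyc i : G) ≠ 1 := fun h =>
  hi (pt_injective (hcyc := hcyc) (by rw [h, pt_zero, Subgroup.coe_one]))

theorem zpowers_pt_ne_bot {i : ZMod (Nat.card P)} (hi : i ≠ 0) :
    Subgroup.zpowers (pt hcyc i : G) ≠ ⊥ := fun h =>
  pt_ne_one hi (Subgroup.zpowers_eq_bot.1 h)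

theorem pt_eq_pow (i : ZMod (Nat.card P)) : pt hcyc i = pt hcyc 1 ^ (ZMod.val i) := by
  haveI : NeZero (Nat.card P) := ⟨Nat.card_pos.ne'⟩
  simp only [pt, ← map_pow, ← ofAdd_nsmul, nsmul_eq_mul, mul_one, ZMod.natCast_zmod_val]

theorem comm_of_cyclic (hcyc : IsCyclic P) : ∀ a ∈ P, ∀ b ∈ P, a * b = b * a := fun a ha b hb => by
  letI := hcyc.commGroup
  exact congrArg Subtype.val (mul_comm (⟨a, ha⟩ : P) ⟨b, hb⟩)

theorem exists_mult (hcyc : IsCyclic P) {w : G} (hw : w ∈ stab P c) :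
    ∃ a : ZMod (Nat.card P), ∀ i, w * (pt hcyc i : G) * w⁻¹ = (pt hcyc (a * i) : G) := by
  haveI : NeZero (Nat.card P) := ⟨Nat.card_pos.ne'⟩
  have hm : w * (pt hcyc 1 : G) * w⁻¹ ∈ P :=
    (Subgroup.mem_normalizer_iff.1 (stab_le_normalizer hw) _).1 (pt hcyc 1).2
  obtain ⟨a, h1⟩ : ∃ a, (pt hcyc a : G) = w * (pt hcyc 1 : G) * w⁻¹ :=
    ⟨ix hcyc ⟨_, hm⟩, congrArg Subtype.val (pt_ix _)⟩
  refine ⟨a, fun i => ?_⟩
  rw [pt_eq_pow i, SubmonoidClass.coe_pow, ← conj_pow, ← h1, ← SubmonoidClass.coe_pow]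
  congr 1
  simp only [pt, ← map_pow, ← ofAdd_nsmul, nsmul_eq_mul]
  rw [ZMod.natCast_zmod_val, mul_comm]

variable (hcyc c) in
open scoped Classical in
/-- The multipliers of the inertial group. -/
noncomputable def mults : Finset (ZMod (Nat.card P)) :=
  haveI : NeZero (Nat.card P) := ⟨Nat.card_pos.ne'⟩
  Finset.univ.filter fun a =>
    ∃ w ∈ stab P c, ∀ i, w * (pt hcyc i : G) * w⁻¹ = (pt hcyc (a * i) : G)

theorem mem_mults {a : ZMod (Nat.card P)} :
    a ∈ mults c hcyc ↔ ∃ w ∈ stab P c, ∀ i, w * (pt hcyc i : G) * w⁻¹ = (pt hcyc (a * i) : G) := by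
  simp [mults]

theorem centralizer_of_fix_pt (hM : Cfsg.IsPModular p M)
    (hmax : Cfsg.IsMaximalBrauerPair p M B P c) {w : G} (hw : w ∈ stab P c)
    {i : ZMod (Nat.card P)} (hi : i ≠ 0) (h : w * (pt hcyc i : G) * w⁻¹ = (pt hcyc i : G)) :
    w ∈ Subgroup.centralizer (P : Set G) := by
  refine CyclicSubpairs.mem_centralizer_of_fix hM hmax hcyc
    (Subgroup.zpowers_le.2 (pt hcyc i).2) (zpowers_pt_ne_bot hi) hw ?_
  exact mem_centralizer_zpowers.2 (Subgroup.mem_centralizer_singleton_iff.2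
    (mul_inv_eq_iff_eq_mul.1 h))

theorem isFree_mults (hM : Cfsg.IsPModular p M) (hmax : Cfsg.IsMaximalBrauerPair p M B P c) :
    IsFree (mults c hcyc) := by
  refine ⟨mem_mults.2 ⟨1, Subgroup.one_mem _, fun i => by simp⟩, ?_, ?_, ?_⟩
  · intro a b ha hb
    obtain ⟨w, hw, hwa⟩ := mem_mults.1 ha
    obtain ⟨w', hw', hwb⟩ := mem_mults.1 hb
    refine mem_mults.2 ⟨w * w', Subgroup.mul_mem _ hw hw', fun i => ?_⟩
    rw [mul_assoc a b i, ← hwa, ← hwb]
    group
  · intro a ha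
    obtain ⟨w, hw, hwa⟩ := mem_mults.1 ha
    obtain ⟨b, hb⟩ := exists_mult hcyc (Subgroup.inv_mem _ hw)
    refine ⟨b, mem_mults.2 ⟨w⁻¹, Subgroup.inv_mem _ hw, hb⟩, pt_injective (hcyc := hcyc) ?_⟩
    rw [← mul_one a, ← hb, ← hwa 1]
    group
  · intro a i ha hi hai
    obtain ⟨w, hw, hwa⟩ := mem_mults.1 ha
    have h1 := hwa i
    rw [hai] at h1
    have h3 := centralizer_of_fix_pt hM hmax hw hi h1
    have h4 := hwa 1
    rw [show w * (pt hcyc 1 : G) * w⁻¹ = pt hcyc 1 from mul_inv_eq_iff_eq_mul.2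
      (Subgroup.mem_centralizer_iff.1 h3 _ (pt hcyc 1).2).symm, mul_one] at h4
    exact (pt_injective h4).symm

/-- The multipliers are as many as the inertial index. -/
theorem card_mults (hM : Cfsg.IsPModular p M) (hmax : Cfsg.IsMaximalBrauerPair p M B P c)
    (hP1 : P ≠ ⊥) :
    (mults c hcyc).card = (Subgroup.centralizer (P : Set G)).relIndex (stab P c) := by
  haveI : NeZero (Nat.card P) := ⟨Nat.card_pos.ne'⟩
  haveI : Fact (1 < Nat.card P) := ⟨Finite.one_lt_card_iff_nontrivial.2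
    ((Subgroup.nontrivial_iff_ne_bot P).2 hP1)⟩
  have hex : ∀ w : stab P c, ∃ a : mults c hcyc,
      ∀ i, (w : G) * (pt hcyc i : G) * (w : G)⁻¹ = (pt hcyc ((a : ZMod (Nat.card P)) * i) : G) :=
    fun w => by
      obtain ⟨a, ha⟩ := exists_mult hcyc w.2
      exact ⟨⟨a, mem_mults.2 ⟨w, w.2, ha⟩⟩, ha⟩
  choose F hF using hex
  have hker : ∀ w w' : stab P c, F w = F w' ↔
      w⁻¹ * w' ∈ (Subgroup.centralizer (P : Set G)).subgroupOf (stab P c) := by
    intro w w'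
    rw [Subgroup.mem_subgroupOf]
    constructor
    · intro h
      refine centralizer_of_fix_pt (hcyc := hcyc) hM hmax (w⁻¹ * w').2 one_ne_zero ?_
      have h1 : (w : G) * (pt hcyc 1 : G) * (w : G)⁻¹ = (w' : G) * (pt hcyc 1 : G) * (w' : G)⁻¹ := by
        rw [hF, hF, h]
      simp only [Subgroup.coe_mul, Subgroup.coe_inv]
      calc ((w : G)⁻¹ * w') * (pt hcyc 1 : G) * ((w : G)⁻¹ * w')⁻¹
          = (w : G)⁻¹ * ((w' : G) * (pt hcyc 1 : G) * (w' : G)⁻¹) * w := by group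
        _ = _ := by rw [← h1]; group
    · intro h
      refine Subtype.ext ?_
      rw [← mul_one (F w : ZMod (Nat.card P)), ← mul_one (F w' : ZMod (Nat.card P))]
      refine pt_injective (hcyc := hcyc) ?_
      rw [← hF, ← hF, show (w' : G) = w * ((w⁻¹ * w' : stab P c) : G) by simp]
      have h1 := Subgroup.mem_centralizer_iff.1 h _ (pt hcyc 1).2
      generalize ((w⁻¹ * w' : stab P c) : G) = z at h1 ⊢
      rw [show (w : G) * z * (pt hcyc 1 : G) * ((w : G) * z)⁻¹ =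
        w * (z * (pt hcyc 1 : G) * z⁻¹) * (w : G)⁻¹ by group, ← h1, mul_inv_cancel_right]
  have hsurj : Function.Surjective F := fun a => by
    obtain ⟨w, hw, ha⟩ := mem_mults.1 a.2
    refine ⟨⟨w, hw⟩, Subtype.ext ?_⟩
    have h := (hF ⟨w, hw⟩ 1).symm.trans (ha 1)
    simpa using pt_injective h
  rw [Subgroup.relIndex, Subgroup.index, ← Nat.card_eq_finsetCard]
  refine (Nat.card_eq_of_bijective (Quotient.lift F fun w w' h => ?_) ⟨?_, ?_⟩).symm
  · exact (hker w w').2 (QuotientGroup.leftRel_apply.1 h)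
  · intro x y
    induction x using Quotient.ind with
    | _ w =>
      induction y using Quotient.ind with
      | _ w' => exact fun h => Quotient.sound (QuotientGroup.leftRel_apply.2 ((hker w w').1 h))
  · intro a
    obtain ⟨w, rfl⟩ := hsurj a
    exact ⟨Quotient.mk _ w, rfl⟩

theorem nb_pt (hM : Cfsg.IsPModular p M) (hmax : Cfsg.IsMaximalBrauerPair p M B P c)
    {i : ZMod (Nat.card P)} (hi : i ≠ 0) :
    nb p M c (pt hcyc i) = (mults c hcyc).card * Nat.card (CU (pt hcyc i : G)) := by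
  have hS := isFree_mults (hcyc := hcyc) hM hmax
  rw [CharTheory.CyclicCofactor.nb_eq hM hmax (comm_of_cyclic hcyc)]
  congr 1
  rw [← Nat.card_eq_finsetCard]
  refine (Nat.card_eq_of_bijective (fun a : mults c hcyc =>
    (⟨pt hcyc ((a : ZMod (Nat.card P)) * i), by
      obtain ⟨w, hw, h⟩ := mem_mults.1 a.2
      exact ⟨w, hw, h i⟩⟩ :
      {v : P // ∃ w ∈ stab P c, w * (pt hcyc i : G) * w⁻¹ = (v : G)})) ⟨fun a a' h => ?_, ?_⟩).symm
  · refine Subtype.ext (hS.eq_of_mul_eq a.2 a'.2 hi (pt_injective (hcyc := hcyc) ?_))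
    exact congrArg (fun v : {v : P // _} => ((v : P) : G)) h
  · rintro ⟨v, w, hw, hwv⟩
    obtain ⟨a, ha⟩ := exists_mult hcyc hw
    exact ⟨⟨a, mem_mults.2 ⟨w, hw, ha⟩⟩, Subtype.ext (Subtype.ext ((ha i).symm.trans hwv))⟩

end Cfsg.Agent.BlockCharsA.CyclicDefect
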