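import Mathlib

/-!
# A uniserial corner with a semilinear unit

`A₁` is a subalgebra whose corner at `J` is generated by a nilpotent `T`; `Θ` is a unit of the
corner at `J` of the whole algebra normalising it, with `Θ ^ e` a scalar on the kernel of `T`.
An eigenvector of `Θ` killed by `T` and outside the image of `T ^ (L - 1)` survives in a simple
subquotient, and a simple module in which traced endomorphisms are scalars has at most one
eigenvalue of that kind.
-/

set_option linter.style.haveILetI false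
set_option linter.unusedSectionVars false

namespace Cfsg.Agent.BlockCharsA.CyclicDefect

open Polynomial

universe u v w

/-- The data of a corner. -/
structure CornerData (k : Type w) (A : Type u) [Field k] [Ring A] [Algebra k A] where
  A₁ : Subalgebra k A
  J : A
  T : A
  F : A
  n : A
  n' : A
  Θ : A
  Θ' : A
  L : ℕ
  e : ℕ
  γ : k
  J_mem : J ∈ A₁
  T_mem : T ∈ A₁
  F_mem : F ∈ A₁
  JJ : J * J = J
  JT : J * T = T
  TJ : T * J = T
  two_le : 2 ≤ L
  TL : T ^ L = 0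
  corner : ∀ x ∈ A₁, ∃ P : k[X], J * x * J = J * aeval T P
  F_comm : ∀ x ∈ A₁, F * x = x * F
  FF : F * F = F
  FJ : F * J = J
  gen : ∃ (r : ℕ) (a b : Fin r → A), (∀ i, a i ∈ A₁) ∧ (∀ i, b i ∈ A₁) ∧ ∑ i, a i * J * b i = F
  nn' : n * n' = 1
  n'n : n' * n = 1
  norm : ∀ x ∈ A₁, n * x * n' ∈ A₁
  norm' : ∀ x ∈ A₁, n' * x * n ∈ A₁
  Θ_eq : ∃ b ∈ A₁, Θ = b * n
  ΘJ : Θ * J = Θ
  JΘ : J * Θ = Θ
  JΘ' : J * Θ' = Θ'
  Θ'J : Θ' * J = Θ'
  ΘΘ' : Θ * Θ' = J
  Θ'Θ : Θ' * Θ = J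
  TΘ : ∃ X, T * Θ = X * T
  TΘ' : ∃ X, T * Θ' = X * T
  ΘTL : ∃ X, Θ * T ^ (L - 1) = T ^ (L - 1) * X
  Θe : ∃ X, Θ ^ e = γ • J + X * T
  γ_ne : γ ≠ 0
  e_ne : (e : k) ≠ 0

namespace CornerData

variable {k : Type w} [Field k] {A : Type u} [Ring A] [Algebra k A] (C : CornerData k A)
  {V : Type v} [AddCommGroup V] [Module k V] [Module A V] [IsScalarTower k A V]
  [SMulCommClass A k V]

/-- An eigenvector that survives. -/
def Good (κ : k) (v : V) : Prop :=
  C.J • v = v ∧ C.T • v = 0 ∧ C.Θ • v = κ • v ∧ ∀ y : V, C.T ^ (C.L - 1) • y ≠ v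

theorem e_pos : 0 < C.e := Nat.pos_of_ne_zero fun h => C.e_ne (by rw [h, Nat.cast_zero])

theorem pow_L_sub_J : C.T ^ (C.L - 1) * C.J = C.T ^ (C.L - 1) := by
  obtain ⟨l, hl⟩ := Nat.exists_eq_add_of_le C.two_le
  rw [show C.L - 1 = l + 1 by omega, pow_succ, mul_assoc, C.TJ]

theorem J_pow_L_sub : C.J * C.T ^ (C.L - 1) = C.T ^ (C.L - 1) := by
  obtain ⟨l, hl⟩ := Nat.exists_eq_add_of_le C.two_le
  rw [show C.L - 1 = l + 1 by omega, pow_succ', ← mul_assoc, C.JT]

theorem J_pow {i : ℕ} (hi : 0 < i) : C.J * C.T ^ i = C.T ^ i := by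
  obtain ⟨l, rfl⟩ := Nat.exists_eq_succ_of_ne_zero hi.ne'
  rw [pow_succ', ← mul_assoc, C.JT]

/-- `Θ` keeps the kernel of `T` in the corner. -/
theorem Θ_ker {v : V} (hT : C.T • v = 0) :
    C.J • (C.Θ • v) = C.Θ • v ∧ C.T • (C.Θ • v) = 0 := by
  obtain ⟨X, hX⟩ := C.TΘ
  exact ⟨by rw [← mul_smul, C.JΘ], by rw [← mul_smul, hX, mul_smul, hT, smul_zero]⟩

theorem Θ'_ker {v : V} (hT : C.T • v = 0) :
    C.J • (C.Θ' • v) = C.Θ' • v ∧ C.T • (C.Θ' • v) = 0 := by
  obtain ⟨X, hX⟩ := C.TΘ'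
  exact ⟨by rw [← mul_smul, C.JΘ'], by rw [← mul_smul, hX, mul_smul, hT, smul_zero]⟩

theorem Θpow_ker {v : V} (hJ : C.J • v = v) (hT : C.T • v = 0) (i : ℕ) :
    C.J • (C.Θ ^ i • v) = C.Θ ^ i • v ∧ C.T • (C.Θ ^ i • v) = 0 := by
  induction i with
  | zero => simpa using ⟨hJ, hT⟩
  | succ i ih => rw [pow_succ', mul_smul]; exact C.Θ_ker ih.2

theorem Θ'pow_ker {v : V} (hJ : C.J • v = v) (hT : C.T • v = 0) (i : ℕ) :
    C.J • (C.Θ' ^ i • v) = C.Θ' ^ i • v ∧ C.T • (C.Θ' ^ i • v) = 0 := by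
  induction i with
  | zero => simpa using ⟨hJ, hT⟩
  | succ i ih => rw [pow_succ', mul_smul]; exact C.Θ'_ker ih.2

theorem Θe_ker {v : V} (hJ : C.J • v = v) (hT : C.T • v = 0) : C.Θ ^ C.e • v = C.γ • v := by
  obtain ⟨X, hX⟩ := C.Θe
  rw [hX, add_smul, mul_smul, hT, smul_zero, add_zero, smul_assoc, hJ]

theorem eigen_pow {κ : k} {v : V} (h : C.Θ • v = κ • v) (i : ℕ) : C.Θ ^ i • v = κ ^ i • v := by
  induction i with
  | zero => simp
  | succ i ih => rw [pow_succ, mul_smul, h, smul_comm, ih, smul_smul, pow_succ, mul_comm]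

theorem good_ne_zero {κ : k} {v : V} (h : C.Good κ v) : v ≠ 0 := fun h0 =>
  h.2.2.2 0 (by rw [smul_zero, h0])

theorem good_pow {κ : k} {v : V} (h : C.Good κ v) : κ ^ C.e = C.γ := by
  have h1 := C.Θe_ker h.1 h.2.1
  rw [C.eigen_pow h.2.2.1, ← sub_eq_zero, ← sub_smul, smul_eq_zero] at h1
  exact sub_eq_zero.1 (h1.resolve_right (C.good_ne_zero h))

theorem good_kappa_ne {κ : k} {v : V} (h : C.Good κ v) : κ ≠ 0 := fun h0 => C.γ_ne (by
  rw [← C.good_pow h, h0, zero_pow C.e_pos.ne'])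

/-- The projection to an eigenspace. -/
noncomputable def proj (κ : k) : A :=
  (C.e : k)⁻¹ • ∑ i ∈ Finset.range C.e, κ⁻¹ ^ i • C.Θ ^ i

theorem proj_eigen {κ : k} (hκ : κ ^ C.e = C.γ) {v : V} (hJ : C.J • v = v) (hT : C.T • v = 0) :
    C.J • (C.proj κ • v) = C.proj κ • v ∧ C.T • (C.proj κ • v) = 0 ∧
      C.Θ • (C.proj κ • v) = κ • (C.proj κ • v) := by
  have hκ0 : κ ≠ 0 := fun h0 => C.γ_ne (by rw [← hκ, h0, zero_pow C.e_pos.ne'])
  have hp : C.proj κ • v =
      (C.e : k)⁻¹ • ∑ i ∈ Finset.range C.e, κ⁻¹ ^ i • (C.Θ ^ i • v) := by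
    simp only [proj, smul_assoc, Finset.sum_smul]
  refine ⟨?_, ?_, ?_⟩
  · rw [hp, smul_comm, Finset.smul_sum]
    congr 1
    exact Finset.sum_congr rfl fun i _ => by rw [smul_comm, (C.Θpow_ker hJ hT i).1]
  · rw [hp, smul_comm, Finset.smul_sum, Finset.sum_eq_zero, smul_zero]
    intro i _
    rw [smul_comm, (C.Θpow_ker hJ hT i).2, smul_zero]
  · rw [hp, smul_comm C.Θ, smul_comm κ]
    congr 1
    rw [Finset.smul_sum, Finset.smul_sum]
    set g : ℕ → V := fun i => (κ * κ⁻¹ ^ i) • (C.Θ ^ i • v) with hg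
    have h1 : ∀ i, C.Θ • (κ⁻¹ ^ i • (C.Θ ^ i • v)) = g (i + 1) := fun i => by
      rw [hg, smul_comm, ← mul_smul, ← pow_succ']
      simp only
      rw [pow_succ' κ⁻¹, ← mul_assoc, mul_inv_cancel₀ hκ0, one_mul]
    have h2 : ∀ i, κ • (κ⁻¹ ^ i • (C.Θ ^ i • v)) = g i := fun i => by
      simp only [g, smul_smul]
    rw [Finset.sum_congr rfl fun i _ => h1 i, Finset.sum_congr rfl fun i _ => h2 i]
    have h3 := Finset.sum_range_succ g C.e
    rw [Finset.sum_range_succ'] at h3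
    have h4 : g C.e = g 0 := by
      simp only [g, C.Θe_ker hJ hT, pow_zero, one_smul, mul_one, smul_smul, inv_pow]
      rw [mul_assoc, ← hκ, inv_mul_cancel₀ (pow_ne_zero _ hκ0), mul_one, inv_one, mul_one]
    rw [h4] at h3
    exact add_right_cancel h3

theorem proj_fix {κ : k} {v : V} (h : C.Good κ v) : C.proj κ • v = v := by
  have hκ := C.good_kappa_ne h
  simp only [proj, smul_assoc, Finset.sum_smul, C.eigen_pow h.2.2.1, smul_smul, ← mul_pow,
    inv_mul_cancel₀ hκ, one_pow, one_smul, Finset.sum_const, Finset.card_range,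
    ← Nat.cast_smul_eq_nsmul k]
  rw [inv_mul_cancel₀ C.e_ne, one_smul]

theorem proj_range (κ : k) (y : V) :
    ∃ z, C.proj κ • (C.T ^ (C.L - 1) • y) = C.T ^ (C.L - 1) • z := by
  obtain ⟨X, hX⟩ := C.ΘTL
  have hi : ∀ i, C.Θ ^ i * C.T ^ (C.L - 1) = C.T ^ (C.L - 1) * X ^ i := fun i => by
    induction i with
    | zero => simp
    | succ i ih =>
      rw [pow_succ, mul_assoc, hX, ← mul_assoc, ih, mul_assoc, ← pow_succ]
  refine ⟨((C.e : k)⁻¹ • ∑ i ∈ Finset.range C.e, κ⁻¹ ^ i • X ^ i) • y, ?_⟩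
  rw [← mul_smul, ← mul_smul, proj, smul_mul_assoc, mul_smul_comm, Finset.sum_mul, Finset.mul_sum]
  congr 2
  exact Finset.sum_congr rfl fun i _ => by rw [smul_mul_assoc, mul_smul_comm, hi]

/-- A surviving eigenvector survives in a simple subquotient. -/
theorem exists_simple_good [FiniteDimensional k V] {κ : k} {v : V} (hv : C.Good κ v) :
    ∃ (X : Submodule A V) (X' : Submodule A X), IsSimpleModule A (X ⧸ X') ∧
      ∃ w : X ⧸ X', C.Good κ w := by
  classical
  set S : Set (Submodule A V) := {X | ∃ w : X, C.Good κ w}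
  have htop : (⊤ : Submodule A V) ∈ S :=
    ⟨⟨v, trivial⟩, Subtype.ext hv.1, Subtype.ext hv.2.1, Subtype.ext hv.2.2.1,
      fun y hy => hv.2.2.2 y (congrArg Subtype.val hy)⟩
  obtain ⟨X, ⟨w, hw⟩, hmin⟩ :=
    (InvImage.wf (fun X : Submodule A V => Module.finrank k (X.restrictScalars k))
      wellFounded_lt).has_min S ⟨⊤, htop⟩
  haveI : FiniteDimensional k X :=
    inferInstanceAs (FiniteDimensional k (X.restrictScalars k))
  haveI : Module.Finite A X := Module.Finite.of_restrictScalars_finite k A X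
  haveI : Nontrivial X := ⟨⟨w, 0, C.good_ne_zero hw⟩⟩
  obtain ⟨X', hX'⟩ := (IsCoatomic.eq_top_or_exists_le_coatom (⊥ : Submodule A X)).resolve_left
    bot_ne_top
  refine ⟨X, X', isSimpleModule_iff_isCoatom.2 hX'.1, Submodule.Quotient.mk w, ?_⟩
  obtain ⟨hwJ, hwT, hwΘ, hwI⟩ := hw
  refine ⟨by rw [← Submodule.Quotient.mk_smul, hwJ],
    by rw [← Submodule.Quotient.mk_smul, hwT, Submodule.Quotient.mk_zero],
    by rw [← Submodule.Quotient.mk_smul, hwΘ, Submodule.Quotient.mk_smul], fun y hy => ?_⟩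
  obtain ⟨y, rfl⟩ := Submodule.Quotient.mk_surjective _ y
  rw [← Submodule.Quotient.mk_smul, eq_comm, Submodule.Quotient.eq] at hy
  set z := w - C.T ^ (C.L - 1) • y with hz
  have hzJ : C.J • z = z := by
    rw [hz, smul_sub, hwJ, ← mul_smul, C.J_pow_L_sub]
  have hzT : C.T • z = 0 := by
    rw [hz, smul_sub, hwT, ← mul_smul, ← pow_succ',
      show C.L - 1 + 1 = C.L by have := C.two_le; omega, C.TL, zero_smul, sub_zero]
  have hκ := C.good_pow ⟨hwJ, hwT, hwΘ, hwI⟩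
  obtain ⟨h1, h2, h3⟩ := C.proj_eigen hκ hzJ hzT
  set u := C.proj κ • z with hu
  have huX' : u ∈ X' := X'.smul_mem _ hy
  obtain ⟨y', hy'⟩ := C.proj_range κ y
  have huw : u = w - C.T ^ (C.L - 1) • y' := by
    rw [hu, hz, smul_sub, C.proj_fix ⟨hwJ, hwT, hwΘ, hwI⟩, hy']
  have hmem : X'.map X.subtype ∈ S := by
    refine ⟨⟨(u : V), Submodule.mem_map_of_mem huX'⟩, Subtype.ext (congrArg Subtype.val h1 :),
      Subtype.ext (congrArg Subtype.val h2 :), Subtype.ext (congrArg Subtype.val h3 :),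
      fun a ha => ?_⟩
    obtain ⟨b, hb, hba⟩ := a.2
    have h4 : C.T ^ (C.L - 1) • b = u := Subtype.ext (by
      have := congrArg Subtype.val ha
      simp only [Submodule.coe_smul] at this ⊢
      rw [show (b : V) = (a : V) from hba]
      exact this)
    refine hwI (b + y') ?_
    rw [smul_add, h4, huw, sub_add_cancel]
  refine hmin _ hmem ?_
  show Module.finrank k ((X'.map X.subtype).restrictScalars k) <
    Module.finrank k (X.restrictScalars k)
  refine Submodule.finrank_lt_finrank_of_lt ?_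
  have hlt : X'.map X.subtype < X := by
    refine lt_of_le_of_ne (Submodule.map_subtype_le X X') fun h => hX'.1.1 ?_
    refine Submodule.map_injective_of_injective X.injective_subtype ?_
    rw [h, Submodule.map_subtype_top]
  exact ⟨fun a ha => hlt.1 ha, fun h => hlt.2 fun a ha => h ha⟩

section Traced

variable (V)

/-- The endomorphisms of the part at `F`, summed over the powers of `n`, are scalars up to the
image of `T ^ (L - 1)`. -/
def TraceScalar : Prop :=
  ∀ π : V →ₗ[k] V, (∀ a ∈ C.A₁, ∀ v, π (a • v) = a • π v) → (∀ v, C.F • π v = π v) →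
    (∀ v, π (C.F • v) = π v) →
      ∃ c : k, ∀ v, C.J • v = v → C.T • v = 0 → ∃ y,
        (∑ i ∈ Finset.range C.e, C.n ^ i • π (C.n' ^ i • v)) - c • v = C.T ^ (C.L - 1) • y

variable {V}

theorem exists_beta (i : ℕ) :
    ∃ β ∈ C.A₁, C.Θ ^ i = β * C.n ^ i ∧ C.n' ^ i * β * C.n ^ i ∈ C.A₁ := by
  obtain ⟨b, hb, hΘ⟩ := C.Θ_eq
  have hpow : ∀ (i : ℕ), ∀ x ∈ C.A₁, C.n' ^ i * x * C.n ^ i ∈ C.A₁ ∧
      C.n ^ i * x * C.n' ^ i ∈ C.A₁ := by
    intro i
    induction i with
    | zero => intro x hx; simpa using hx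
    | succ i ih =>
      intro x hx
      constructor
      · rw [pow_succ', pow_succ, show C.n' * C.n' ^ i * x * (C.n ^ i * C.n) =
          C.n' * (C.n' ^ i * x * C.n ^ i) * C.n by simp only [mul_assoc]]
        exact C.norm' _ (ih x hx).1
      · rw [pow_succ', pow_succ, show C.n * C.n ^ i * x * (C.n' ^ i * C.n') =
          C.n * (C.n ^ i * x * C.n' ^ i) * C.n' by simp only [mul_assoc]]
        exact C.norm _ (ih x hx).2
  have hcancel : ∀ i : ℕ, C.n' ^ i * C.n ^ i = 1 ∧ C.n ^ i * C.n' ^ i = 1 := fun i =>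
    ⟨pow_mul_pow_eq_one i C.n'n, pow_mul_pow_eq_one i C.nn'⟩
  induction i with
  | zero => exact ⟨1, one_mem _, by simp, by simp⟩
  | succ i ih =>
    obtain ⟨β, hβ, hβe, -⟩ := ih
    refine ⟨β * (C.n ^ i * b * C.n' ^ i), mul_mem hβ (hpow i b hb).2, ?_,
      (hpow (i + 1) _ (mul_mem hβ (hpow i b hb).2)).1⟩
    rw [pow_succ, hβe, hΘ, pow_succ, mul_assoc β, mul_assoc β]
    congr 1
    simp only [mul_assoc]
    rw [← mul_assoc (C.n' ^ i) (C.n ^ i) C.n, (hcancel i).1, one_mul]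

theorem Θ_mul_Θ'_pow : ∀ i : ℕ, C.Θ ^ i * C.Θ' ^ i * C.J = C.J := by
  have hJ : ∀ i : ℕ, C.J * (C.Θ' ^ i * C.J) = C.Θ' ^ i * C.J := by
    intro i
    cases i with
    | zero => simp [C.JJ]
    | succ i => rw [pow_succ', ← mul_assoc, ← mul_assoc, C.JΘ']
  intro i
  induction i with
  | zero => simp
  | succ i ih =>
    calc C.Θ ^ (i + 1) * C.Θ' ^ (i + 1) * C.J
        = C.Θ ^ i * ((C.Θ * C.Θ') * (C.Θ' ^ i * C.J)) := by
          rw [pow_succ, pow_succ']; simp only [mul_assoc]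
      _ = C.J := by rw [C.ΘΘ', hJ, ← mul_assoc, ih]

theorem twist_apply {π : V →ₗ[k] V} (hπ : ∀ a ∈ C.A₁, ∀ v, π (a • v) = a • π v) {v : V}
    (hJ : C.J • v = v) (i : ℕ) :
    C.n ^ i • π (C.n' ^ i • v) = C.Θ ^ i • π (C.Θ' ^ i • v) := by
  obtain ⟨β, hβ, hβe, hβ'⟩ := C.exists_beta i
  have hfix := C.Θ_mul_Θ'_pow i
  have hv : v = β • C.n ^ i • C.Θ' ^ i • v := by
    rw [← mul_smul, ← hβe, ← mul_smul]
    conv_lhs => rw [← hJ, ← hfix, mul_smul, hJ]
  conv_lhs => rw [hv]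
  rw [← mul_smul (C.n' ^ i), ← mul_smul, show C.n' ^ i * β * C.n ^ i = C.n' ^ i * β * C.n ^ i
    from rfl, hπ _ hβ', ← mul_smul, ← mul_assoc, ← mul_assoc, pow_mul_pow_eq_one i C.nn', one_mul,
    ← hβe]

/-- A simple module with scalar traced endomorphisms has one surviving eigenvalue. -/
theorem good_unique (htr : C.TraceScalar V) {κ κ' : k} {s s' : V} (hs : C.Good κ s)
    (hs' : C.Good κ' s') : κ = κ' := by
  classical
  obtain ⟨hsJ, hsT, hsΘ, hsI⟩ := id hs
  -- the height of `s`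
  have hex : ∃ h : ℕ, ∀ y, C.T ^ (h + 1) • y ≠ s :=
    ⟨C.L - 2, fun y => by rw [show C.L - 2 + 1 = C.L - 1 by have := C.two_le; omega]; exact hsI y⟩
  set h := Nat.find hex
  have hh : ∀ y, C.T ^ (h + 1) • y ≠ s := Nat.find_spec hex
  obtain ⟨x, hxJ, hx⟩ : ∃ x, C.J • x = x ∧ C.T ^ h • x = s := by
    rcases Nat.eq_zero_or_pos h with h0 | h0
    · exact ⟨s, hsJ, by rw [h0, pow_zero, one_smul]⟩
    · have := Nat.find_min hex (show h - 1 < h by omega)
      push Not at this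
      obtain ⟨y, hy⟩ := this
      rw [show h - 1 + 1 = h by omega] at hy
      refine ⟨C.J • y, by rw [← mul_smul, C.JJ], ?_⟩
      obtain ⟨l, hl⟩ : ∃ l, h = l + 1 := ⟨h - 1, by omega⟩
      rw [← mul_smul, hl, pow_succ, mul_assoc, C.TJ, ← pow_succ, ← hl, hy]
  -- a functional
  set W : Submodule k V :=
    LinearMap.range (Algebra.lsmul k k V (C.T ^ (h + 1)) : V →ₗ[k] V) with hW
  obtain ⟨φ, hφs, hφW⟩ := Submodule.exists_dual_map_eq_bot_of_notMem (p := W) (x := s)
    (fun ⟨y, hy⟩ => hh y hy) inferInstance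
  set φ' := (φ s)⁻¹ • φ
  have hφ1 : φ' s = 1 := by simp [φ', inv_mul_cancel₀ hφs]
  have hφ0 : ∀ y, φ' (C.T ^ (h + 1) • y) = 0 := fun y => by
    simp only [φ', LinearMap.smul_apply, smul_eq_mul]
    rw [show φ (C.T ^ (h + 1) • y) = 0 from
      (Submodule.eq_bot_iff _).1 hφW _ (Submodule.mem_map_of_mem ⟨y, rfl⟩), mul_zero]
  set π₀ : V →ₗ[k] V := ∑ i ∈ Finset.range (h + 1),
    (LinearMap.toSpanSingleton k V (C.T ^ (h - i) • x)).comp
      (φ'.comp (Algebra.lsmul k k V (C.T ^ i) : V →ₗ[k] V)) with hπ₀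
  have hπ₀v : ∀ w, π₀ w = ∑ i ∈ Finset.range (h + 1), φ' (C.T ^ i • w) • C.T ^ (h - i) • x :=
    fun w => by rw [hπ₀, LinearMap.sum_apply]; rfl
  have hπT : ∀ w, π₀ (C.T • w) = C.T • π₀ w := by
    intro w
    rw [hπ₀v, hπ₀v, Finset.smul_sum, Finset.sum_range_succ,
      show φ' (C.T ^ h • C.T • w) = 0 by rw [← mul_smul, ← pow_succ]; exact hφ0 w, zero_smul,
      add_zero, Finset.sum_range_succ']
    rw [show C.T • φ' (C.T ^ 0 • w) • C.T ^ (h - 0) • x = 0 by
      rw [smul_comm, Nat.sub_zero, hx, hsT, smul_zero], add_zero]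
    refine Finset.sum_congr rfl fun i hi => ?_
    rw [smul_comm C.T, ← mul_smul C.T, ← pow_succ', ← mul_smul (C.T ^ i), ← pow_succ]
    congr 3
    have := Finset.mem_range.1 hi
    omega
  have hπP : ∀ (P : k[X]) (w : V), π₀ (aeval C.T P • w) = aeval C.T P • π₀ w := by
    intro P w
    induction P using Polynomial.induction_on' with
    | add a b ha hb => rw [map_add, add_smul, map_add, ha, hb, add_smul]
    | monomial n a =>
      rw [aeval_monomial, mul_smul, mul_smul, algebraMap_smul, algebraMap_smul, map_smul]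
      congr 1
      clear a
      induction n generalizing w with
      | zero => simp
      | succ n ih => rw [pow_succ, mul_smul, ih, hπT, ← mul_smul]
  have hJTpow : ∀ i, C.J • (C.T ^ i • x) = C.T ^ i • x := fun i => by
    rcases Nat.eq_zero_or_pos i with rfl | hi
    · rw [pow_zero, one_smul, hxJ]
    · rw [← mul_smul, C.J_pow hi]
  have hπJ : ∀ w, C.J • π₀ w = π₀ w := fun w => by
    rw [hπ₀v, Finset.smul_sum]
    exact Finset.sum_congr rfl fun i _ => by rw [smul_comm, hJTpow]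
  have hπker : ∀ w, C.T • w = 0 → π₀ w = φ' w • s := by
    intro w hw
    rw [hπ₀v, Finset.sum_eq_single_of_mem 0 (Finset.mem_range.2 h.succ_pos)]
    · rw [pow_zero, one_smul, Nat.sub_zero, hx]
    · intro i _ hi
      obtain ⟨l, rfl⟩ := Nat.exists_eq_succ_of_ne_zero hi
      rw [pow_succ, mul_smul, hw, smul_zero, map_zero, zero_smul]
  have hcorner : ∀ a ∈ C.A₁, ∀ w, C.J • w = w → π₀ ((C.J * a * C.J) • w) = (C.J * a * C.J) • π₀ w := by
    intro a ha w hw
    obtain ⟨P, hP⟩ := C.corner a ha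
    have hcm : Commute C.J (aeval C.T P) := by
      have hJT : Commute C.J C.T := by rw [Commute, SemiconjBy, C.TJ, C.JT]
      clear hP
      induction P using Polynomial.induction_on' with
      | add a b ha hb => rw [map_add]; exact ha.add_right hb
      | monomial n a =>
        rw [aeval_monomial]
        exact (Algebra.commute_algebraMap_right a C.J).mul_right (hJT.pow_right n)
    rw [hP, hcm.eq, mul_smul, hπP, hw, mul_smul, hπJ]
  -- the extension
  obtain ⟨r, a, b, ha, hb, hab⟩ := C.gen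
  set a' : Fin r → A := fun i => C.F * a i
  set b' : Fin r → A := fun i => b i * C.F
  have ha' : ∀ i, a' i ∈ C.A₁ := fun i => mul_mem C.F_mem (ha i)
  have hb' : ∀ i, b' i ∈ C.A₁ := fun i => mul_mem (hb i) C.F_mem
  have hab' : ∑ i, a' i * C.J * b' i = C.F := by
    calc ∑ i, a' i * C.J * b' i = C.F * (∑ i, a i * C.J * b i) * C.F := by
          rw [Finset.mul_sum, Finset.sum_mul]
          exact Finset.sum_congr rfl fun i _ => by simp only [a', b', mul_assoc]
      _ = C.F := by rw [hab, C.FF, C.FF]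
  set π : V →ₗ[k] V := ∑ i, (Algebra.lsmul k k V (a' i) : V →ₗ[k] V).comp
    (π₀.comp (Algebra.lsmul k k V (C.J * b' i) : V →ₗ[k] V)) with hπdef
  have hπv : ∀ w, π w = ∑ i, a' i • π₀ ((C.J * b' i) • w) := fun w => by
    simp [π, LinearMap.sum_apply, mul_smul]
  have hlin : ∀ y ∈ C.A₁, ∀ w, π (y • w) = y • π w := by
    intro y hy w
    have e1 : ∀ i, π₀ ((C.J * b' i) • y • w) =
        ∑ l, (C.J * (b' i * y * a' l) * C.J) • π₀ ((C.J * b' l) • w) := by
      intro i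
      rw [← mul_smul, show C.J * b' i * y =
        ∑ l, (C.J * (b' i * y * a' l) * C.J) * (C.J * b' l) from ?_, Finset.sum_smul, map_sum]
      · refine Finset.sum_congr rfl fun l _ => ?_
        rw [mul_smul, hcorner _ (mul_mem (mul_mem (hb' i) hy) (ha' l))]
        rw [← mul_smul, ← mul_assoc, C.JJ]
      · calc C.J * b' i * y = C.J * (b' i * y) * C.F := by
              simp only [b', mul_assoc]
              rw [← C.F_comm y hy, ← mul_assoc C.F C.F, C.FF]
          _ = _ := by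
              rw [← hab', Finset.mul_sum]
              refine Finset.sum_congr rfl fun l _ => ?_
              simp only [mul_assoc]
              rw [← mul_assoc C.J C.J (b' l), C.JJ]
    rw [hπv, hπv, Finset.smul_sum]
    simp only [e1, Finset.smul_sum]
    rw [Finset.sum_comm]
    refine Finset.sum_congr rfl fun l _ => ?_
    rw [← mul_smul, ← Finset.sum_congr rfl fun i _ =>
      (mul_smul (a' i) (C.J * (b' i * y * a' l) * C.J) (π₀ ((C.J * b' l) • w))), ← Finset.sum_smul]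
    have e2 : ∑ i, a' i * (C.J * (b' i * y * a' l) * C.J) = y * a' l * C.J := by
      calc ∑ i, a' i * (C.J * (b' i * y * a' l) * C.J)
          = (∑ i, a' i * C.J * b' i) * y * a' l * C.J := by
            simp only [Finset.sum_mul, mul_assoc]
        _ = y * a' l * C.J := by
            rw [hab', C.F_comm y hy, mul_assoc y,
              show C.F * a' l = a' l by simp only [a', ← mul_assoc, C.FF]]
    rw [e2, mul_smul, hπJ]
  have hFπ : ∀ w, C.F • π w = π w := fun w => by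
    rw [hπv, Finset.smul_sum]
    exact Finset.sum_congr rfl fun i _ => by
      rw [← mul_smul, show C.F * a' i = a' i by simp only [a', ← mul_assoc, C.FF]]
  have hπF : ∀ w, π (C.F • w) = π w := fun w => by
    rw [hπv, hπv]
    refine Finset.sum_congr rfl fun i _ => ?_
    rw [← mul_smul, show C.J * b' i * C.F = C.J * b' i by simp only [b', mul_assoc, C.FF]]
  have hπJw : ∀ w, C.J • w = w → π w = π₀ w := by
    intro w hw
    rw [hπv, Finset.sum_congr rfl fun i _ => by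
      rw [show (C.J * b' i) • w = (C.J * b' i * C.J) • w by rw [mul_smul _ C.J w, hw],
        hcorner _ (hb' i) w hw, ← mul_smul, ← mul_assoc, ← mul_assoc]]
    rw [← Finset.sum_smul, ← Finset.sum_mul, hab', C.FJ, hπJ]
  obtain ⟨c, hc⟩ := htr π hlin hFπ hπF
  -- the traced endomorphism on the kernel
  have hκ0 := C.good_kappa_ne hs
  have hΘ'pow : ∀ i, C.Θ' ^ i • s = κ⁻¹ ^ i • s := by
    intro i
    induction i with
    | zero => simp
    | succ i ih =>
      have h1 : C.Θ' • s = κ⁻¹ • s := by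
        have h2 := congrArg (fun z => κ⁻¹ • C.Θ' • z) hsΘ
        simp only [← mul_smul C.Θ', C.Θ'Θ, hsJ] at h2
        rw [h2, smul_comm C.Θ', smul_smul, inv_mul_cancel₀ hκ0, one_smul]
      rw [pow_succ, mul_smul, h1, smul_comm, ih, smul_smul, pow_succ, mul_comm]
  have hE : ∀ v, C.J • v = v → C.T • v = 0 →
      ∑ i ∈ Finset.range C.e, C.n ^ i • π (C.n' ^ i • v) =
        ∑ i ∈ Finset.range C.e, (φ' (C.Θ' ^ i • v) * κ ^ i) • s := by
    intro v hvJ hvT
    refine Finset.sum_congr rfl fun i _ => ?_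
    obtain ⟨h1, h2⟩ := C.Θ'pow_ker hvJ hvT i
    rw [C.twist_apply hlin hvJ, hπJw _ h1, hπker _ h2, smul_comm, C.eigen_pow hsΘ, smul_smul]
  have hEs : ∑ i ∈ Finset.range C.e, C.n ^ i • π (C.n' ^ i • s) = (C.e : k) • s := by
    rw [hE s hsJ hsT, ← Finset.sum_smul]
    congr 1
    simp only [hΘ'pow, map_smul, hφ1, smul_eq_mul, mul_one, ← mul_pow, inv_mul_cancel₀ hκ0,
      one_pow, Finset.sum_const, Finset.card_range, nsmul_eq_mul, mul_one]
  have hce : c = C.e := by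
    by_contra hne
    obtain ⟨y, hy⟩ := hc s hsJ hsT
    rw [hEs, ← sub_smul] at hy
    exact hsI ((((C.e : k) - c)⁻¹) • y) (by
      rw [smul_comm, ← hy, smul_smul, inv_mul_cancel₀ (sub_ne_zero.2 (Ne.symm hne)), one_smul])
  obtain ⟨hs'J, hs'T, hs'Θ, hs'I⟩ := id hs'
  obtain ⟨y, hy⟩ := hc s' hs'J hs'T
  rw [hE s' hs'J hs'T, ← Finset.sum_smul, hce] at hy
  set α := ∑ i ∈ Finset.range C.e, φ' (C.Θ' ^ i • s') * κ ^ i
  by_contra hne
  obtain ⟨X, hX⟩ := C.ΘTL
  have h1 := congrArg (fun z => C.Θ • z) hy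
  simp only [smul_sub, smul_comm C.Θ, hsΘ, hs'Θ, smul_smul, ← mul_smul C.Θ, hX] at h1
  -- eliminate `s`
  have h2 : ((C.e : k) * (κ - κ')) • s' = C.T ^ (C.L - 1) • (X • y - κ • y) := by
    rw [smul_sub, ← mul_smul (C.T ^ (C.L - 1)) X, ← h1, smul_comm (C.T ^ (C.L - 1)) κ y, ← hy,
      smul_sub, smul_smul, smul_smul]
    module
  refine hs'I (((C.e : k) * (κ - κ'))⁻¹ • (X • y - κ • y)) ?_
  rw [smul_comm, ← h2, smul_smul, inv_mul_cancel₀ (mul_ne_zero C.e_ne (sub_ne_zero.2 hne)),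
    one_smul]

end Traced

end CornerData

end Cfsg.Agent.BlockCharsA.CyclicDefect
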