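import Mathlib
import Cfsg.Agent.Lib.Blocks.Star.Correspondent
import Cfsg.Agent.Lib.Blocks.Star.Unit

/-!
# A block of the normaliser of a subgroup of the defect group inducing a block
-/

set_option linter.style.haveILetI false
set_option linter.unusedSectionVars false

namespace Cfsg.Agent.BlockCharsA.CyclicDefect

open Cfsg.Agent.Blocks Cfsg.Agent.Characters Cfsg.Agent.Blocks.Star
open Cfsg.Agent.BlockCharsA.BrauerPairs Cfsg.Agent.BlockCharsA.PairStab
open Cfsg.Agent.BlockCharsA.PairMax Cfsg.Agent.BlockCharsA.PairConj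
open Cfsg.Agent.BlockCharsA.PairLocal Cfsg.Agent.BlockCharsA.PairFusion
open Cfsg.Agent.BlockCharsA.PairCorr Cfsg.Agent.BlockCharsA.Transport
open Cfsg.Agent.BlockCharsA.PairReceptive

universe u

variable {G : Type u} [Group G] [Finite G] {p : ℕ} {M : Ideal Cfsg.AlgInt}
  {B : Set (Cfsg.IrrCharacter G)} {P Z H : Subgroup G} {c : Set (Cfsg.IrrCharacter H)}

/-- Matching maximal pairs with equal inertial indices. -/
theorem exists_matching_maximal (hM : Cfsg.IsPModular p M) (hP : IsPGroup p P) (hZP : Z ≤ P)
    (hCZ : Subgroup.centralizer (Z : Set G) ≤ H) (hHZ : H ≤ Subgroup.normalizer (Z : Set G))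
    (hH : Subgroup.normalizer (P : Set G) ≤ H)
    (hcD : Cfsg.IsDefectGroup p M c (P.subgroupOf H)) (hc : Cfsg.IsInducedBlock M H c B) :
    ∃ (f : Set (Cfsg.IrrCharacter (Subgroup.centralizer (P : Set G))))
      (a : Set (Cfsg.IrrCharacter (Subgroup.centralizer ((P.subgroupOf H) : Set H)))),
      Cfsg.IsMaximalBrauerPair p M B P f ∧
      Cfsg.IsMaximalBrauerPair p M c (P.subgroupOf H) a ∧
      (Subgroup.centralizer ((P.subgroupOf H) : Set H)).relIndex (stab (P.subgroupOf H) a) =
        (Subgroup.centralizer (P : Set G)).relIndex (stab P f) := by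
  haveI := fact_prime_of_pm hM
  have hPH : P ≤ H := (Subgroup.le_normalizer).trans hH
  have hCH : Subgroup.centralizer (P : Set G) ≤ H := (centralizer_le_normalizer' P).trans hH
  have hZH : Z ≤ H := hZP.trans hPH
  obtain ⟨B', ⟨hB', hD', hsame⟩, -⟩ := correspond_up hM hP hH hc.1 hcD
  obtain ⟨f, hmax⟩ := exists_maximal_on hM hB' hD'
  obtain ⟨⟨A, a⟩, ha, hm⟩ := exists_down hM hPH hCH hmax.1.1
  obtain rfl : A = P.subgroupOf H :=
    Subgroup.map_injective H.subtype_injective (hm.1.trans (map_subgroupOf_eq hPH).symm)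
  have hpair := (pairOf_transfer hM hsame ha hm hmax.1.1 hB' hc.1).1 hmax.1
  -- the block is the induced one
  have hBB : B' = B := by
    obtain ⟨ξ, hξ⟩ := block_nonempty hM hc.1
    refine isInduced_unique hM ?_ hc
    rw [isInduced_iff_omega_brEl hM (hP.to_le hZP) hZH hCZ hHZ hc.1 hξ hB']
    set z := brEl Z H (blockIdem B')
    obtain ⟨η, hη⟩ := block_nonempty hM ha.2
    have h1 := omega_br_cong hM hpair hη hξ (central_brEl hHZ (central_blockIdem B'))
      (intEl_brEl hM Z H (intEl_blockIdem hM hB'))
    have h2 := hpair.2.2 η hη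
    rw [brauerOmega_block] at h2
    have h3 : Cong M
        (omega (η : Subgroup.centralizer ((P.subgroupOf H) : Set H) → ℂ) (br (P.subgroupOf H) z))
        (omega (η : Subgroup.centralizer ((P.subgroupOf H) : Set H) → ℂ)
          (br (P.subgroupOf H) (blockIdem c))) := by
      refine omega_cong hM η
        (central_br fun v _ x => central_brEl hHZ (central_blockIdem B') x v)
        (central_br (invBy_blockIdem _ _)) (congEl_iff.2 fun k => ?_)
      have hk : ((k : H) : G) ∈ Subgroup.centralizer (P : Set G) :=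
        (mem_centralizer_subgroupOf hPH).1 k.2
      simp only [z, br, brEl, coeff_restrEl]
      rw [
        cutEl_coeff_mem _ (Subgroup.centralizer_le (SetLike.coe_subset_coe.2 hZP) hk),
        coeff_blockIdem, coeff_blockIdem]
      have h := hsame _ hk
      rw [← coeff_elF, elF, coeff_inclEl_mem, coeff_blockIdem] at h
      exact h
    rw [ideal_iff_of_cong hM (cong_trans hM (cong_symm hM h1) (cong_trans hM h3 h2))]
    exact not_ideal_one hM
  subst hBB
  refine ⟨f, a, hmax, ⟨hpair, fun R r hR hle => ?_⟩, ?_⟩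
  · obtain ⟨R', r', hR', hle'⟩ := exists_maximal_above hM hR
    refine (eq_of_le_of_card_le (subpairLE_facts hM hle).1 ?_).symm
    refine (Subgroup.card_le_of_le (subpairLE_facts hM hle').1).trans (le_of_eq ?_)
    rw [card_defectGroup hM hc.1 hcD, card_defectGroup hM hc.1 (isDefectGroup_of_maximal hM hR')]
  · have h1 : stab (P.subgroupOf H) a = (stab P f).subgroupOf H := by
      refine SetLike.ext fun t => ?_
      rw [Subgroup.mem_subgroupOf, mem_stab_iff, mem_stab_iff]
      have h1 := match_conj hm t
      constructor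
      · intro h
        rw [h] at h1
        exact match_unique h1 hm
      · intro h
        rw [h] at h1
        refine idx_ext ?_ fun s => ?_
        · exact Subgroup.map_injective H.subtype_injective (h1.1.trans hm.1.symm)
        · rw [h1.2.2, hm.2.2]
    have h2 : Subgroup.centralizer ((P.subgroupOf H) : Set H) =
        (Subgroup.centralizer (P : Set G)).subgroupOf H :=
      SetLike.ext fun t => mem_centralizer_subgroupOf hPH
    rw [h1, h2, Subgroup.relIndex_subgroupOf (stab_le_normalizer.trans hH)]

end Cfsg.Agent.BlockCharsA.CyclicDefect
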