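import Mathlib
import Cfsg.Agent.BlockCharsA.RankOneSmall.Lift

/-!
# Independent trace functions of a block are at most as many as its rank

Trace functions of representations over the residue field only depend on the regular part; if
they are independent and belong to the block, their number is at most the rank of the block.
-/

set_option linter.style.haveILetI false
set_option linter.unusedSectionVars false

namespace Cfsg.Agent.BlockCharsA.CyclicDefect

open Module MonoidAlgebra Cfsg.Agent.Blocks Cfsg.Agent.Characters Cfsg.Agent.Blocks.Star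
open Cfsg.Agent.Blocks.Lattice Cfsg.Agent.BlockCharsA.TwoChars
open scoped ComplexConjugate

universe u v w

section Traces

variable {k : Type w} [Field k] {A : Type u} [Ring A] [Algebra k A]

/-- The trace of the action of `A` on a module. -/
noncomputable def actTrace (k : Type w) [Field k] {A : Type u} [Ring A] [Algebra k A] (V : Type v)
    [AddCommGroup V] [Module k V] [Module A V] [IsScalarTower k A V] : A →ₗ[k] k :=
  (LinearMap.trace k V).comp (Algebra.lsmul k k V : A →ₐ[k] Module.End k V).toLinearMap

/-- The trace functions of simple modules without homomorphisms between them are independent. -/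
theorem linearIndependent_actTrace [IsAlgClosed k] {ι : Type*} [Fintype ι] (V : ι → Type v)
    [∀ i, AddCommGroup (V i)] [∀ i, Module k (V i)] [∀ i, Module A (V i)]
    [∀ i, IsScalarTower k A (V i)] [∀ i, FiniteDimensional k (V i)]
    [∀ i, IsSimpleModule A (V i)] (hne : ∀ i j, i ≠ j → ∀ φ : V i →ₗ[A] V j, φ = 0) :
    LinearIndependent k fun i => actTrace k (A := A) (V i) := by
  classical
  have key : ∀ i, ∃ x : A, ∀ j, actTrace k (A := A) (V j) x = if j = i then 1 else 0 := by
    intro i
    haveI : Nontrivial (V i) := IsSimpleModule.nontrivial A (V i)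
    obtain ⟨v, hv⟩ := exists_ne (0 : V i)
    obtain ⟨ℓ, hℓ⟩ := LinearMap.exists_extend
      (f := (LinearEquiv.coord k (V i) v hv : (k ∙ v) →ₗ[k] k))
    have hℓv : ℓ v = 1 := by
      have := LinearMap.congr_fun hℓ ⟨v, Submodule.mem_span_singleton_self v⟩
      rw [LinearMap.comp_apply, Submodule.coe_subtype] at this
      rw [this]
      exact LinearEquiv.coord_self k (V i) v hv
    set R := ((LinearMap.toSpanSingleton k (V i) v).comp ℓ) with hR
    have hdiag : ∀ (φ : Module.End A (∀ j, V j)) (j : ι), ∃ c : k, ∀ a : V j,
        φ (Pi.single j a) = Pi.single j (c • a) := by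
      intro φ j
      set ψ : V j →ₗ[A] V j := (LinearMap.proj j).comp (φ.comp (LinearMap.single A V j))
      haveI : Nontrivial (V j) := IsSimpleModule.nontrivial A (V j)
      obtain ⟨c, hc⟩ := Module.End.exists_eigenvalue (ψ.restrictScalars k)
      have hψ : ψ - c • LinearMap.id = 0 := by
        refine (LinearMap.bijective_or_eq_zero _).resolve_left fun hb => ?_
        obtain ⟨w, hw⟩ := hc.exists_hasEigenvector
        refine hw.2 (hb.1 ?_)
        rw [map_zero, LinearMap.sub_apply, LinearMap.smul_apply, LinearMap.id_apply, sub_eq_zero]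
        exact hw.apply_eq_smul
      refine ⟨c, fun a => funext fun i' => ?_⟩
      rcases eq_or_ne i' j with rfl | h
      · have := LinearMap.congr_fun hψ a
        rw [LinearMap.sub_apply, LinearMap.smul_apply, LinearMap.id_apply, LinearMap.zero_apply,
          sub_eq_zero] at this
        rw [Pi.single_eq_same]
        exact this
      · rw [Pi.single_eq_of_ne h]
        exact LinearMap.congr_fun
          (hne j i' (Ne.symm h) ((LinearMap.proj i').comp (φ.comp (LinearMap.single A V j)))) a
    set F : (∀ j, V j) →ₗ[k] (∀ j, V j) :=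
      (LinearMap.single k V i).comp (R.comp (LinearMap.proj i)) with hF
    have hFA : ∀ (φ : Module.End A (∀ j, V j)) (w : ∀ j, V j), F (φ w) = φ (F w) := by
      intro φ w
      choose c hc using hdiag φ
      have h1 : φ w i = c i • w i := by
        conv_lhs => rw [← Finset.univ_sum_single w]
        rw [map_sum, Finset.sum_congr rfl fun j _ => hc j (w j), Finset.univ_sum_single]
      show Pi.single i (R (φ w i)) = φ (Pi.single i (R (w i)))
      rw [hc, h1, map_smul]
    let f : Module.End (Module.End A (∀ j, V j)) (∀ j, V j) :=
      { toFun := F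
        map_add' := map_add F
        map_smul' := fun φ w => hFA φ w }
    set bs := Module.finBasis k (∀ j, V j)
    obtain ⟨x, hx⟩ := jacobson_density f (Finset.univ.image bs)
    have hx' : ∀ w : ∀ j, V j, F w = x • w := by
      intro w
      have : F = (Algebra.lsmul k k (∀ j, V j) : A →ₐ[k] Module.End k (∀ j, V j)) x :=
        bs.ext fun l => hx (bs l) (Finset.mem_image_of_mem _ (Finset.mem_univ l))
      rw [this]
      rfl
    refine ⟨x, fun j => ?_⟩
    have hact : ∀ a : V j, x • a = F (Pi.single j a) j := fun a => by
      rw [hx', Pi.smul_apply, Pi.single_eq_same]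
    show LinearMap.trace k (V j) (Algebra.lsmul k k (V j) x) = _
    by_cases hji : j = i
    · subst hji
      rw [if_pos rfl]
      have hxR : (Algebra.lsmul k k (V j) x : Module.End k (V j)) = R := by
        refine LinearMap.ext fun a => ?_
        show x • a = R a
        rw [hact]
        simp [F]
      rw [hxR, hR, LinearMap.trace_comp_comm']
      have h1 : ℓ.comp (LinearMap.toSpanSingleton k (V j) v) = LinearMap.id :=
        LinearMap.ext_ring (by simp [hℓv])
      rw [h1, LinearMap.trace_id, Module.finrank_self, Nat.cast_one]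
    · rw [if_neg hji]
      have hx0 : (Algebra.lsmul k k (V j) x : Module.End k (V j)) = 0 := by
        refine LinearMap.ext fun a => ?_
        show x • a = 0
        rw [hact]
        simp [F, hji, Ne.symm hji]
      rw [hx0, map_zero]
  choose x hx using key
  rw [Fintype.linearIndependent_iff]
  intro c hc i
  have := LinearMap.congr_fun hc (x i)
  simpa [LinearMap.sum_apply, hx] using this

end Traces

section Shift

variable {G : Type u} [Group G] [Finite G] {k : Type w} [Field k] {p : ℕ}

/-- A trace function only depends on the regular part. -/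
theorem trace_shift [Fact p.Prime] [CharP k p] {V : Type v} [AddCommGroup V] [Module k V]
    (ρ : MonoidAlgebra k G →ₐ[k] Module.End k V) {g s : G} (hs : Cfsg.IsPPart p g s) :
    ∀ t : G, s * t = g → Commute s t →
      LinearMap.trace k V (ρ (single g 1)) = LinearMap.trace k V (ρ (single t 1)) := by
  intro t hst hcomm
  obtain ⟨u, -, -, ⟨m, hm⟩, -⟩ := id hs
  haveI : CharP (MonoidAlgebra k G) p :=
    charP_of_injective_algebraMap (R := k) (RingHom.injective _) p
  set U : MonoidAlgebra k G := single s 1
  set T : MonoidAlgebra k G := single t 1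
  have hnil : (U - 1) ^ p ^ m = 0 := by
    rw [sub_pow_char_pow_of_commute p m (Commute.one_right _), one_pow, single_pow, one_pow,
      ← hm, pow_orderOf_eq_one, ← one_def, sub_self]
  have hUT : Commute U T := by
    show U * T = T * U
    rw [single_mul_single, single_mul_single, hcomm.eq]
  have hg : (single g (1 : k) : MonoidAlgebra k G) = T + (U - 1) * T := by
    rw [sub_mul, one_mul, single_mul_single, hst, one_mul]
    abel
  rw [hg, map_add, map_add]
  have hn : IsNilpotent (ρ ((U - 1) * T)) :=
    (Commute.isNilpotent_mul_right (hUT.sub_left (Commute.one_left _)) ⟨_, hnil⟩).map ρ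
  rw [(LinearMap.isNilpotent_trace_of_isNilpotent hn).eq_zero, add_zero]

end Shift

section Bound

variable {G : Type u} [Group G] [Finite G] {p : ℕ} {M : Ideal Cfsg.AlgInt}
  {B : Set (Cfsg.IrrCharacter G)}

/-- Independent trace-like functions of a block are at most as many as its rank. -/
theorem card_le_blockRank (hM : Cfsg.IsPModular p M) (hB : Cfsg.IsPBlock M B) {eB : IntAlg hM G}
    (heB : inc hM eB = blockIdem B) {ι : Type*} [Fintype ι]
    (τ : ι → (MonoidAlgebra (Res hM) G →ₗ[Res hM] Res hM))
    (hcomm : ∀ i x y, τ i (x * y) = τ i (y * x))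
    (hreg : ∀ i (g s t : G), Cfsg.IsPPart p g s → s * t = g → Commute s t →
      τ i (single g 1) = τ i (single t 1))
    (hblock : ∀ i x, τ i (red hM eB * x) = τ i x) (hind : LinearIndependent (Res hM) τ) :
    Fintype.card ι ≤ Cfsg.blockRank p B := by
  classical
  haveI := fact_prime_of_pm hM
  haveI := Fintype.ofFinite G
  haveI := Fintype.ofFinite (Cfsg.IrrCharacter G)
  haveI := Fintype.ofFinite (ConjClasses G)
  set k := Res hM with hk
  set v : {g : G // ¬ p ∣ orderOf g} → ι → k := fun g i => τ i (single (g : G) 1)
  -- the values at regular elements span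
  have hspan : Submodule.span k (Set.range v) = ⊤ := by
    by_contra hne
    obtain ⟨x, hx⟩ := SetLike.exists_not_mem_of_ne_top _ hne
    obtain ⟨φ, hφx, hφ⟩ := Submodule.exists_dual_map_eq_bot_of_notMem hx inferInstance
    set c : ι → k := fun i => φ (Pi.single i 1)
    have hφv : ∀ y : ι → k, φ y = ∑ i, y i * c i := fun y => by
      conv_lhs => rw [← Finset.univ_sum_single y, map_sum]
      refine Finset.sum_congr rfl fun i _ => ?_
      rw [show Pi.single i (y i) = y i • (Pi.single i (1 : k) : ι → k) by
        rw [← Pi.single_smul, smul_eq_mul, mul_one], map_smul, smul_eq_mul]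
    have hsum : ∑ i, c i • τ i = 0 := by
      refine (MonoidAlgebra.basis G k).ext fun g => ?_
      rw [MonoidAlgebra.basis_apply, LinearMap.sum_apply, LinearMap.zero_apply]
      obtain ⟨s, hs⟩ := exists_ppart hM.1 g
      obtain ⟨t, ht, hc, -, htr⟩ := id hs
      have h0 : φ (v ⟨t, htr⟩) = 0 := (Submodule.eq_bot_iff _).1 hφ _
        (Submodule.mem_map_of_mem (Submodule.subset_span ⟨⟨t, htr⟩, rfl⟩))
      rw [hφv] at h0
      rw [← h0]
      refine Finset.sum_congr rfl fun i _ => ?_
      rw [LinearMap.smul_apply, smul_eq_mul, hreg i g s t hs ht hc]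
      exact mul_comm _ _
    have hc0 := Fintype.linearIndependent_iff.1 hind c hsum
    exact hφx (by rw [hφv]; simp [hc0])
  obtain ⟨b, hbsub, hbspan, hbind⟩ := exists_linearIndependent k (Set.range v)
  haveI : Finite b := hbind.finite
  haveI := Fintype.ofFinite b
  have hcard : Fintype.card ι = Fintype.card b := by
    rw [← Module.finrank_fintype_fun_eq_card k (η := ι), ← finrank_top k (ι → k), ← hspan, ← hbspan,
      ← finrank_span_eq_card hbind, Subtype.range_coe]
  choose gg hgg using fun y : b => hbsub y.2
  -- the class coordinates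
  set out : ConjClasses G → G := fun C => Quotient.out C with hout
  have hmk : ∀ C : ConjClasses G, ConjClasses.mk (out C) = C := fun C => Quotient.out_eq C
  set L : (ConjClasses G → k) →ₗ[k] (ι → k) :=
    LinearMap.pi fun i => ∑ C : ConjClasses G, (τ i (single (out C) 1)) • LinearMap.proj C
  have hL : ∀ x i, L (classCoeff x) i = τ i x := by
    intro x i
    have h : ((LinearMap.proj i).comp L).comp (classCoeff (G := G) (k := k)) = τ i := by
      refine (MonoidAlgebra.basis G k).ext fun g => ?_
      rw [MonoidAlgebra.basis_apply, LinearMap.comp_apply, LinearMap.comp_apply, LinearMap.proj_apply,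
        LinearMap.pi_apply, LinearMap.sum_apply, classCoeff_single]
      simp only [LinearMap.smul_apply, LinearMap.proj_apply, smul_eq_mul]
      rw [Finset.sum_eq_single_of_mem (ConjClasses.mk g) (Finset.mem_univ _)]
      · obtain ⟨a, ha⟩ := isConj_iff.1 (ConjClasses.mk_eq_mk_iff_isConj.1 (hmk (ConjClasses.mk g)))
        simp only [Pi.single_apply, ↓reduceIte, mul_one]
        conv_rhs => rw [← ha]
        conv_lhs => rw [show (single (out (ConjClasses.mk g)) 1 : MonoidAlgebra k G) =
          (single a⁻¹ 1 * single a 1) * single (out (ConjClasses.mk g)) 1 by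
          rw [single_mul_single, one_mul, inv_mul_cancel, ← one_def, one_mul],
          mul_assoc, hcomm, single_mul_single, single_mul_single, one_mul, one_mul]
      · intro C _ hC
        simp [Pi.single_apply, hC]
    exact LinearMap.congr_fun h x
  set w : b → ConjClasses G → Loc hM := fun y => classCoeff (eB * single ((gg y : G)) 1)
  have hwind : LinearIndependent k fun y C => IsLocalRing.residue (Loc hM) (w y C) := by
    refine LinearIndependent.of_comp L ?_
    have : (L ∘ fun y C => IsLocalRing.residue (Loc hM) (w y C)) = fun y : b => (y : ι → k) := by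
      funext y i
      have h1 : (fun C => IsLocalRing.residue (Loc hM) (w y C)) =
          classCoeff (red hM eB * single ((gg y : G)) 1) := by
        funext C
        rw [classCoeff_map (IsLocalRing.residue (Loc hM)), map_mul]
        simp
      show L (fun C => IsLocalRing.residue (Loc hM) (w y C)) i = _
      rw [h1, hL, hblock, ← hgg y]
    rw [this]
    exact hbind
  set ι' := (Loc hM).subtype
  have hcind : LinearIndependent ℂ fun y C => ι' (w y C) := by
    rw [Fintype.linearIndependent_iff]
    intro c hc
    by_contra hne
    push Not at hne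
    obtain ⟨y, hy⟩ := hne
    refine not_independent_residue ι' w c (fun h => hy (congrFun h y)) (fun C => ?_) hwind
    have := congrFun hc C
    simpa [Finset.sum_apply, mul_comm] using this
  -- they are images of regular parts
  set Λ : (G → ℂ) →ₗ[ℂ] (ConjClasses G → ℂ) :=
    LinearMap.pi fun C => (Nat.card (Subgroup.centralizer ({out C} : Set G)) : ℂ)⁻¹ •
      LinearMap.proj (out C)⁻¹
  have hmem : ∀ y, (fun C => ι' (w y C)) ∈ (Submodule.span ℂ
      ((fun χ : Cfsg.IrrCharacter G => Cfsg.pRegularPart p (χ : G → ℂ)) '' B)).map Λ := by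
    intro y
    refine ⟨∑ χ ∈ Finset.univ.filter (· ∈ B),
      (χ : G → ℂ) (gg y : G) • Cfsg.pRegularPart p (χ : G → ℂ),
      Submodule.sum_mem _ fun χ hχ => Submodule.smul_mem _ _
        (Submodule.subset_span ⟨χ, (Finset.mem_filter.1 hχ).2, rfl⟩), ?_⟩
    funext C
    set x := out C with hx
    have hn : (Nat.card (Subgroup.centralizer ({x} : Set G)) : ℂ) ≠ 0 :=
      Nat.cast_ne_zero.2 Nat.card_pos.ne'
    have key : classCoeff (inc hM (eB * single ((gg y : G)) 1)) (ConjClasses.mk x) *
        (Nat.card (Subgroup.centralizer ({x} : Set G)) : ℂ) =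
        ∑ χ ∈ Finset.univ.filter (· ∈ B), (χ : G → ℂ) (gg y : G) * conj ((χ : G → ℂ) x) := by
      rw [mul_comm, ← sum_conj_evalChar, map_mul, heB, Finset.sum_filter]
      refine Finset.sum_congr rfl fun χ _ => ?_
      rw [evalChar_central_mul χ (central_blockIdem B)]
      by_cases hχ : χ ∈ B
      · rw [if_pos hχ, omega_blockIdem_mem hχ, one_mul, push_single, map_one, evalChar_single,
          one_mul, mul_comm]
      · rw [if_neg hχ, omega_blockIdem_notMem hχ, zero_mul, mul_zero]
    rw [show ι' (w y C) = classCoeff (inc hM (eB * single ((gg y : G)) 1)) (ConjClasses.mk x) by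
      rw [hx, hmk]; exact classCoeff_map ι' _ _]
    simp only [Λ, LinearMap.pi_apply, LinearMap.smul_apply, LinearMap.proj_apply, smul_eq_mul,
      ← hx, Finset.sum_apply, Pi.smul_apply]
    rw [inv_mul_eq_iff_eq_mul₀ hn, mul_comm _ (classCoeff _ _), key]
    by_cases hxr : p ∣ orderOf x
    · have h0 := sum_block_reg_sing hM (intEl_blockIdem hM hB) (gg y).2 hxr
      rw [ZStar.Principal.finsum_mem_eq_sum_filter] at h0
      rw [h0]
      refine Finset.sum_eq_zero fun χ _ => ?_
      simp [Cfsg.pRegularPart, Cfsg.IsPRegular, hxr]
    · refine Finset.sum_congr rfl fun χ _ => ?_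
      simp [Cfsg.pRegularPart, Cfsg.IsPRegular, hxr, char_inv (irr_isCharacter χ)]
  refine hcard.le.trans (le_trans ?_ (Submodule.finrank_map_le Λ _))
  rw [← finrank_span_eq_card hcind]
  exact Submodule.finrank_mono (Submodule.span_le.2 (by rintro _ ⟨y, rfl⟩; exact hmem y))

end Bound

end Cfsg.Agent.BlockCharsA.CyclicDefect
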