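import Mathlib

/-!
# Integral vectors with the Gram matrix of the exceptional characters

Vectors whose inner products are `δ + e`, orthogonal to a positive vector and without a common
zero, in dimension at least `e` more than their number, are a common vector plus a signed unit
vector each, and the dimension is exactly `e` more.
-/

set_option autoImplicit false
set_option linter.unusedSectionVars false

namespace Cfsg.Agent.BlockCharsA.CyclicDefect.Table

variable {ι : Type*} [Fintype ι]

/-- An integral vector of norm two orthogonal to a positive vector is a difference of units. -/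
theorem exists_pair [DecidableEq ι] {v deg : ι → ℤ} (hdeg : ∀ x, 0 < deg x)
    (h2 : ∑ x, v x * v x = 2) (h0 : ∑ x, v x * deg x = 0) :
    ∃ x y, x ≠ y ∧ ∀ z, v z = (if z = x then 1 else 0) - (if z = y then 1 else 0) := by
  have hb : ∀ x, v x * v x ≤ 2 := fun x => by
    rw [← h2]
    exact Finset.single_le_sum (f := fun x => v x * v x) (fun z _ => mul_self_nonneg _)
      (Finset.mem_univ x)
  have h1 : ∀ x, v x = 0 ∨ v x = 1 ∨ v x = -1 := fun x => by
    have hx := hb x
    have hu : v x < 2 := by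
      by_contra h
      nlinarith
    have hl : -2 < v x := by
      by_contra h
      nlinarith
    omega
  set S := Finset.univ.filter fun x => v x ≠ 0 with hS
  have hsum : ∀ g : ι → ℤ, ∑ x, v x * g x = ∑ x ∈ S, v x * g x := fun g =>
    (Finset.sum_subset (Finset.subset_univ S) fun x _ hx => by
      rw [show v x = 0 by simpa [hS] using hx, zero_mul]).symm
  have hcard : S.card = 2 := by
    have h := h2
    rw [hsum, Finset.sum_congr rfl (g := fun _ => (1 : ℤ)) fun x hx => ?_, Finset.sum_const,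
      nsmul_one] at h
    · exact_mod_cast h
    · rcases h1 x with h | h | h
      · exact absurd h (Finset.mem_filter.1 hx).2
      all_goals rw [h]; norm_num
  obtain ⟨x, y, hxy, hSxy⟩ := Finset.card_eq_two.1 hcard
  rw [hsum, hSxy, Finset.sum_pair hxy] at h0
  have hz : ∀ z, z ≠ x → z ≠ y → v z = 0 := fun z hzx hzy => by
    by_contra h
    have : z ∈ S := Finset.mem_filter.2 ⟨Finset.mem_univ _, h⟩
    simp [hSxy, hzx, hzy] at this
  have hne : ∀ z, z = x ∨ z = y → v z ≠ 0 := fun z hz => by
    have : z ∈ S := by rw [hSxy]; simpa using hz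
    exact (Finset.mem_filter.1 this).2
  have hx := hdeg x
  have hy := hdeg y
  rcases h1 x with h | h | h
  · exact absurd h (hne x (.inl rfl))
  · refine ⟨x, y, hxy, fun z => ?_⟩
    have : v y = -1 := by
      rcases h1 y with h' | h' | h'
      · exact absurd h' (hne y (.inr rfl))
      · rw [h, h'] at h0; linarith
      · exact h'
    split_ifs with e1 e2 <;> subst_vars <;> first | contradiction | simp_all
  · refine ⟨y, x, hxy.symm, fun z => ?_⟩
    have : v y = 1 := by
      rcases h1 y with h' | h' | h'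
      · exact absurd h' (hne y (.inr rfl))
      · exact h'
      · rw [h, h'] at h0; linarith
    split_ifs with e1 e2 <;> subst_vars <;> first | contradiction | simp_all

/-- Two differences of units with inner product one share one end. -/
theorem share_end [DecidableEq ι] {v w : ι → ℤ} {x y x' y' : ι} (hxy : x ≠ y) (hxy' : x' ≠ y')
    (hv : ∀ z, v z = (if z = x then 1 else 0) - (if z = y then 1 else 0))
    (hw : ∀ z, w z = (if z = x' then 1 else 0) - (if z = y' then 1 else 0))
    (h1 : ∑ z, v z * w z = 1) : (x = x' ∧ y ≠ y') ∨ (x ≠ x' ∧ y = y') := by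
  rw [Finset.sum_congr rfl fun z _ => by rw [hv z]] at h1
  simp only [sub_mul, ite_mul, one_mul, zero_mul, Finset.sum_sub_distrib, Finset.sum_ite_eq',
    Finset.mem_univ, if_true, hw] at h1
  split_ifs at h1 <;> first | omega | (subst_vars; simp_all)

variable {κ : Type*} [Fintype κ] [DecidableEq κ] [Nonempty κ]

/-- The structure of the vectors. -/
theorem exists_structure {deg : ι → ℤ} (hdeg : ∀ x, 0 < deg x) (b : κ → ι → ℤ) {e l : ℕ}
    (hG : ∀ i j, ∑ x, b i x * b j x = (if i = j then 1 else 0) + (e : ℤ))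
    (hcov : ∀ x, ∃ i, b i x ≠ 0) (h0 : ∀ i, ∑ x, b i x * deg x = 0)
    (hcard : Fintype.card ι = l + Fintype.card κ) (hle : e ≤ l) [DecidableEq ι] :
    l = e ∧ ∃ (δ : ℤ) (ψ : κ → ι) (c : ι → ℤ), (δ = 1 ∨ δ = -1) ∧ Function.Injective ψ ∧
      (∀ i x, b i x = (if x = ψ i then δ else 0) + c x) ∧ (∀ i, c (ψ i) = 0) ∧
      ∀ x, (∀ i, x ≠ ψ i) → c x = 1 ∨ c x = -1 := by
  classical
  obtain ⟨i₁⟩ := ‹Nonempty κ›
  have hpos : 0 < Fintype.card κ := Fintype.card_pos
  have hunit : ∀ (s : Finset ι) (c : ι → ℤ), (∀ x ∈ s, c x ≠ 0) → ∀ k : ℕ,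
      ∑ x ∈ s, c x * c x ≤ k → k ≤ s.card → s.card = k ∧ ∀ x ∈ s, c x = 1 ∨ c x = -1 := by
    intro s c hne k hk hks
    have hone : ∀ x ∈ s, (1 : ℤ) ≤ c x * c x := fun x hx => by
      have := hne x hx
      have := mul_self_pos.2 this
      omega
    have hsle : (s.card : ℤ) ≤ ∑ x ∈ s, c x * c x := by
      simpa using Finset.sum_le_sum hone
    have heq : s.card = k := by omega
    refine ⟨heq, fun x hx => ?_⟩
    have hz : ∑ z ∈ s, (c z * c z - 1) = 0 := by
      rw [Finset.sum_sub_distrib, Finset.sum_const, nsmul_one]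
      omega
    have := (Finset.sum_eq_zero_iff_of_nonneg fun z hz => sub_nonneg.2 (hone z hz)).1 hz x hx
    exact mul_self_eq_one_iff.1 (by linarith)
  by_cases hm : ∀ j, j = i₁
  · have hm1 : Fintype.card κ = 1 := Fintype.card_eq_one_iff.2 ⟨i₁, hm⟩
    have hne : ∀ x ∈ (Finset.univ : Finset ι), b i₁ x ≠ 0 := fun x _ => by
      obtain ⟨i, hi⟩ := hcov x
      rwa [hm i] at hi
    obtain ⟨hc, h1⟩ := hunit _ _ hne (1 + e)
      (by rw [hG, if_pos rfl]; push_cast; exact le_rfl) (by rw [Finset.card_univ]; omega)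
    rw [Finset.card_univ] at hc
    obtain ⟨x₀⟩ : Nonempty ι := Fintype.card_pos_iff.1 (by omega)
    refine ⟨by omega, b i₁ x₀, fun _ => x₀, fun x => if x = x₀ then 0 else b i₁ x,
      h1 _ (Finset.mem_univ _), fun i j _ => (hm i).trans (hm j).symm, fun i x => ?_,
      fun i => if_pos rfl, fun x hx => ?_⟩
    · show b i x = (if x = x₀ then b i₁ x₀ else 0) + if x = x₀ then 0 else b i₁ x
      rw [hm i]
      by_cases h : x = x₀
      · rw [h, if_pos rfl, if_pos rfl, add_zero]
      · rw [if_neg h, if_neg h, zero_add]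
    · show (if x = x₀ then (0 : ℤ) else b i₁ x) = 1 ∨ (if x = x₀ then (0 : ℤ) else b i₁ x) = -1
      rw [if_neg (hx i₁)]
      exact h1 _ (Finset.mem_univ _)
  push Not at hm
  obtain ⟨j₂, hj₂⟩ := hm
  -- the differences
  have hDD : ∀ i j, ∑ x, (b i x - b i₁ x) * (b j x - b i₁ x) =
      (if i = j then 1 else 0) - (if i = i₁ then 1 else 0) - (if i₁ = j then 1 else 0) + 1 := by
    intro i j
    simp only [sub_mul, mul_sub, Finset.sum_sub_distrib, hG, if_true]
    ring
  have hpair : ∀ i, i ≠ i₁ → ∃ x y, x ≠ y ∧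
      ∀ z, b i z - b i₁ z = (if z = x then 1 else 0) - (if z = y then 1 else 0) := fun i hi =>
    exists_pair hdeg (by rw [hDD]; simp [hi, Ne.symm hi]) (by
      simp only [sub_mul, Finset.sum_sub_distrib, h0, sub_zero])
  have : Nonempty ι := (hpair j₂ hj₂).nonempty
  choose! X Y hXY hD using hpair
  have hshare : ∀ i j, i ≠ i₁ → j ≠ i₁ → i ≠ j →
      (X i = X j ∧ Y i ≠ Y j) ∨ (X i ≠ X j ∧ Y i = Y j) := fun i j hi hj hij =>
    share_end (hXY i hi) (hXY j hj) (hD i hi) (hD j hj) (by
      rw [hDD, if_neg hij, if_neg hi, if_neg (Ne.symm hj)]; norm_num)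
  obtain ⟨σ, a, f, hσ, hfa, hf, hDf⟩ : ∃ (σ : ℤ) (a : ι) (f : κ → ι), (σ = 1 ∨ σ = -1) ∧
      (∀ i, i ≠ i₁ → f i ≠ a) ∧ (∀ i j, i ≠ i₁ → j ≠ i₁ → f i = f j → i = j) ∧
      ∀ i, i ≠ i₁ → ∀ z, b i z - b i₁ z =
        σ * ((if z = f i then 1 else 0) - (if z = a then 1 else 0)) := by
    by_cases hall : ∀ i, i ≠ i₁ → Y i = Y j₂
    · refine ⟨1, Y j₂, X, .inl rfl, fun i hi => hall i hi ▸ hXY i hi, fun i j hi hj h => ?_,
        fun i hi z => by rw [hD i hi, one_mul, hall i hi]⟩
      by_contra hij
      rcases hshare i j hi hj hij with h' | h'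
      · exact h'.2 ((hall i hi).trans (hall j hj).symm)
      · exact h'.1 h
    · push Not at hall
      obtain ⟨i₃, hi₃, hne⟩ := hall
      have h3 : X i₃ = X j₂ := ((hshare i₃ j₂ hi₃ hj₂ fun h => hne (by rw [h])).resolve_right
        fun h => hne h.2).1
      have htop : ∀ i, i ≠ i₁ → X i = X j₂ := by
        intro i hi
        by_contra hX
        have hY : Y i = Y j₂ := ((hshare i j₂ hi hj₂ fun h => hX (by rw [h])).resolve_left
          fun h => hX h.1).2
        rcases hshare i₃ i hi₃ hi fun h => hne (by rw [h, hY]) with h | h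
        · exact hX (by rw [← h.1, h3])
        · exact hne (by rw [h.2, hY])
      refine ⟨-1, X j₂, Y, .inr rfl, fun i hi => by rw [← htop i hi]; exact (hXY i hi).symm,
        fun i j hi hj h => ?_, fun i hi z => by rw [hD i hi, htop i hi]; ring⟩
      by_contra hij
      rcases hshare i j hi hj hij with h' | h'
      · exact h'.2 h
      · exact h'.1 ((htop i hi).trans (htop j hj).symm)
  set ψ : κ → ι := fun i => if i = i₁ then a else f i with hψ
  have hψ1 : ψ i₁ = a := if_pos rfl
  have hψi : ∀ i, i ≠ i₁ → ψ i = f i := fun i hi => if_neg hi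
  have hψinj : Function.Injective ψ := fun i j h => by
    by_cases hi : i = i₁ <;> by_cases hj : j = i₁
    · rw [hi, hj]
    · rw [hψi j hj, hi, hψ1] at h; exact absurd h.symm (hfa j hj)
    · rw [hψi i hi, hj, hψ1] at h; exact absurd h (hfa i hi)
    · rw [hψi i hi, hψi j hj] at h; exact hf i j hi hj h
  set c : ι → ℤ := fun x => b i₁ x - if x = a then σ else 0 with hc
  have hbc : ∀ i x, b i x = (if x = ψ i then σ else 0) + c x := fun i x => by
    by_cases hi : i = i₁
    · simp only [hi, hψ1, hc]; ring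
    · have h := hDf i hi x
      simp only [hψi i hi, hc, mul_sub, mul_ite, mul_one, mul_zero] at h ⊢
      linarith
  have ht : ∀ i, c (ψ i) = c a := by
    intro i
    by_cases hi : i = i₁
    · rw [hi, hψ1]
    have h : ∑ x, b i₁ x * (b i x - b i₁ x) = -1 := by
      simp only [mul_sub, Finset.sum_sub_distrib, hG, if_true, if_neg (Ne.symm hi)]
      ring
    simp only [hDf i hi, mul_sub, mul_ite, mul_one, mul_zero, Finset.sum_sub_distrib,
      Finset.sum_ite_eq', Finset.mem_univ, if_true] at h
    simp only [hψi i hi, hc, if_neg (hfa i hi), if_true]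
    rcases hσ with rfl | rfl <;> omega
  set I := Finset.univ.image ψ with hI
  have hoffne : ∀ x ∈ Iᶜ, c x ≠ 0 := fun x hx h => by
    obtain ⟨i, hi⟩ := hcov x
    refine hi ?_
    rw [hbc, h, add_zero, if_neg]
    rintro rfl
    exact Finset.mem_compl.1 hx (Finset.mem_image_of_mem ψ (Finset.mem_univ i))
  have hIc : Iᶜ.card = l := by
    rw [Finset.card_compl, hI, Finset.card_image_of_injective _ hψinj, Finset.card_univ]
    omega
  set t := c a with ht'
  have hnorm : (Fintype.card κ : ℤ) * (t * t) + 2 * σ * t + ∑ x ∈ Iᶜ, c x * c x = e := by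
    have h := hG i₁ i₁
    rw [if_pos rfl, ← Finset.sum_add_sum_compl I, hI,
      Finset.sum_image fun i _ j _ h => hψinj h,
      Finset.sum_congr rfl fun i _ => by rw [hbc i₁ (ψ i), ht i],
      Finset.sum_congr rfl (g := fun x => c x * c x) (s₁ := (Finset.univ.image ψ)ᶜ) fun x hx => ?_]
      at h
    · rw [← hI] at h
      simp only [mul_add, add_mul, Finset.sum_add_distrib, Finset.sum_const, Finset.card_univ,
        nsmul_eq_mul, hψinj.eq_iff, ite_mul, mul_ite, zero_mul, mul_zero, Finset.sum_ite_eq',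
        Finset.mem_univ, if_true] at h
      have : σ * σ = 1 := by rcases hσ with rfl | rfl <;> rfl
      linarith
    · rw [hbc i₁ x, if_neg, zero_add]
      rintro rfl
      exact Finset.mem_compl.1 hx (Finset.mem_image_of_mem ψ (Finset.mem_univ i₁))
  have hm2 : 2 ≤ Fintype.card κ := Fintype.one_lt_card_iff.2 ⟨j₂, i₁, hj₂⟩
  have hoff1 : ∀ x ∈ Iᶜ, (1 : ℤ) ≤ c x * c x := fun x hx => by
    have := mul_self_pos.2 (hoffne x hx); omega
  have hoffle : (l : ℤ) ≤ ∑ x ∈ Iᶜ, c x * c x := by
    rw [← hIc]; simpa using Finset.sum_le_sum hoff1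
  have hcase : t = 0 ∨ (Fintype.card κ = 2 ∧ t = -σ) := by
    have hA : (2 : ℤ) ≤ Fintype.card κ := by exact_mod_cast hm2
    have hB : (e : ℤ) ≤ l := by exact_mod_cast hle
    rcases eq_or_ne t 0 with h | h
    · exact .inl h
    refine .inr ?_
    have htt := mul_self_pos.2 h
    rcases hσ with rfl | rfl
    · have hle0 : t * (2 * t + 2) ≤ 0 := by nlinarith
      have h1 : t = -1 := by
        rcases lt_trichotomy t (-1) with h' | h' | h'
        · nlinarith
        · exact h'
        · have : 1 ≤ t := by omega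
          nlinarith
      refine ⟨?_, h1⟩
      rw [h1] at hnorm
      omega
    · have hle0 : t * (2 * t - 2) ≤ 0 := by nlinarith
      have h1 : t = 1 := by
        rcases lt_trichotomy t 1 with h' | h' | h'
        · have : t ≤ -1 := by omega
          nlinarith
        · exact h'
        · nlinarith
      refine ⟨?_, by rw [h1]; rfl⟩
      rw [h1] at hnorm
      omega
  have hsum : ∑ x ∈ Iᶜ, c x * c x = e := by
    rcases hcase with h | ⟨hk, h⟩
    · rw [h] at hnorm; simpa using hnorm
    · rw [h, hk] at hnorm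
      rcases hσ with rfl | rfl <;> push_cast at hnorm <;> linarith
  obtain ⟨hl, hpm⟩ := hunit _ c hoffne e (le_of_eq hsum) (hIc ▸ hle)
  refine ⟨hIc.symm.trans hl, ?_⟩
  have hoff : ∀ x, (∀ i, x ≠ ψ i) → x ∈ Iᶜ := fun x hx => Finset.mem_compl.2 fun h => by
    obtain ⟨i, -, rfl⟩ := Finset.mem_image.1 h
    exact hx i rfl
  rcases hcase with h | ⟨hk, h⟩
  · exact ⟨σ, ψ, c, hσ, hψinj, hbc, fun i => (ht i).trans h, fun x hx => hpm x (hoff x hx)⟩
  · have huniv : (Finset.univ : Finset κ) = {i₁, j₂} :=
      (Finset.eq_univ_of_card _ (by rw [Finset.card_pair (Ne.symm hj₂), hk])).symm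
    have hall : ∀ i, i = i₁ ∨ i = j₂ := fun i => by
      have := Finset.mem_univ i
      rwa [huniv, Finset.mem_insert, Finset.mem_singleton] at this
    set τ := Equiv.swap i₁ j₂
    refine ⟨-σ, ψ ∘ τ, fun x => if x ∈ I then 0 else c x, by rcases hσ with rfl | rfl <;> simp,
      hψinj.comp τ.injective, fun i x => ?_, fun i => if_pos
        (Finset.mem_image_of_mem ψ (Finset.mem_univ _)), fun x hx => ?_⟩
    · rw [hbc]
      simp only [Function.comp]
      by_cases hx : x ∈ I
      · rw [if_pos hx, add_zero]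
        obtain ⟨j, -, rfl⟩ := Finset.mem_image.1 hx
        rw [ht j, h]
        simp only [hψinj.eq_iff]
        rcases hall i with rfl | rfl <;> rcases hall j with rfl | rfl <;>
          simp [τ, hj₂, Ne.symm hj₂]
      · rw [if_neg hx, if_neg, if_neg]
        all_goals (rintro rfl; exact hx (Finset.mem_image_of_mem ψ (Finset.mem_univ _)))
    · have hxI : x ∉ I := fun hxI => by
        obtain ⟨j, -, rfl⟩ := Finset.mem_image.1 hxI
        exact hx (τ j) (by simp [τ])
      show (if x ∈ I then (0 : ℤ) else c x) = 1 ∨ (if x ∈ I then (0 : ℤ) else c x) = -1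
      rw [if_neg hxI]
      exact hpm x (Finset.mem_compl.2 hxI)

end Cfsg.Agent.BlockCharsA.CyclicDefect.Table
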