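import Mathlib
import Cfsg.Agent.Lib.CharTheory.CyclicCofactor.Fourier
import Cfsg.Agent.BlockCharsA.CyclicDefect.Table

/-!
# The exceptional vectors from the values on the orbits

Functions on the residues modulo `q` that are integral Fourier sums, invariant under a free group
of multipliers and orthogonal on the orbits, are constants or single orbit sums up to signs.
-/

set_option autoImplicit false
set_option linter.unusedSectionVars false

namespace Cfsg.Agent.BlockCharsA.CyclicDefect.FourierTable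

open Cfsg.Agent.CharTheory.CyclicCofactor
open scoped ComplexConjugate

variable {q : ℕ} [NeZero q]

theorem sum_shift (c : ZMod q) :
    ∑ x : ZMod q, ZMod.stdAddChar (c * x) = if c = 0 then (q : ℂ) else 0 := by
  simp only [mul_comm c]
  rw [AddChar.sum_mulShift c (ZMod.isPrimitive_stdAddChar q), ZMod.card]
  split <;> simp

theorem conj_std (x : ZMod q) : conj (ZMod.stdAddChar x) = ZMod.stdAddChar (-x) :=
  (AddChar.map_neg_eq_conj ZMod.stdAddChar x).symm

theorem sum_nonzero (F : ZMod q → ℂ) :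
    ∑ x ∈ Finset.univ.filter (· ≠ (0 : ZMod q)), F x = (∑ x, F x) - F 0 := by
  rw [Finset.filter_ne', Finset.sum_erase_eq_sub (Finset.mem_univ _)]

/-- The sum over an orbit. -/
noncomputable def orb (S : Finset (ZMod q)) (t x : ZMod q) : ℂ :=
  ∑ b ∈ S, ZMod.stdAddChar (b * t * x)

variable {S R : Finset (ZMod q)}

theorem sum_orb (hS : IsFree S) (hR : IsReps S R) {x : ZMod q} (hx : x ≠ 0) :
    ∑ t ∈ R, orb S t x = -1 := by
  simp only [orb]
  rw [sum_orbits hS hR fun j => ZMod.stdAddChar (j * x), sum_nonzero]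
  simp only [mul_comm _ x]
  rw [sum_shift, if_neg hx]
  simp

theorem sum_nonzero_orb (hS : IsFree S) (hR : IsReps S R) {t : ZMod q} (ht : t ∈ R) :
    ∑ x ∈ Finset.univ.filter (· ≠ (0 : ZMod q)), conj (orb S t x) = -(S.card : ℂ) := by
  simp only [orb, map_sum, conj_std]
  rw [Finset.sum_comm, Finset.sum_congr rfl (g := fun _ => (-1 : ℂ)) fun b hb => ?_, Finset.sum_const,
    nsmul_eq_mul, mul_neg, mul_one]
  rw [sum_nonzero]
  simp only [← neg_mul]
  rw [sum_shift, if_neg]
  · simp
  · rw [neg_mul]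
    exact neg_ne_zero.2 fun h => hR.ne_zero _ ht ((hS.mul_eq_zero_iff hb).1 h)

set_option maxHeartbeats 800000 in
/-- The exceptional and non-exceptional vectors. -/
theorem exists_exceptional (hS : IsFree S) (hR : IsReps S R) (hq : 1 < q) {ι : Type*} [Fintype ι]
    (n : ι → ZMod q → ℤ) (D : ι → ZMod q → ℂ)
    (hD : ∀ i x, x ≠ 0 → D i x = ∑ j, (n i j : ℂ) * ZMod.stdAddChar (j * x))
    (hinv : ∀ i, ∀ b ∈ S, ∀ x, x ≠ 0 → D i (b * x) = D i x)
    (horth : ∀ r ∈ R, ∀ r' ∈ R, ∑ i, D i r * conj (D i r') = if r = r' then (q : ℂ) else 0)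
    (hne : ∀ i, ∃ x, x ≠ 0 ∧ D i x ≠ 0) (deg : ι → ℤ) (hdeg : ∀ i, 0 < deg i)
    (hdeg0 : ∀ r ∈ R, ∑ i, conj (D i r) * (deg i : ℂ) = 0) {l : ℕ}
    (hcard : Fintype.card ι = l + R.card) (hle : S.card ≤ l) :
    l = S.card ∧ ∃ (δ : ℤ) (Ψ : R → ι) (c : ι → ℤ), (δ = 1 ∨ δ = -1) ∧ Function.Injective Ψ ∧
      (∀ t, c (Ψ t) = 0) ∧ (∀ i, (∀ t, i ≠ Ψ t) → c i = 1 ∨ c i = -1) ∧
      (∀ (t : R) x, x ≠ 0 → D (Ψ t) x = (δ : ℂ) * orb S t x) ∧
      (∀ i, (∀ t, i ≠ Ψ t) → ∀ x, x ≠ 0 → D i x = -(c i : ℂ)) ∧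
      ∀ F : ι → ℂ, (∀ r ∈ R, ∑ i, conj (D i r) * F i = 0) →
        ∀ t, (δ : ℂ) * F (Ψ t) + ∑ i, (c i : ℂ) * F i = 0 := by
  classical
  have hq0 : (q : ℂ) ≠ 0 := Nat.cast_ne_zero.2 (NeZero.ne q)
  set a : ZMod q → ι → ℤ := fun t i => n i t - n i 0 with ha
  have hform : ∀ t i, (q : ℂ) * (a t i : ℂ) = ∑ r ∈ R, D i r * conj (eta S t r) := by
    intro t i
    have h1 : ∑ r ∈ R, D i r * conj (eta S t r) =
        ∑ x ∈ Finset.univ.filter (· ≠ (0 : ZMod q)),
          D i x * (ZMod.stdAddChar (-(t * x)) - 1) := by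
      rw [← sum_orbits hS hR]
      refine Finset.sum_congr rfl fun r hr => ?_
      simp only [eta, map_sum, map_sub, map_one, conj_std, Finset.mul_sum]
      refine Finset.sum_congr rfl fun b hb => ?_
      rw [hinv i b hb r (hR.ne_zero r hr), show -(b * t * r) = -(t * (b * r)) by ring]
    rw [h1, Finset.sum_congr rfl fun x hx => by rw [hD i x (Finset.mem_filter.1 hx).2], sum_nonzero]
    simp only [mul_zero, neg_zero, AddChar.map_zero_eq_one, sub_self, sub_zero, Finset.sum_mul]
    rw [Finset.sum_comm, Finset.sum_congr rfl (g := fun j => (n i j : ℂ) *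
      ((if j - t = 0 then (q : ℂ) else 0) - if j = 0 then (q : ℂ) else 0)) fun j _ => ?_]
    · simp only [mul_sub, mul_ite, mul_zero, Finset.sum_sub_distrib, sub_eq_zero,
        Finset.sum_ite_eq', Finset.mem_univ, if_true, ha]
      push_cast
      ring
    · rw [← sum_shift, ← sum_shift, ← Finset.sum_sub_distrib, Finset.mul_sum]
      refine Finset.sum_congr rfl fun x _ => ?_
      rw [mul_assoc, mul_sub, mul_one, ← AddChar.map_add_eq_mul,
        show j * x + -(t * x) = (j - t) * x by ring]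
  have hainv : ∀ t i, ∀ b ∈ S, a (b * t) i = a t i := fun t i b hb => by
    apply Int.cast_injective (α := ℂ)
    refine mul_left_cancel₀ hq0 ?_
    rw [hform, hform]
    refine Finset.sum_congr rfl fun r _ => ?_
    rw [show eta S (b * t) r = eta S t (b * r) from Finset.sum_congr rfl fun x _ => by
      rw [show x * (b * t) * r = x * t * (b * r) by ring], eta_mul hS hb]
  have hDa : ∀ i x, x ≠ 0 → D i x = ∑ t ∈ R, (a t i : ℂ) * orb S t x := by
    intro i x hx
    have h0 : ∑ j, ZMod.stdAddChar (j * x) = (0 : ℂ) := by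
      simp only [mul_comm _ x]
      rw [sum_shift, if_neg hx]
    simp only [orb, Finset.mul_sum]
    rw [Finset.sum_congr rfl fun t _ => Finset.sum_congr rfl fun b hb => by
      rw [← hainv t i b hb], sum_orbits hS hR fun j => (a j i : ℂ) * ZMod.stdAddChar (j * x),
      sum_nonzero]
    simp only [ha, Int.cast_sub, sub_mul, Finset.sum_sub_distrib, ← Finset.mul_sum, h0, mul_zero,
      sub_zero, sub_self, Int.cast_zero, zero_mul, hD i x hx]
  have hF : ∀ F : ι → ℂ, (∀ r ∈ R, ∑ i, conj (D i r) * F i = 0) →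
      ∀ t, ∑ i, (a t i : ℂ) * F i = 0 := by
    intro F hF t
    refine mul_left_cancel₀ hq0 ?_
    rw [Finset.mul_sum, mul_zero]
    calc ∑ i, (q : ℂ) * ((a t i : ℂ) * F i) = ∑ i, ∑ r ∈ R, eta S t r * (conj (D i r) * F i) := by
          refine Finset.sum_congr rfl fun i _ => ?_
          have h := congrArg conj (hform t i)
          rw [map_mul, map_sum, Complex.conj_natCast, map_intCast] at h
          rw [← mul_assoc, h, Finset.sum_mul]
          exact Finset.sum_congr rfl fun r _ => by rw [map_mul, Complex.conj_conj]; ring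
      _ = 0 := by
          rw [Finset.sum_comm]
          exact Finset.sum_eq_zero fun r hr => by rw [← Finset.mul_sum, hF r hr, mul_zero]
  have : Nonempty R := by
    obtain ⟨r, hr, -⟩ := hR.cover 1 fun h => by
      have : Fact (1 < q) := ⟨hq⟩
      exact one_ne_zero h
    exact ⟨⟨r, hr⟩⟩
  have hG : ∀ t t' : R, ∑ i, a t i * a t' i = (if t = t' then 1 else 0) + (S.card : ℤ) := by
    intro t t'
    apply Int.cast_injective (α := ℂ)
    refine mul_left_cancel₀ (mul_ne_zero hq0 hq0) ?_
    push_cast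
    calc (q : ℂ) * q * ∑ i, (a t i : ℂ) * (a t' i : ℂ)
        = ∑ i, (∑ r ∈ R, D i r * conj (eta S t r)) *
            conj (∑ r ∈ R, D i r * conj (eta S t' r)) := by
          rw [Finset.mul_sum]
          refine Finset.sum_congr rfl fun i _ => ?_
          rw [← hform, ← hform, map_mul, Complex.conj_natCast, map_intCast]
          ring
      _ = ∑ r ∈ R, ∑ r' ∈ R,
            conj (eta S t r) * eta S t' r' * ∑ i, D i r * conj (D i r') := by
          simp only [map_sum, map_mul, Complex.conj_conj, Finset.sum_mul, Finset.mul_sum]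
          conv_rhs => rw [Finset.sum_comm]
          rw [Finset.sum_comm]
          refine Finset.sum_congr rfl fun r _ => ?_
          rw [Finset.sum_comm]
          exact Finset.sum_congr rfl fun r' _ => Finset.sum_congr rfl fun i _ => by ring
      _ = (q : ℂ) * ∑ r ∈ R, conj (eta S t r) * eta S t' r := by
          rw [Finset.mul_sum]
          refine Finset.sum_congr rfl fun r hr => ?_
          rw [Finset.sum_congr rfl fun r' hr' => by rw [horth r hr r' hr', mul_ite, mul_zero],
            Finset.sum_ite_eq, if_pos hr]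
          ring
      _ = _ := by
          rw [gram hS hR t.2 t'.2]
          simp only [Subtype.coe_inj]
          ring
  have hcov : ∀ i, ∃ t : R, a t i ≠ 0 := by
    intro i
    by_contra h
    push Not at h
    obtain ⟨x, hx, hxne⟩ := hne i
    refine hxne ?_
    rw [hDa i x hx]
    exact Finset.sum_eq_zero fun t ht => by rw [h ⟨t, ht⟩, Int.cast_zero, zero_mul]
  have hzero : ∀ t : R, ∑ i, a t i * deg i = 0 := by
    intro t
    apply Int.cast_injective (α := ℂ)
    push_cast
    exact hF _ hdeg0 t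
  obtain ⟨hl, δ, Ψ, c, hδ, hinj, hb, hc0, hc1⟩ := Table.exists_structure hdeg
    (fun (t : R) i => a t i) (e := S.card) (l := l) hG hcov hzero
    (by rw [hcard, Fintype.card_coe]) hle
  refine ⟨hl, δ, Ψ, c, hδ, hinj, hc0, hc1, fun t x hx => ?_, fun i hi x hx => ?_,
    fun F hF' t => ?_⟩
  · rw [hDa _ _ hx, ← Finset.sum_coe_sort,
      Finset.sum_congr rfl fun s _ => by
        rw [hb s (Ψ t), hc0, add_zero, Int.cast_ite, Int.cast_zero, ite_mul, zero_mul]]
    simp only [hinj.eq_iff, Finset.sum_ite_eq, Finset.mem_univ, if_true]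
  · rw [hDa _ _ hx, ← Finset.sum_coe_sort,
      Finset.sum_congr rfl fun s _ => by rw [hb s i, if_neg (hi s), zero_add],
      ← Finset.mul_sum, Finset.sum_coe_sort R fun t => orb S t x, sum_orb hS hR hx]
    ring
  · have h := hF F hF' t
    simp only [hb t, Int.cast_add, Int.cast_ite, Int.cast_zero, add_mul, Finset.sum_add_distrib,
      ite_mul, zero_mul, Finset.sum_ite_eq', Finset.mem_univ, if_true] at h
    exact h

end Cfsg.Agent.BlockCharsA.CyclicDefect.FourierTable
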