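import Mathlib
import Cfsg.Prelude.Def_BlockLocal
import Cfsg.Agent.Lib.Blocks.LocalRing
import Cfsg.Agent.Lib.Blocks.Block
import Cfsg.Agent.Lib.Characters.Induction
import Cfsg.Agent.Lib.ZStar.Principal
import Cfsg.Agent.BlockCharsA.CyclicDefect.FourierTable

/-!
# A perfect isometry between two blocks with the same exceptional table

Two sets of characters whose values at the singular elements are combinations of the same orbit
sums, with the same signed relation on the regular elements, are perfectly isometric.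
-/

set_option linter.style.haveILetI false
set_option linter.unusedSectionVars false

namespace Cfsg.Agent.BlockCharsA.CyclicDefect

open Cfsg.Agent.Blocks Cfsg.Agent.Characters Cfsg.Agent.CharTheory.CyclicCofactor
open scoped ComplexConjugate

universe u v

/-- Linear combinations of characters vanishing at the singular elements are divisible by the
orders of the centralisers. -/
theorem ring_div_centralizer {X : Type u} [Group X] [Finite X] {p : ℕ} {M : Ideal Cfsg.AlgInt}
    (hM : Cfsg.IsPModular p M) {ι : Type*} [Fintype ι] (θ : ι → Cfsg.IrrCharacter X) (a : ι → ℂ)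
    (ha : ∀ i, Cfsg.MemLocalRing M (a i))
    (h0 : ∀ x : X, p ∣ orderOf x → ∑ i, a i * (θ i : X → ℂ) x = 0) (g : X) :
    Cfsg.MemLocalRing M ((∑ i, a i * (θ i : X → ℂ) g) /
      (Nat.card (Subgroup.centralizer ({g} : Set X)) : ℂ)) := by
  classical
  haveI := fact_prime_of_pm hM
  by_cases hg : p ∣ orderOf g
  · rw [h0 g hg, zero_div]; exact ring_zero hM
  obtain ⟨C, hC⟩ : ∃ C : Subgroup X, C = Subgroup.centralizer ({g} : Set X) := ⟨_, rfl⟩
  rw [← hC]
  obtain ⟨S⟩ : Nonempty (Sylow p C) := inferInstance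
  haveI := Fintype.ofFinite (S : Subgroup C)
  haveI := Fintype.ofFinite (Subgroup.zpowers g)
  haveI := Fintype.ofFinite (Cfsg.IrrCharacter (Subgroup.zpowers g))
  have hCmem : ∀ y ∈ C, Commute g y := fun y hy => by
    rw [hC, Subgroup.mem_centralizer_singleton_iff] at hy
    exact hy.symm
  have hcomm : ∀ (y : Subgroup.zpowers g) (x : (S : Subgroup C)),
      Commute (y : X) ((x : C) : X) := by
    rintro ⟨y, k, rfl⟩ x
    exact Commute.zpow_left (hCmem _ (x : C).2) k
  let ι' : Subgroup.zpowers g × (S : Subgroup C) →* X :=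
    MonoidHom.noncommCoprod (Subgroup.zpowers g).subtype (C.subtype.comp (S : Subgroup C).subtype)
      hcomm
  have hint : ∀ i, Cfsg.MemLocalRing M
      ((∑ x : (S : Subgroup C), (θ i : X → ℂ) (g * ((x : C) : X))) /
        (Nat.card (S : Subgroup C) : ℂ)) := by
    intro i
    have hz : ∀ ζ : Cfsg.IrrCharacter (Subgroup.zpowers g), ∃ z : ℤ,
        Cfsg.classInner (fun y => (θ i : X → ℂ) (ι' y))
          (fun y : Subgroup.zpowers g × (S : Subgroup C) =>
            (ζ : Subgroup.zpowers g → ℂ) y.1) = (z : ℂ) := fun ζ =>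
      classInner_gen_int (isGen_of_isCharacter (isCharacter_comp ι' (irr_isCharacter (θ i))))
        (isGen_of_isCharacter (isCharacter_comp (MonoidHom.fst (Subgroup.zpowers g) (S : Subgroup C))
          (irr_isCharacter ζ)))
    choose z hz using hz
    have key : (∑ x : (S : Subgroup C), (θ i : X → ℂ) (g * ((x : C) : X))) /
        (Nat.card (S : Subgroup C) : ℂ) =
        ∑ ζ : Cfsg.IrrCharacter (Subgroup.zpowers g),
          (ζ : Subgroup.zpowers g → ℂ) ⟨g, Subgroup.mem_zpowers g⟩ * (z ζ : ℂ) := by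
      have hzc : ∀ a b : Subgroup.zpowers g, a * b = b * a := by
        rintro ⟨a, i, rfl⟩ ⟨b, j, rfl⟩
        exact Subtype.ext (Commute.zpow_zpow_self g i j).eq
      have horth : ∀ y : Subgroup.zpowers g, ∑ ζ : Cfsg.IrrCharacter (Subgroup.zpowers g),
          (ζ : Subgroup.zpowers g → ℂ) ⟨g, Subgroup.mem_zpowers g⟩ *
            conj ((ζ : Subgroup.zpowers g → ℂ) y) =
          if y = ⟨g, Subgroup.mem_zpowers g⟩ then (Nat.card (Subgroup.zpowers g) : ℂ) else 0 := by
        intro y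
        rw [second_orthogonality]
        by_cases h : y = ⟨g, Subgroup.mem_zpowers g⟩
        · subst h
          rw [if_pos (IsConj.refl _), if_pos rfl]
          congr 1
          refine Nat.card_congr (Equiv.subtypeUnivEquiv fun x => ?_)
          exact Subgroup.mem_centralizer_singleton_iff.2 (hzc _ _)
        · rw [if_neg fun hc => h ?_, if_neg h]
          obtain ⟨c, hc⟩ := isConj_iff.1 hc
          rw [← hc, hzc c, mul_inv_cancel_right]
      simp only [← hz, classInner_def, Finset.mul_sum, Nat.card_prod, Nat.cast_mul]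
      rw [Finset.sum_comm, Fintype.sum_prod_type, Finset.sum_eq_single
        (⟨g, Subgroup.mem_zpowers g⟩ : Subgroup.zpowers g)]
      · rw [Finset.sum_div]
        refine Finset.sum_congr rfl fun x _ => ?_
        have hn : (Nat.card (Subgroup.zpowers g) : ℂ) ≠ 0 := natCard_ne_zero
        have hS : (Nat.card (S : Subgroup C) : ℂ) ≠ 0 := natCard_ne_zero
        have h := horth ⟨g, Subgroup.mem_zpowers g⟩
        rw [if_pos rfl] at h
        show _ = ∑ ζ : Cfsg.IrrCharacter (Subgroup.zpowers g), _ * (_ * ((θ i : X → ℂ)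
          (g * ((x : C) : X)) * conj ((ζ : Subgroup.zpowers g → ℂ) ⟨g, Subgroup.mem_zpowers g⟩)))
        calc _ = ((Nat.card (Subgroup.zpowers g) : ℂ) * (Nat.card (S : Subgroup C) : ℂ))⁻¹ *
              (θ i : X → ℂ) (g * ((x : C) : X)) * (Nat.card (Subgroup.zpowers g) : ℂ) := by
              field_simp
          _ = _ := by
              rw [← h, Finset.mul_sum]
              exact Finset.sum_congr rfl fun ζ _ => by ring
      · intro y _ hy
        refine Finset.sum_eq_zero fun x _ => ?_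
        have h := horth y
        rw [if_neg hy] at h
        calc _ = ((Nat.card (Subgroup.zpowers g) : ℂ) * (Nat.card (S : Subgroup C) : ℂ))⁻¹ *
              (θ i : X → ℂ) (ι' (y, x)) * ∑ ζ : Cfsg.IrrCharacter (Subgroup.zpowers g),
                (ζ : Subgroup.zpowers g → ℂ) ⟨g, Subgroup.mem_zpowers g⟩ *
                  conj ((ζ : Subgroup.zpowers g → ℂ) y) := by
              rw [Finset.mul_sum]
              exact Finset.sum_congr rfl fun ζ _ => by ring
          _ = 0 := by rw [h, mul_zero]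
      · exact fun h => absurd (Finset.mem_univ _) h
    rw [key]
    exact ring_sum hM fun ζ _ => ring_mul hM
      (ring_of_isIntegral hM (char_value_isIntegral (irr_isCharacter ζ) _)) (ring_intCast hM _)
  have hsum : ∑ i, a i * ((∑ x : (S : Subgroup C), (θ i : X → ℂ) (g * ((x : C) : X))) /
      (Nat.card (S : Subgroup C) : ℂ)) =
      (∑ i, a i * (θ i : X → ℂ) g) / (Nat.card (S : Subgroup C) : ℂ) := by
    simp only [Finset.sum_div, Finset.mul_sum]
    rw [Finset.sum_comm, Finset.sum_eq_single (1 : (S : Subgroup C))]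
    · refine Finset.sum_congr rfl fun i _ => ?_
      rw [Subgroup.coe_one, Subgroup.coe_one, mul_one, mul_div_assoc]
    · intro x _ hx
      rw [← mul_zero ((Nat.card (S : Subgroup C) : ℂ)⁻¹), ← h0 (g * ((x : C) : X)) ?_,
        Finset.mul_sum]
      · exact Finset.sum_congr rfl fun i _ => by ring
      · have hc : Commute g ((x : C) : X) := hCmem _ (x : C).2
        obtain ⟨k, hk⟩ := IsPGroup.iff_orderOf.1 S.isPGroup' x
        have hk' : orderOf ((x : C) : X) = p ^ k := by
          rw [Subgroup.orderOf_coe, Subgroup.orderOf_coe, hk]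
        have hco : (orderOf g).Coprime (orderOf ((x : C) : X)) := by
          rw [hk']
          exact Nat.Coprime.pow_right _ ((hM.1.coprime_iff_not_dvd.2 hg).symm)
        rw [hc.orderOf_mul_eq_mul_orderOf_of_coprime hco, hk']
        refine dvd_mul_of_dvd_right (dvd_pow_self p fun hk0 => hx ?_) _
        rw [hk0, pow_zero, orderOf_eq_one_iff] at hk
        exact hk
    · exact fun h => absurd (Finset.mem_univ _) h
  have hdiv : Cfsg.MemLocalRing M
      ((Nat.card (S : Subgroup C) : ℂ) / (Nat.card C : ℂ)) :=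
    ring_natCast_div hM Nat.card_pos.ne'
      (by rw [Sylow.card_eq_multiplicity S, hM.1.factorization_pow, Finsupp.single_eq_same])
  have := ring_mul hM (hsum ▸ ring_sum hM fun i _ => ring_mul hM (ha i) (hint i)) hdiv
  rwa [div_mul_div_cancel₀ natCard_ne_zero] at this

variable {p : ℕ} {M : Ideal Cfsg.AlgInt} {q : ℕ} [NeZero q]

/-- The table of a set of characters over a free group `S` of multipliers with orbit
representatives `R`. -/
structure CycData (p : ℕ) (M : Ideal Cfsg.AlgInt) {X : Type u} [Group X]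
    (B : Set (Cfsg.IrrCharacter X)) (S R : Finset (ZMod q)) where
  Ψ : R → Cfsg.IrrCharacter X
  δ₀ : ℤ
  δ : Cfsg.IrrCharacter X → ℤ
  mem : ∀ t, Ψ t ∈ B
  inj : Function.Injective Ψ
  sign₀ : δ₀ = 1 ∨ δ₀ = -1
  sign : ∀ χ ∈ B \ Set.range Ψ, δ χ = 1 ∨ δ χ = -1
  card : Nat.card (B \ Set.range Ψ : Set (Cfsg.IrrCharacter X)) = S.card
  rel : ∀ t, ∀ g : X, ¬ p ∣ orderOf g →
    (δ₀ : ℂ) * (Ψ t : X → ℂ) g + ∑ᶠ χ ∈ B \ Set.range Ψ, (δ χ : ℂ) * (χ : X → ℂ) g = 0
  sec : ∀ g : X, p ∣ orderOf g → ∃ W : ZMod q → ℂ, W 0 = 0 ∧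
    (∀ i, Cfsg.MemLocalRing M (W i) ∧
      Cfsg.MemLocalRing M ((q : ℂ) * W i / (Nat.card (Subgroup.centralizer ({g} : Set X)) : ℂ))) ∧
    (∀ t, (Ψ t : X → ℂ) g = (δ₀ : ℂ) * ∑ i, W i * FourierTable.orb S t i) ∧
    ∀ χ ∈ B \ Set.range Ψ, (χ : X → ℂ) g = -(δ χ : ℂ) * ∑ i, W i

variable {S R : Finset (ZMod q)}

/-- The products of two orbit sums. -/
theorem sum_orb_mul (hS : IsFree S) (hR : IsReps S R) (i j : ZMod q) :
    (S.card : ℂ) + ∑ t ∈ R, FourierTable.orb S t i * FourierTable.orb S t j =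
      (q : ℂ) * ((S.filter fun b => b * i + j = 0).card : ℂ) := by
  classical
  have key : ∀ t, FourierTable.orb S t i * FourierTable.orb S t j =
      ∑ b ∈ S, ∑ a ∈ S, ZMod.stdAddChar ((a * t) * (b * i + j)) := by
    intro t
    simp only [FourierTable.orb, Finset.sum_mul, Finset.mul_sum]
    refine Eq.trans ?_ Finset.sum_comm
    refine Finset.sum_congr rfl fun a ha => ?_
    obtain ⟨d, hd, hda⟩ := hS.exists_inv ha
    refine Finset.sum_bij' (fun b _ => b * d) (fun b _ => b * a) (fun b hb => hS.mul_mem hb hd)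
      (fun b hb => hS.mul_mem hb ha) (fun b _ => by rw [mul_assoc, hda, mul_one])
      (fun b _ => by rw [mul_assoc, mul_comm a d, hda, mul_one]) fun b hb => ?_
    rw [← AddChar.map_add_eq_mul]
    congr 1
    calc b * t * i + a * t * j = (d * a) * (b * t * i) + a * t * j := by rw [hda, one_mul]
      _ = a * t * (b * d * i + j) := by ring
  simp only [key]
  rw [Finset.sum_comm, Finset.sum_congr rfl fun b _ =>
    sum_orbits hS hR fun x => ZMod.stdAddChar (x * (b * i + j))]
  simp only [FourierTable.sum_nonzero]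
  simp only [mul_comm _ (_ * i + j), FourierTable.sum_shift, mul_zero, AddChar.map_zero_eq_one,
    Finset.sum_sub_distrib, Finset.sum_const, nsmul_one]
  rw [← Finset.sum_filter, Finset.sum_const, nsmul_eq_mul]
  ring

variable {G : Type u} [Group G] [Finite G] {H : Type v} [Group H] [Finite H]
  {B : Set (Cfsg.IrrCharacter G)} {c : Set (Cfsg.IrrCharacter H)}

set_option maxHeartbeats 1000000 in
/-- Two sets of characters with the same table are perfectly isometric. -/
theorem exists_isometry (hM : Cfsg.IsPModular p M) (hS : IsFree S) (hR : IsReps S R)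
    (d : CycData p M B S R) (d' : CycData p M c S R) :
    ∃ (I : Cfsg.IrrCharacter H → Cfsg.IrrCharacter G) (ε : Cfsg.IrrCharacter H → ℤ),
      Cfsg.IsPerfectIsometry p M c B I ε ∧ (∀ t, I (d'.Ψ t) = d.Ψ t ∧ ε (d'.Ψ t) = d'.δ₀ * d.δ₀) ∧
      ∀ η ∈ c \ Set.range d'.Ψ,
        I η ∈ B \ Set.range d.Ψ ∧ ε η = d'.δ η * d.δ (I η) := by
  classical
  haveI := Fintype.ofFinite (Cfsg.IrrCharacter G)
  haveI := Fintype.ofFinite (Cfsg.IrrCharacter H)
  obtain ⟨t₁⟩ : Nonempty (Cfsg.IrrCharacter G) :=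
    ⟨⟨fun x => (1 : G →* ℂ) x, isIrrCharacter_monoidHom _⟩⟩
  set XB := B \ Set.range d.Ψ with hXB
  set Xc := c \ Set.range d'.Ψ with hXc
  obtain ⟨J⟩ : Nonempty (Xc ≃ XB) :=
    ⟨(Finite.card_eq.1 (d'.card.trans d.card.symm)).some⟩
  let I : Cfsg.IrrCharacter H → Cfsg.IrrCharacter G := fun η =>
    if h : η ∈ Xc then (J ⟨η, h⟩ : Cfsg.IrrCharacter G)
    else if h' : ∃ t, d'.Ψ t = η then d.Ψ h'.choose else t₁
  let ε : Cfsg.IrrCharacter H → ℤ := fun η =>
    if η ∈ Xc then d'.δ η * d.δ (I η) else d'.δ₀ * d.δ₀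
  have hnot : ∀ t, d'.Ψ t ∉ Xc := fun t h => h.2 ⟨t, rfl⟩
  have hIY : ∀ t, I (d'.Ψ t) = d.Ψ t := fun t => by
    have h' : ∃ s, d'.Ψ s = d'.Ψ t := ⟨t, rfl⟩
    simp only [I, dif_neg (hnot t), dif_pos h']
    rw [d'.inj h'.choose_spec]
  have hεY : ∀ t, ε (d'.Ψ t) = d'.δ₀ * d.δ₀ := fun t => if_neg (hnot t)
  have hIX : ∀ η (h : η ∈ Xc), I η = (J ⟨η, h⟩ : Cfsg.IrrCharacter G) := fun η h => dif_pos h
  have hεX : ∀ η ∈ Xc, ε η = d'.δ η * d.δ (I η) := fun η h => if_pos h
  have hc_cases : ∀ η ∈ c, η ∈ Xc ∨ ∃ t, d'.Ψ t = η := fun η hη => by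
    by_cases h : η ∈ Set.range d'.Ψ
    exacts [.inr h, .inl ⟨hη, h⟩]
  have hbij : Set.BijOn I c B := by
    refine ⟨fun η hη => ?_, fun η hη η' hη' h => ?_, fun χ hχ => ?_⟩
    · rcases hc_cases η hη with h | ⟨t, rfl⟩
      · rw [hIX η h]; exact (J _).2.1
      · rw [hIY]; exact d.mem t
    · rcases hc_cases η hη with h1 | ⟨t, rfl⟩ <;> rcases hc_cases η' hη' with h2 | ⟨t', rfl⟩
      · rw [hIX η h1, hIX η' h2] at h
        exact congrArg Subtype.val (J.injective (Subtype.ext h))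
      · rw [hIX η h1, hIY] at h
        exact absurd ⟨t', h.symm⟩ (J ⟨η, h1⟩).2.2
      · rw [hIY, hIX η' h2] at h
        exact absurd ⟨t, h⟩ (J ⟨η', h2⟩).2.2
      · rw [hIY, hIY] at h
        rw [d.inj h]
    · by_cases h : χ ∈ Set.range d.Ψ
      · obtain ⟨t, rfl⟩ := h
        exact ⟨d'.Ψ t, d'.mem t, hIY t⟩
      · refine ⟨(J.symm ⟨χ, hχ, h⟩ : Cfsg.IrrCharacter H), (J.symm _).2.1, ?_⟩
        rw [hIX _ (J.symm _).2, Subtype.coe_eta, Equiv.apply_symm_apply]
  have hεpm : ∀ η ∈ c, ε η = 1 ∨ ε η = -1 := fun η hη => by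
    rcases hc_cases η hη with h | ⟨t, rfl⟩
    · rw [hεX η h]
      rcases d'.sign η h with e1 | e1 <;>
        rcases d.sign (I η) (by rw [hIX η h]; exact (J _).2) with e2 | e2 <;> simp [e1, e2]
    · rw [hεY]
      rcases d'.sign₀ with e1 | e1 <;> rcases d.sign₀ with e2 | e2 <;> simp [e1, e2]
  -- the kernel
  have hK : ∀ x y, Cfsg.signedBijectionKernel c I ε x y =
      (∑ η : Xc, (d'.δ η : ℂ) * (d.δ (I η) : ℂ) * ((I η : Cfsg.IrrCharacter G) : G → ℂ) x *
          ((η : Cfsg.IrrCharacter H) : H → ℂ) y) +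
        (d'.δ₀ : ℂ) * (d.δ₀ : ℂ) * ∑ t : R, (d.Ψ t : G → ℂ) x * (d'.Ψ t : H → ℂ) y := by
    intro x y
    set F := fun η : Cfsg.IrrCharacter H => (ε η : ℂ) * (I η : G → ℂ) x * (η : H → ℂ) y with hF
    show ∑ᶠ η ∈ c, F η = _
    have hsplit : c = Xc ∪ Set.range d'.Ψ := by
      rw [hXc, Set.sdiff_union_self, Set.union_eq_left.2]
      rintro _ ⟨t, rfl⟩
      exact d'.mem t
    conv_lhs => rw [hsplit]
    rw [finsum_mem_union (by exact Set.disjoint_sdiff_left) (Set.toFinite _) (Set.toFinite _),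
      ← finsum_set_coe_eq_finsum_mem, finsum_mem_range d'.inj, finsum_eq_sum_of_fintype,
      finsum_eq_sum_of_fintype, Finset.mul_sum]
    refine congrArg₂ (· + ·) (Finset.sum_congr rfl fun η _ => ?_) (Finset.sum_congr rfl fun t _ => ?_)
    · simp only [F, hεX _ η.2, Int.cast_mul]
    · simp only [F, hεY, hIY, Int.cast_mul, mul_assoc]
  have hd0 : ((d.δ₀ : ℂ)) * d.δ₀ = 1 := by rcases d.sign₀ with h | h <;> simp [h]
  have hd0' : ((d'.δ₀ : ℂ)) * d'.δ₀ = 1 := by rcases d'.sign₀ with h | h <;> simp [h]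
  have hsX : ∀ η : Xc, ((d'.δ η : ℂ)) * d'.δ η = 1 := fun η => by
    rcases d'.sign _ η.2 with h | h <;> simp [h]
  have hsI : ∀ η : Xc, I η ∈ XB := fun η => by rw [hIX _ η.2]; exact (J _).2
  have hsI2 : ∀ η : Xc, ((d.δ (I η) : ℂ)) * d.δ (I η) = 1 := fun η => by
    rcases d.sign _ (hsI η) with h | h <;> simp [h]
  -- the regular sums
  have hregG : ∀ x : G, ¬ p ∣ orderOf x → ∀ t,
      ∑ η : Xc, (d.δ (I η) : ℂ) * ((I η : Cfsg.IrrCharacter G) : G → ℂ) x =
        -((d.δ₀ : ℂ) * (d.Ψ t : G → ℂ) x) := fun x hx t => by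
    rw [eq_neg_iff_add_eq_zero, add_comm, ← d.rel t x hx, ← finsum_set_coe_eq_finsum_mem,
      finsum_eq_sum_of_fintype]
    congr 1
    exact Fintype.sum_equiv J _ _ fun η => by rw [hIX _ η.2, Subtype.coe_eta]
  have hregH : ∀ y : H, ¬ p ∣ orderOf y → ∀ t,
      ∑ η : Xc, (d'.δ η : ℂ) * ((η : Cfsg.IrrCharacter H) : H → ℂ) y =
        -((d'.δ₀ : ℂ) * (d'.Ψ t : H → ℂ) y) := fun y hy t => by
    rw [eq_neg_iff_add_eq_zero, add_comm, ← d'.rel t y hy, ← finsum_set_coe_eq_finsum_mem,
      finsum_eq_sum_of_fintype]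
  -- singular against regular
  have hRS : ∀ x y, ¬ p ∣ orderOf x → p ∣ orderOf y →
      Cfsg.signedBijectionKernel c I ε x y = 0 := by
    intro x y hx hy
    obtain ⟨W, hW0, -, hWY, hWX⟩ := d'.sec y hy
    have hY : ∀ t : R, (d.Ψ t : G → ℂ) x =
        -((d.δ₀ : ℂ) * ∑ η : Xc, (d.δ (I η) : ℂ) * ((I η : Cfsg.IrrCharacter G) : G → ℂ) x) :=
      fun t => by rw [hregG x hx t, mul_neg, neg_neg, ← mul_assoc, hd0, one_mul]
    have hsum : ∑ t : R, (d'.Ψ t : H → ℂ) y = -((d'.δ₀ : ℂ) * ∑ i, W i) := by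
      simp only [hWY, ← Finset.mul_sum]
      rw [Finset.sum_comm, ← mul_neg, ← Finset.sum_neg_distrib]
      congr 1
      refine Finset.sum_congr rfl fun i _ => ?_
      rw [← Finset.mul_sum, Finset.sum_coe_sort R fun t => FourierTable.orb S t i]
      rcases eq_or_ne i 0 with rfl | hi
      · rw [hW0, zero_mul, neg_zero]
      · rw [FourierTable.sum_orb hS hR hi, mul_neg_one]
    rw [hK, Finset.sum_congr rfl (g := fun η : Xc =>
      -((d.δ (I η) : ℂ) * ((I η : Cfsg.IrrCharacter G) : G → ℂ) x) * ∑ i, W i) fun η _ => ?_,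
      Finset.sum_congr rfl (s₁ := (Finset.univ : Finset R)) fun t _ => by rw [hY t],
      ← Finset.mul_sum, hsum, ← Finset.sum_mul, Finset.sum_neg_distrib]
    · linear_combination (∑ η : Xc, (d.δ (I η) : ℂ) * ((I η : Cfsg.IrrCharacter G) : G → ℂ) x) *
        (∑ i, W i) * ((d.δ₀ : ℂ) * d.δ₀ * hd0' + hd0)
    · rw [hWX _ η.2]
      linear_combination -((d.δ (I η) : ℂ) * ((I η : Cfsg.IrrCharacter G) : G → ℂ) x *
        ∑ i, W i) * hsX η
  have hSR : ∀ x y, p ∣ orderOf x → ¬ p ∣ orderOf y →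
      Cfsg.signedBijectionKernel c I ε x y = 0 := by
    intro x y hx hy
    obtain ⟨W, hW0, -, hWY, hWX⟩ := d.sec x hx
    have hY : ∀ t : R, (d'.Ψ t : H → ℂ) y =
        -((d'.δ₀ : ℂ) * ∑ η : Xc, (d'.δ η : ℂ) * ((η : Cfsg.IrrCharacter H) : H → ℂ) y) :=
      fun t => by rw [hregH y hy t, mul_neg, neg_neg, ← mul_assoc, hd0', one_mul]
    have hsum : ∑ t : R, (d.Ψ t : G → ℂ) x = -((d.δ₀ : ℂ) * ∑ i, W i) := by
      simp only [hWY, ← Finset.mul_sum]
      rw [Finset.sum_comm, ← mul_neg, ← Finset.sum_neg_distrib]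
      congr 1
      refine Finset.sum_congr rfl fun i _ => ?_
      rw [← Finset.mul_sum, Finset.sum_coe_sort R fun t => FourierTable.orb S t i]
      rcases eq_or_ne i 0 with rfl | hi
      · rw [hW0, zero_mul, neg_zero]
      · rw [FourierTable.sum_orb hS hR hi, mul_neg_one]
    rw [hK, Finset.sum_congr rfl (g := fun η : Xc =>
      (-∑ i, W i) * ((d'.δ η : ℂ) * ((η : Cfsg.IrrCharacter H) : H → ℂ) y)) fun η _ => ?_,
      Finset.sum_congr rfl (s₁ := (Finset.univ : Finset R)) fun t _ => by rw [hY t],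
      ← Finset.sum_mul, hsum, ← Finset.mul_sum]
    · linear_combination (∑ η : Xc, (d'.δ η : ℂ) * ((η : Cfsg.IrrCharacter H) : H → ℂ) y) *
        (∑ i, W i) * ((d'.δ₀ : ℂ) * d'.δ₀ * hd0 + hd0')
    · rw [hWX _ (hsI η)]
      linear_combination -((d'.δ η : ℂ) * ((η : Cfsg.IrrCharacter H) : H → ℂ) y *
        ∑ i, W i) * hsI2 η
  refine ⟨I, ε, ⟨hbij, hεpm, fun x y => ?_⟩, fun t => ⟨hIY t, hεY t⟩,
    fun η hη => ⟨hsI ⟨η, hη⟩, hεX η hη⟩⟩
  have hsep : (Cfsg.IsPRegular p x ↔ Cfsg.IsPRegular p y) ∨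
      Cfsg.signedBijectionKernel c I ε x y = 0 := by
    by_cases hx : p ∣ orderOf x <;> by_cases hy : p ∣ orderOf y
    · exact .inl ⟨fun h => absurd hx h, fun h => absurd hy h⟩
    · exact .inr (hSR x y hx hy)
    · exact .inr (hRS x y hx hy)
    · exact .inl ⟨fun _ => hy, fun _ => hx⟩
  have hloc : ∀ (η : Cfsg.IrrCharacter G) (g : G), Cfsg.MemLocalRing M ((η : G → ℂ) g) :=
    fun η g => ring_of_isIntegral hM (char_value_isIntegral (irr_isCharacter η) g)
  have hloc' : ∀ (η : Cfsg.IrrCharacter H) (g : H), Cfsg.MemLocalRing M ((η : H → ℂ) g) :=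
    fun η g => ring_of_isIntegral hM (char_value_isIntegral (irr_isCharacter η) g)
  by_cases hx : p ∣ orderOf x
  swap
  · by_cases hy : p ∣ orderOf y
    · rw [hRS x y hx hy, zero_div, zero_div]
      exact ⟨ring_zero hM, ring_zero hM, Or.inr rfl⟩
    -- both regular
    have hexp : ∀ x' y', Cfsg.signedBijectionKernel c I ε x' y' =
        ∑ η ∈ Finset.univ.filter (· ∈ c), (ε η : ℂ) * (η : H → ℂ) y' * (I η : G → ℂ) x' := by
      intro x' y'
      rw [Cfsg.signedBijectionKernel, ZStar.Principal.finsum_mem_eq_sum_filter]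
      exact Finset.sum_congr rfl fun η _ => by ring
    have hexp' : ∀ x' y', Cfsg.signedBijectionKernel c I ε x' y' =
        ∑ η ∈ Finset.univ.filter (· ∈ c), (ε η : ℂ) * (I η : G → ℂ) x' * (η : H → ℂ) y' := by
      intro x' y'
      rw [hexp]
      exact Finset.sum_congr rfl fun η _ => by ring
    refine ⟨?_, ?_, hsep⟩
    · have h := ring_div_centralizer hM
        (fun η : {η // η ∈ Finset.univ.filter (· ∈ c)} => I η.1)
        (fun η => (ε η.1 : ℂ) * (η.1 : H → ℂ) y)
        (fun η => ring_mul hM (ring_intCast hM _) (hloc' _ _))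
        (fun x' hx' => by
          rw [Finset.sum_coe_sort (Finset.univ.filter (· ∈ c))
            fun η => (ε η : ℂ) * (η : H → ℂ) y * (I η : G → ℂ) x', ← hexp]
          exact hSR x' y hx' hy) x
      rw [Finset.sum_coe_sort (Finset.univ.filter (· ∈ c))
        fun η => (ε η : ℂ) * (η : H → ℂ) y * (I η : G → ℂ) x, ← hexp] at h
      exact h
    · have h := ring_div_centralizer hM
        (fun η : {η // η ∈ Finset.univ.filter (· ∈ c)} => (η.1 : Cfsg.IrrCharacter H))
        (fun η => (ε η.1 : ℂ) * (I η.1 : G → ℂ) x)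
        (fun η => ring_mul hM (ring_intCast hM _) (hloc _ _))
        (fun y' hy' => by
          rw [Finset.sum_coe_sort (Finset.univ.filter (· ∈ c))
            fun η => (ε η : ℂ) * (I η : G → ℂ) x * (η : H → ℂ) y', ← hexp']
          exact hRS x y' hx hy') y
      rw [Finset.sum_coe_sort (Finset.univ.filter (· ∈ c))
        fun η => (ε η : ℂ) * (I η : G → ℂ) x * (η : H → ℂ) y, ← hexp'] at h
      exact h
  by_cases hy : p ∣ orderOf y
  swap
  · rw [hSR x y hx hy, zero_div, zero_div]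
    exact ⟨ring_zero hM, ring_zero hM, Or.inr rfl⟩
  -- both singular
  obtain ⟨W, hW0, hWr, hWY, hWX⟩ := d.sec x hx
  obtain ⟨V, hV0, hVr, hVY, hVX⟩ := d'.sec y hy
  have hval : Cfsg.signedBijectionKernel c I ε x y =
      (q : ℂ) * ∑ i, ∑ j, W i * V j * ((S.filter fun b => b * i + j = 0).card : ℂ) := by
    rw [hK, Finset.sum_congr rfl (g := fun _ : Xc => (∑ i, W i) * ∑ j, V j) fun η _ => ?_,
      Finset.sum_const, Finset.card_univ, ← Nat.card_eq_fintype_card, d'.card, nsmul_eq_mul,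
      Finset.sum_congr rfl (s₁ := (Finset.univ : Finset R)) fun t _ => by rw [hWY t, hVY t],
      Finset.sum_coe_sort R fun t => (d.δ₀ : ℂ) * (∑ i, W i * FourierTable.orb S t i) *
        ((d'.δ₀ : ℂ) * ∑ i, V i * FourierTable.orb S t i)]
    · simp only [Finset.mul_sum, Finset.sum_mul]
      rw [Finset.sum_comm (s := R), ← Finset.sum_add_distrib]
      conv_rhs => rw [Finset.sum_comm]
      refine Finset.sum_congr rfl fun j _ => ?_
      rw [Finset.sum_comm (s := R), ← Finset.sum_add_distrib]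
      refine Finset.sum_congr rfl fun i _ => ?_
      calc _ = W i * V j * ((S.card : ℂ) +
            ((d'.δ₀ : ℂ) * d'.δ₀) * ((d.δ₀ : ℂ) * d.δ₀) *
              ∑ t ∈ R, FourierTable.orb S t i * FourierTable.orb S t j) := by
            simp only [mul_add, Finset.mul_sum]
            congr 1
            · ring
            · exact Finset.sum_congr rfl fun t _ => by ring
        _ = _ := by rw [hd0, hd0', one_mul, one_mul, sum_orb_mul hS hR]; ring
    · rw [hWX _ (hsI η), hVX _ η.2]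
      linear_combination ((∑ i, W i) * ∑ j, V j) *
        ((d.δ (I η) : ℂ) * d.δ (I η) * hsX η + hsI2 η)
  refine ⟨?_, ?_, hsep⟩
  · rw [hval, Finset.mul_sum, Finset.sum_div]
    refine ring_sum hM fun i _ => ?_
    have h := ring_mul hM (hWr i).2 (ring_sum hM (s := (Finset.univ : Finset (ZMod q))) fun j _ => ring_mul hM (hVr j).1
      (ring_natCast hM ((S.filter fun b => b * i + j = 0).card)))
    convert h using 1
    simp only [Finset.mul_sum, Finset.sum_div]
    exact Finset.sum_congr rfl fun j _ => by ring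
  · rw [hval, Finset.sum_comm, Finset.mul_sum, Finset.sum_div]
    refine ring_sum hM fun j _ => ?_
    have h := ring_mul hM (hVr j).2 (ring_sum hM (s := (Finset.univ : Finset (ZMod q))) fun i _ => ring_mul hM (hWr i).1
      (ring_natCast hM ((S.filter fun b => b * i + j = 0).card)))
    convert h using 1
    simp only [Finset.mul_sum, Finset.sum_div]
    exact Finset.sum_congr rfl fun i _ => by ring

end Cfsg.Agent.BlockCharsA.CyclicDefect
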