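import Mathlib
import Cfsg.Agent.BlockCharsA.CyclicDefect.Corner

/-!
# Traced endomorphisms of simple modules over a group algebra

For an idempotent `F` of the algebra of a subgroup `H` traced up from a subgroup `D` that meets
its conjugates outside `NQ` trivially, and killed by the conjugates inside `NQ` outside `N`, an
`H`-endomorphism of the `F`-part of a simple module, summed over the cosets of `H` in `N`, is a
scalar on the kernel of `T` up to the image of `T ^ (L - 1)`.
-/

set_option linter.style.haveILetI false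
set_option linter.unusedSectionVars false

namespace Cfsg.Agent.BlockCharsA.CyclicDefect

open MonoidAlgebra

universe u v w

variable {G : Type u} [Group G] [Finite G] {k : Type w} [Field k]

/-- The elements supported on a subgroup. -/
noncomputable def subAlg (k : Type w) [Field k] (H : Subgroup G) :
    Subalgebra k (MonoidAlgebra k G) :=
  (MonoidAlgebra.mapDomainAlgHom k k H.subtype).range

theorem single_mem_subAlg {H : Subgroup G} {h : G} (hh : h ∈ H) (c : k) :
    single h c ∈ subAlg k H := ⟨single ⟨h, hh⟩ c, by simp⟩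

theorem subAlg_induction {H : Subgroup G} {P : MonoidAlgebra k G → Prop} (h0 : P 0)
    (hadd : ∀ x y, P x → P y → P (x + y)) (hsingle : ∀ h ∈ H, ∀ c : k, P (single h c))
    {x : MonoidAlgebra k G} (hx : x ∈ subAlg k H) : P x := by
  obtain ⟨z, rfl⟩ := hx
  induction z using MonoidAlgebra.induction_linear with
  | zero => simpa using h0
  | add a b ha hb => rw [map_add]; exact hadd _ _ ha hb
  | single a c => simpa using hsingle (a : G) a.2 c

variable {V : Type v} [AddCommGroup V] [Module k V] [Module (MonoidAlgebra k G) V]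
  [IsScalarTower k (MonoidAlgebra k G) V] [SMulCommClass (MonoidAlgebra k G) k V]

/-- The conjugate of a map by a group element. -/
noncomputable def gAct (g : G) (β : V →ₗ[k] V) : V →ₗ[k] V :=
  (Algebra.lsmul k k V (single g (1 : k)) : V →ₗ[k] V).comp
    (β.comp (Algebra.lsmul k k V (single g⁻¹ (1 : k)) : V →ₗ[k] V))

theorem gAct_apply (g : G) (β : V →ₗ[k] V) (v : V) :
    gAct g β v = (single g (1 : k) : MonoidAlgebra k G) •
      β ((single g⁻¹ (1 : k) : MonoidAlgebra k G) • v) := rfl

theorem smul_single_single (g h : G) (v : V) :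
    (single g (1 : k) : MonoidAlgebra k G) • (single h (1 : k) : MonoidAlgebra k G) • v =
      (single (g * h) (1 : k) : MonoidAlgebra k G) • v := by
  rw [← mul_smul, single_mul_single, one_mul]

theorem gAct_mul_of_mem {S : Subgroup G} {β : V →ₗ[k] V}
    (hβ : ∀ d ∈ S, ∀ v, β ((single d (1 : k) : MonoidAlgebra k G) • v) =
      (single d (1 : k) : MonoidAlgebra k G) • β v) (g : G) {d : G} (hd : d ∈ S) (v : V) :
    gAct (g * d) β v = gAct g β v := by
  rw [gAct_apply, gAct_apply, mul_inv_rev]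
  conv_lhs => rw [← smul_single_single (k := k) d⁻¹ g⁻¹, hβ _ (inv_mem hd), smul_single_single,
    mul_inv_cancel_right]

theorem gAct_eq_of_mk {S : Subgroup G} {β : V →ₗ[k] V}
    (hβ : ∀ d ∈ S, ∀ v, β ((single d (1 : k) : MonoidAlgebra k G) • v) =
      (single d (1 : k) : MonoidAlgebra k G) • β v) {g g' : G}
    (h : (QuotientGroup.mk g : G ⧸ S) = QuotientGroup.mk g') (v : V) :
    gAct g β v = gAct g' β v := by
  rw [show g' = g * (g⁻¹ * g') by group, gAct_mul_of_mem hβ g (QuotientGroup.eq.1 h)]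

theorem gAct_smul (g c : G) (β : V →ₗ[k] V) (v : V) :
    gAct g β ((single c (1 : k) : MonoidAlgebra k G) • v) =
      (single c (1 : k) : MonoidAlgebra k G) • gAct (c⁻¹ * g) β v := by
  rw [gAct_apply, gAct_apply, smul_single_single, smul_single_single, mul_inv_cancel_left,
    mul_inv_rev, inv_inv]

variable [IsAlgClosed k]

/-- An endomorphism commuting with a simple action is a scalar. -/
theorem exists_scalar [FiniteDimensional k V] [IsSimpleModule (MonoidAlgebra k G) V]
    (Φ : V →ₗ[k] V) (h : ∀ (g : G) (v : V), Φ ((single g (1 : k) : MonoidAlgebra k G) • v) =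
      (single g (1 : k) : MonoidAlgebra k G) • Φ v) : ∃ c : k, ∀ v, Φ v = c • v := by
  haveI : Nontrivial V := IsSimpleModule.nontrivial (MonoidAlgebra k G) V
  have hA : ∀ (x : MonoidAlgebra k G) (v : V), Φ (x • v) = x • Φ v := by
    intro x v
    induction x using MonoidAlgebra.induction_linear with
    | zero => simp
    | add a b ha hb => rw [add_smul, map_add, ha, hb, add_smul]
    | single g c =>
      rw [show (single g c : MonoidAlgebra k G) = c • single g (1 : k) by
        rw [smul_single, smul_eq_mul, mul_one], smul_assoc, map_smul, h, smul_assoc]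
  let ψ : V →ₗ[MonoidAlgebra k G] V := { toFun := Φ, map_add' := map_add Φ, map_smul' := hA }
  obtain ⟨c, hc⟩ := Module.End.exists_eigenvalue Φ
  refine ⟨c, fun v => ?_⟩
  rcases LinearMap.bijective_or_eq_zero (ψ - c • LinearMap.id) with hb | h0
  · exfalso
    obtain ⟨w, hw⟩ := hc.exists_hasEigenvector
    refine hw.2 (hb.1 ?_)
    rw [map_zero, LinearMap.sub_apply, LinearMap.smul_apply, LinearMap.id_apply, sub_eq_zero]
    exact hw.apply_eq_smul
  · have := LinearMap.congr_fun h0 v
    rwa [LinearMap.sub_apply, LinearMap.smul_apply, LinearMap.id_apply, LinearMap.zero_apply,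
      sub_eq_zero] at this

/-- The traced endomorphisms of a simple module are scalars on the kernel of `T` up to the image
of `T ^ (L - 1)`. -/
theorem traceScalar (C : CornerData k (MonoidAlgebra k G)) (H D N NQ : Subgroup G) (n₀ : G)
    (hA : C.A₁ = subAlg k H) (hn : C.n = single n₀ 1) (hn' : C.n' = single n₀⁻¹ 1)
    (hDH : D ≤ H) (hHN : H ≤ N) (hNNQ : N ≤ NQ) (hn0 : n₀ ∈ N)
    (hcov : ∀ g ∈ N, ∃ i < C.e, (n₀ ^ i)⁻¹ * g ∈ H)
    (hinj : ∀ i < C.e, ∀ j < C.e, (n₀ ^ i)⁻¹ * n₀ ^ j ∈ H → i = j)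
    (hkill : ∀ g ∈ NQ, g ∉ N → C.F * single g 1 * C.F = 0)
    (hfree : ∀ g : G, g ∉ NQ → ∀ d ∈ D, g⁻¹ * d * g ∈ D → d = 1)
    (a : MonoidAlgebra k G) (ha : a ∈ subAlg k H)
    (had : ∀ d ∈ D, single d 1 * a = a * single d 1)
    (hF : C.F = ∑ᶠ r : H ⧸ D.subgroupOf H,
      single (r.out : G) 1 * a * single (r.out : G)⁻¹ 1)
    (hsoc : ∀ u ∈ C.A₁, C.J * u = u → C.T * u = 0 → ∃ y, u = C.T ^ (C.L - 1) * y)
    (V : Type v) [AddCommGroup V] [Module k V] [Module (MonoidAlgebra k G) V]
    [IsScalarTower k (MonoidAlgebra k G) V] [SMulCommClass (MonoidAlgebra k G) k V]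
    [FiniteDimensional k V] [IsSimpleModule (MonoidAlgebra k G) V] : C.TraceScalar V := by
  classical
  haveI := Fintype.ofFinite G
  haveI := Fintype.ofFinite (H ⧸ D.subgroupOf H)
  rw [finsum_eq_sum_of_fintype] at hF
  intro π hlin hFπ hπF
  have hlin1 : ∀ d ∈ H, ∀ v, π ((single d (1 : k) : MonoidAlgebra k G) • v) =
      (single d (1 : k) : MonoidAlgebra k G) • π v := fun d hd v =>
    hlin _ (hA ▸ single_mem_subAlg hd 1) v
  -- the trace to the whole group
  set Φ : V →ₗ[k] V := ∑ q : G ⧸ H, gAct q.out π with hΦ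
  have hΦG : ∀ (g : G) (v : V), Φ ((single g (1 : k) : MonoidAlgebra k G) • v) =
      (single g (1 : k) : MonoidAlgebra k G) • Φ v := by
    intro g v
    rw [hΦ, LinearMap.sum_apply, LinearMap.sum_apply, Finset.smul_sum]
    refine Fintype.sum_equiv (MulAction.toPerm g⁻¹ : Equiv.Perm (G ⧸ H)) _ _ fun q => ?_
    rw [gAct_smul]
    congr 1
    refine gAct_eq_of_mk hlin1 ?_ v
    rw [MulAction.toPerm_apply, QuotientGroup.out_eq']
    conv_rhs => rw [← QuotientGroup.out_eq' q]
    rfl
  obtain ⟨c, hc⟩ := exists_scalar Φ hΦG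
  refine ⟨c, fun v hvJ hvT => ?_⟩
  -- the map `β`
  set β : V →ₗ[k] V := π.comp (Algebra.lsmul k k V a : V →ₗ[k] V) with hβ
  have hβD : ∀ d ∈ D, ∀ v, β ((single d (1 : k) : MonoidAlgebra k G) • v) =
      (single d (1 : k) : MonoidAlgebra k G) • β v := fun d hd v => by
    show π (a • _) = _ • π (a • v)
    rw [← mul_smul, ← had d hd, mul_smul, hlin1 d (hDH hd)]
  have hπsum : ∀ w, π w = ∑ r : H ⧸ D.subgroupOf H, gAct (r.out : G) β w := fun w => by
    conv_lhs => rw [← hπF, hF, Finset.sum_smul, map_sum]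
    refine Finset.sum_congr rfl fun r _ => ?_
    rw [mul_smul, mul_smul, hlin1 _ r.out.2]
    rfl
  -- cosets of `D` inside cosets of `H`
  set pr : (G ⧸ H) × (H ⧸ D.subgroupOf H) → G ⧸ D := fun x =>
    QuotientGroup.mk (x.1.out * (x.2.out : G)) with hpr
  have hprinj : Function.Injective pr := by
    rintro ⟨q, r⟩ ⟨q', r'⟩ h
    have h1 := QuotientGroup.eq.1 h
    have hq : q = q' := by
      rw [← QuotientGroup.out_eq' q, ← QuotientGroup.out_eq' q', QuotientGroup.eq]
      have h2 := H.mul_mem (H.mul_mem r.out.2 (hDH h1)) (H.inv_mem r'.out.2)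
      simpa [mul_assoc] using h2
    subst hq
    refine Prod.ext rfl ?_
    rw [← QuotientGroup.out_eq' r, ← QuotientGroup.out_eq' r', QuotientGroup.eq,
      Subgroup.mem_subgroupOf]
    simpa [mul_assoc] using h1
  have hprsurj : Function.Surjective pr := by
    intro x
    obtain ⟨g, rfl⟩ := QuotientGroup.mk_surjective x
    obtain ⟨h₁, hh₁⟩ := QuotientGroup.mk_out_eq_mul H g
    obtain ⟨d, hd⟩ := QuotientGroup.mk_out_eq_mul (D.subgroupOf H) h₁⁻¹
    refine ⟨(QuotientGroup.mk g, QuotientGroup.mk h₁⁻¹), QuotientGroup.eq.2 ?_⟩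
    rw [hh₁, hd, Subgroup.coe_mul, Subgroup.coe_inv]
    have hd' : ((d : H) : G) ∈ D := Subgroup.mem_subgroupOf.1 d.2
    simpa [mul_assoc] using D.inv_mem hd'
  -- the part outside `NQ`
  set Sout := Finset.univ.filter fun x : G ⧸ D => x.out ∉ NQ with hSout
  set X : V →ₗ[k] V := ∑ x ∈ Sout, gAct x.out β with hX
  have hmemNQ : ∀ {g g' : G}, (QuotientGroup.mk g : G ⧸ D) = QuotientGroup.mk g' →
      (g ∈ NQ ↔ g' ∈ NQ) := fun {g g'} h => by
    have h1 := hNNQ (hHN (hDH (QuotientGroup.eq.1 h)))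
    constructor
    · intro hg
      simpa using NQ.mul_mem hg h1
    · intro hg
      simpa [mul_assoc] using NQ.mul_mem hg (NQ.inv_mem h1)
  have hout : ∀ w, ∑ q ∈ Finset.univ.filter (fun q : G ⧸ H => q.out ∉ NQ), gAct q.out π w = X w := by
    intro w
    rw [hX, LinearMap.sum_apply]
    have e1 : ∀ q : G ⧸ H, gAct q.out π w =
        ∑ r : H ⧸ D.subgroupOf H, gAct (q.out * (r.out : G)) β w := fun q => by
      rw [gAct_apply, hπsum, Finset.smul_sum]
      refine Finset.sum_congr rfl fun r _ => ?_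
      rw [gAct_apply, gAct_apply, smul_single_single, smul_single_single, mul_inv_rev]
    rw [Finset.sum_congr rfl fun q _ => e1 q, ← Finset.sum_product']
    refine Finset.sum_bij (fun x _ => pr x) ?_ (fun a _ b _ h => hprinj h) ?_ ?_
    · rintro ⟨q, r⟩ hx
      rw [Finset.mem_product, Finset.mem_filter] at hx
      refine Finset.mem_filter.2 ⟨Finset.mem_univ _, fun h => hx.1.2 ?_⟩
      have := (hmemNQ (g := (pr (q, r)).out) (g' := q.out * (r.out : G))
        (QuotientGroup.out_eq' _)).1 h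
      simpa using NQ.mul_mem this (NQ.inv_mem (hNNQ (hHN r.out.2)))
    · intro x hx
      obtain ⟨⟨q, r⟩, rfl⟩ := hprsurj x
      refine ⟨(q, r), Finset.mem_product.2 ⟨Finset.mem_filter.2 ⟨Finset.mem_univ _, fun h =>
        (Finset.mem_filter.1 hx).2 ?_⟩, Finset.mem_univ _⟩, rfl⟩
      exact (hmemNQ (g := (pr (q, r)).out) (g' := q.out * (r.out : G))
        (QuotientGroup.out_eq' _)).2 (NQ.mul_mem h (hNNQ (hHN r.out.2)))
    · rintro ⟨q, r⟩ -
      exact gAct_eq_of_mk hβD (QuotientGroup.out_eq' _).symm w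
  have hSsmul : ∀ c ∈ NQ, ∀ x : G ⧸ D, x ∈ Sout → c • x ∈ Sout := by
    intro c hc x hx
    refine Finset.mem_filter.2 ⟨Finset.mem_univ _, fun h => (Finset.mem_filter.1 hx).2 ?_⟩
    have h1 := (hmemNQ (g := (c • x).out) (g' := c * x.out) (by
      rw [QuotientGroup.out_eq']
      conv_lhs => rw [← QuotientGroup.out_eq' x]
      rfl)).1 h
    simpa using NQ.mul_mem (NQ.inv_mem hc) h1
  have hXH : ∀ h ∈ H, ∀ w, X ((single h (1 : k) : MonoidAlgebra k G) • w) =
      (single h (1 : k) : MonoidAlgebra k G) • X w := by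
    intro h hh w
    rw [hX, LinearMap.sum_apply, LinearMap.sum_apply, Finset.smul_sum]
    refine Finset.sum_nbij' (fun x => h⁻¹ • x) (fun x => h • x)
      (fun x hx => hSsmul _ (inv_mem (hNNQ (hHN hh))) x hx)
      (fun x hx => hSsmul _ (hNNQ (hHN hh)) x hx) (fun x _ => smul_inv_smul _ _)
      (fun x _ => inv_smul_smul _ _) fun x _ => ?_
    rw [gAct_smul]
    congr 1
    refine gAct_eq_of_mk hβD ?_ w
    rw [QuotientGroup.out_eq']
    conv_rhs => rw [← QuotientGroup.out_eq' x]
    rfl
  -- `X` is traced from the trivial group to `D`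
  set wgt : G ⧸ D → k := fun x =>
    if x = (Quotient.mk (MulAction.orbitRel D (G ⧸ D)) x).out then 1 else 0 with hwgt
  have hwsum : ∀ x ∈ Sout, ∑ d : D, wgt (d⁻¹ • x) = 1 := by
    intro x hx
    set y := (Quotient.mk (MulAction.orbitRel D (G ⧸ D)) x).out
    have hrel : ∀ d : D, (Quotient.mk (MulAction.orbitRel D (G ⧸ D)) (d⁻¹ • x)).out = y := fun d => by
      congr 1
      exact Quotient.sound ⟨d⁻¹, rfl⟩
    obtain ⟨d₀, hd₀⟩ : ∃ d : D, d⁻¹ • x = y := by
      obtain ⟨d, hd⟩ := Quotient.mk_out (s := MulAction.orbitRel D (G ⧸ D)) x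
      exact ⟨d⁻¹, by rw [inv_inv]; exact hd⟩
    have huniq : ∀ d : D, d⁻¹ • x = y → d = d₀ := by
      intro d hd
      rw [← hd₀] at hd
      have h2 : (d₀ * d⁻¹) • x = x := by rw [mul_smul, hd, smul_inv_smul]
      have h3 := hfree x.out (Finset.mem_filter.1 hx).2 ((d₀ * d⁻¹ : D) : G) (d₀ * d⁻¹).2 (by
        rw [mul_assoc]
        refine QuotientGroup.eq.1 ?_
        rw [QuotientGroup.out_eq']
        conv_lhs => rw [← h2, ← QuotientGroup.out_eq' x]
        rfl)
      exact (mul_inv_eq_one.1 (Subtype.ext h3)).symm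
    rw [Finset.sum_eq_single_of_mem d₀ (Finset.mem_univ _)]
    · simp only [wgt, hrel]
      rw [if_pos hd₀]
    · intro d _ hd
      simp only [wgt, hrel]
      rw [if_neg fun h => hd (huniq d h)]
  set γ : V →ₗ[k] V := ∑ x ∈ Sout, wgt x • gAct x.out β with hγ
  have hXγ : ∀ w, X w = ∑ d : D, (single (d : G) (1 : k) : MonoidAlgebra k G) •
      γ ((single (d : G)⁻¹ (1 : k) : MonoidAlgebra k G) • w) := by
    intro w
    have e1 : ∀ d : D, (single (d : G) (1 : k) : MonoidAlgebra k G) •
        γ ((single (d : G)⁻¹ (1 : k) : MonoidAlgebra k G) • w) =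
        ∑ x ∈ Sout, wgt (d⁻¹ • x) • gAct x.out β w := by
      intro d
      rw [hγ, LinearMap.sum_apply, Finset.smul_sum]
      refine Finset.sum_nbij' (fun x => d • x) (fun x => d⁻¹ • x)
        (fun x hx => hSsmul _ (hNNQ (hHN (hDH d.2))) x hx)
        (fun x hx => hSsmul _ (inv_mem (hNNQ (hHN (hDH d.2)))) x hx)
        (fun x _ => inv_smul_smul _ _) (fun x _ => smul_inv_smul _ _) fun x _ => ?_
      rw [LinearMap.smul_apply, inv_smul_smul, smul_comm, gAct_smul, smul_single_single,
        mul_inv_cancel, inv_inv, ← one_def, one_smul]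
      congr 1
      refine gAct_eq_of_mk hβD ?_ w
      rw [QuotientGroup.out_eq']
      conv_rhs => rw [← QuotientGroup.out_eq' x]
      rfl
    rw [Finset.sum_congr rfl fun d _ => e1 d, Finset.sum_comm, hX, LinearMap.sum_apply]
    exact Finset.sum_congr rfl fun x hx => by rw [← Finset.sum_smul, hwsum x hx, one_smul]
  -- which lands in the image of `T ^ (L - 1)`
  have hFX : ∀ w, C.F • X w = ∑ x : H, (single (x : G) (1 : k) : MonoidAlgebra k G) •
      (a • γ ((single (x : G)⁻¹ (1 : k) : MonoidAlgebra k G) • w)) := by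
    intro w
    rw [hF, Finset.sum_smul]
    have hbij : Function.Bijective
        (fun x : (H ⧸ D.subgroupOf H) × D => x.1.out * ⟨(x.2 : G), hDH x.2.2⟩) := by
     refine ⟨?_, ?_⟩
     · rintro ⟨r, d⟩ ⟨r', d'⟩ h
       simp only at h
       have hr : r = r' := by
         rw [← QuotientGroup.out_eq' r, ← QuotientGroup.out_eq' r', QuotientGroup.eq,
           Subgroup.mem_subgroupOf]
         have h1 := congrArg (fun z : H => (z : G)) h
         simp only [Subgroup.coe_mul] at h1
         have h2 : (r.out : G)⁻¹ * r'.out = (d : G) * (d' : G)⁻¹ := by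
           rw [eq_mul_inv_iff_mul_eq, mul_assoc, ← h1, inv_mul_cancel_left]
         rw [Subgroup.coe_mul, Subgroup.coe_inv, h2]
         exact D.mul_mem d.2 (D.inv_mem d'.2)
       subst hr
       have h1 := mul_left_cancel h
       exact Prod.ext rfl (Subtype.ext (congrArg (fun z : H => (z : G)) h1 :))
     · intro x
       obtain ⟨d, hd⟩ := QuotientGroup.mk_out_eq_mul (D.subgroupOf H) x
       refine ⟨(QuotientGroup.mk x, ⟨((d⁻¹ : D.subgroupOf H) : H), Subgroup.mem_subgroupOf.1 (d⁻¹).2⟩), ?_⟩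
       refine Subtype.ext ?_
       simp [hd]
    set eqv : (H ⧸ D.subgroupOf H) × D ≃ H := Equiv.ofBijective _ hbij
    have heqv : ∀ r d, ((eqv (r, d) : H) : G) = (r.out : G) * (d : G) := fun r d => rfl
    rw [← eqv.sum_comp, Fintype.sum_prod_type]
    refine Finset.sum_congr rfl fun r _ => ?_
    rw [mul_smul, mul_smul, ← hXH _ (H.inv_mem r.out.2), hXγ, Finset.smul_sum, Finset.smul_sum]
    refine Finset.sum_congr rfl fun d _ => ?_
    rw [heqv, ← mul_smul a, ← had _ d.2, mul_smul, smul_single_single, smul_single_single,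
      mul_inv_rev]
  have hJX : ∃ y, C.J • X v = C.T ^ (C.L - 1) • y := by
    set bas := Module.finBasis k V
    set φ : Fin (Module.finrank k V) → V →ₗ[k] k := fun b =>
      (bas.coord b).comp ((Algebra.lsmul k k V a : V →ₗ[k] V).comp γ)
    set U : Fin (Module.finrank k V) → V →ₗ[k] MonoidAlgebra k G := fun b =>
      ∑ x : H, (LinearMap.toSpanSingleton k _ (single (x : G) (1 : k))).comp
        ((φ b).comp (Algebra.lsmul k k V (single (x : G)⁻¹ (1 : k)) : V →ₗ[k] V))
    have hUv : ∀ b w, U b w = ∑ x : H,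
        φ b ((single (x : G)⁻¹ (1 : k) : MonoidAlgebra k G) • w) • single (x : G) (1 : k) :=
      fun b w => by simp [U, LinearMap.sum_apply]
    have hUmem : ∀ b w, U b w ∈ C.A₁ := fun b w => by
      rw [hUv, hA]
      exact Subalgebra.sum_mem _ fun x _ => Subalgebra.smul_mem _ (single_mem_subAlg x.2 1) _
    have hUh : ∀ b, ∀ z ∈ subAlg k H, ∀ w, U b (z • w) = z * U b w := by
      intro b z hz
      refine subAlg_induction (P := fun z => ∀ w, U b (z • w) = z * U b w) (fun w => by simp)
        (fun x y hx hy w => by rw [add_smul, map_add, hx, hy, add_mul]) (fun h hh c w => ?_) hz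
      rw [show (single h c : MonoidAlgebra k G) = c • single h (1 : k) by
        rw [smul_single, smul_eq_mul, mul_one], smul_assoc, map_smul, smul_mul_assoc]
      congr 1
      rw [hUv, hUv, Finset.mul_sum]
      refine Fintype.sum_equiv (Equiv.mulLeft (⟨h⁻¹, inv_mem hh⟩ : H)) _ _ fun x => ?_
      rw [mul_smul_comm, single_mul_single, one_mul, smul_single_single]
      simp [mul_assoc]
    have hsocb : ∀ b, ∃ y, U b v = C.T ^ (C.L - 1) * y := fun b =>
      hsoc _ (hUmem b v) (by rw [← hUh b _ (hA ▸ C.J_mem), hvJ])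
        (by rw [← hUh b _ (hA ▸ C.T_mem), hvT, map_zero])
    choose y hy using hsocb
    refine ⟨∑ b, y b • bas b, ?_⟩
    have hsum : C.F • X v = ∑ b, U b v • bas b := by
      rw [hFX]
      simp only [hUv, Finset.sum_smul]
      rw [Finset.sum_comm]
      refine Finset.sum_congr rfl fun x _ => ?_
      conv_lhs => rw [← bas.sum_repr (a • γ _), Finset.smul_sum]
      refine Finset.sum_congr rfl fun b _ => ?_
      rw [smul_comm, smul_assoc]
      rfl
    rw [show C.J = C.J * C.F by rw [← C.F_comm _ C.J_mem, C.FJ], mul_smul, hsum, Finset.smul_sum,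
      Finset.smul_sum]
    refine Finset.sum_congr rfl fun b _ => ?_
    rw [hy, ← mul_smul, ← mul_smul, ← mul_assoc, C.J_pow_L_sub]
  -- split the trace
  have hsplit : C.J • Φ v =
      (∑ i ∈ Finset.range C.e, C.n ^ i • π (C.n' ^ i • v)) + C.J • X v := by
    rw [hΦ, LinearMap.sum_apply,
      ← Finset.sum_filter_add_sum_filter_not Finset.univ (fun q : G ⧸ H => q.out ∈ NQ), smul_add]
    refine congrArg₂ (· + ·) ?_ (by rw [hout])
    rw [Finset.smul_sum, ← Finset.sum_filter_add_sum_filter_not (Finset.univ.filter _)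
      (fun q : G ⧸ H => q.out ∈ N)]
    refine Eq.trans (congrArg₂ (· + ·) rfl (Finset.sum_eq_zero fun q hq => ?_)) ?_
    rotate_left
    · rw [add_zero, Finset.filter_filter]
      symm
      refine Finset.sum_bij (fun i _ => (QuotientGroup.mk (n₀ ^ i) : G ⧸ H)) ?_ ?_ ?_ ?_
      · intro i _
        obtain ⟨d, hd⟩ := QuotientGroup.mk_out_eq_mul H (n₀ ^ i)
        have hmem : (QuotientGroup.mk (n₀ ^ i) : G ⧸ H).out ∈ N := by
          rw [hd]; exact N.mul_mem (N.pow_mem hn0 i) (hHN d.2)
        exact Finset.mem_filter.2 ⟨Finset.mem_univ _, hNNQ hmem, hmem⟩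
      · intro i hi j hj h
        exact hinj i (Finset.mem_range.1 hi) j (Finset.mem_range.1 hj) (QuotientGroup.eq.1 h)
      · intro q hq
        obtain ⟨i, hi, hiH⟩ := hcov q.out (Finset.mem_filter.1 hq).2.2
        refine ⟨i, Finset.mem_range.2 hi, ?_⟩
        rw [← QuotientGroup.out_eq' q]
        exact QuotientGroup.eq.2 hiH
      · intro i _
        rw [gAct_eq_of_mk hlin1 (QuotientGroup.out_eq' (QuotientGroup.mk (n₀ ^ i) : G ⧸ H)) v,
          gAct_apply, hn, hn', single_pow, single_pow, one_pow, inv_pow]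
        have h := C.twist_apply (π := π) hlin hvJ i
        rw [hn, hn', single_pow, single_pow, one_pow, inv_pow] at h
        rcases Nat.eq_zero_or_pos i with rfl | hi
        · simp only [pow_zero, inv_one, ← one_def, one_smul]
          rw [← hlin _ C.J_mem, hvJ]
        · rw [h, ← mul_smul]
          congr 1
          obtain ⟨l, rfl⟩ := Nat.exists_eq_succ_of_ne_zero hi.ne'
          rw [pow_succ', ← mul_assoc, C.JΘ]
    · obtain ⟨hq1, hq2⟩ := Finset.mem_filter.1 hq
      rw [gAct_apply, show C.J = C.J * C.F by rw [← C.F_comm _ C.J_mem, C.FJ]]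
      conv_lhs => rw [← hπF, ← hFπ, hlin _ C.F_mem, ← mul_smul, ← mul_smul, ← mul_smul]
      rw [show C.J * C.F * single q.out 1 * C.F * C.F = C.J * (C.F * single q.out 1 * C.F) * C.F
        by simp only [mul_assoc], hkill _ (Finset.mem_filter.1 hq1).2 hq2, mul_zero, zero_mul,
        zero_smul]
  obtain ⟨y, hy⟩ := hJX
  refine ⟨-y, ?_⟩
  rw [hc, smul_comm, hvJ, hy] at hsplit
  rw [smul_neg, hsplit]
  abel

end Cfsg.Agent.BlockCharsA.CyclicDefect
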