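import Mathlib
import Cfsg.Agent.BlockCharsA.CyclicDefect.Orbits
import Cfsg.Agent.BlockCharsA.BrauerPairs

/-!
# The group algebra over a subgroup: supports and fixed elements
-/

set_option linter.style.haveILetI false
set_option linter.unusedSectionVars false

namespace Cfsg.Agent.BlockCharsA.CyclicDefect

open MonoidAlgebra Cfsg.Agent.Blocks Cfsg.Agent.BlockCharsA.BrauerPairs

universe u w

variable {G : Type u} [Group G] [Finite G] {k : Type w} [Field k]

/-- The element with given coefficients. -/
noncomputable def ofCo (f : G → k) : MonoidAlgebra k G :=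
  MonoidAlgebra.ofCoeff (Finsupp.equivFunOnFinite.symm f)

theorem coeff_ofCo (f : G → k) (g : G) : (ofCo f).coeff g = f g := rfl

/-- The inclusion of the group algebra of a subgroup. -/
noncomputable abbrev emb (k : Type w) [Field k] (H : Subgroup G) :
    MonoidAlgebra k H →ₐ[k] MonoidAlgebra k G :=
  MonoidAlgebra.mapDomainAlgHom k k H.subtype

theorem emb_single (H : Subgroup G) (h : H) (c : k) :
    emb k H (single h c) = single (h : G) c := by simp

theorem emb_mem (H : Subgroup G) (x : MonoidAlgebra k H) : emb k H x ∈ subAlg k H := ⟨x, rfl⟩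

theorem coeff_emb (H : Subgroup G) (x : MonoidAlgebra k H) (h : H) :
    (emb k H x).coeff (h : G) = x.coeff h := by
  classical
  induction x using MonoidAlgebra.induction_linear with
  | zero => simp
  | add a b ha hb =>
    rw [map_add, coeff_add, Finsupp.add_apply, ha, hb, coeff_add, Finsupp.add_apply]
  | single a c =>
    rw [emb_single, coeff_single, coeff_single, Finsupp.single_apply, Finsupp.single_apply]
    by_cases hah : a = h
    · rw [if_pos hah, if_pos (congrArg Subtype.val hah)]
    · rw [if_neg hah, if_neg fun e => hah (Subtype.ext e)]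

theorem coeff_emb_notMem (H : Subgroup G) (x : MonoidAlgebra k H) {g : G} (hg : g ∉ H) :
    (emb k H x).coeff g = 0 := by
  classical
  induction x using MonoidAlgebra.induction_linear with
  | zero => simp
  | add a b ha hb => rw [map_add, coeff_add, Finsupp.add_apply, ha, hb, add_zero]
  | single a c =>
    rw [emb_single]
    simp only [coeff_single, Finsupp.single_apply]
    rw [if_neg fun h : (a : G) = g => hg (h ▸ a.2)]

theorem emb_injective (H : Subgroup G) : Function.Injective (emb k H) := fun x y h => by
  ext g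
  rw [← coeff_emb H x, ← coeff_emb H y, h]

/-- Moving an element of the subgroup algebra past a normalising group element. -/
theorem single_mul_emb {H : Subgroup G} {n : G} (hn : n ∈ Subgroup.normalizer (H : Set G))
    (x : MonoidAlgebra k H) :
    single n 1 * emb k H x = emb k H (domCongr k k (conjK hn) x) * single n 1 := by
  induction x using MonoidAlgebra.induction_linear with
  | zero => simp
  | add a b ha hb => rw [map_add, map_add, map_add, mul_add, add_mul, ha, hb]
  | single a c =>
    rw [domCongr_single, emb_single, emb_single, single_mul_single, single_mul_single, coe_conjK,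
      one_mul, mul_one, inv_mul_cancel_right]

theorem single_conj_emb {H : Subgroup G} {n : G} (hn : n ∈ Subgroup.normalizer (H : Set G))
    (x : MonoidAlgebra k H) :
    single n 1 * emb k H x * single n⁻¹ 1 = emb k H (domCongr k k (conjK hn) x) := by
  rw [single_mul_emb hn, mul_assoc, single_mul_single, mul_inv_cancel, one_mul, ← one_def, mul_one]

/-- An element fixed on the right with support in a normaliser is fixed on the left. -/
theorem left_fixed_of_right {N : Subgroup G} {z : G} (hzN : z ∈ N)
    (hnorm : ∀ g ∈ N, ∃ i : ℕ, g⁻¹ * z * g = z ^ i) {x : MonoidAlgebra k G}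
    (hx : x * single z 1 = x) (hsupp : ∀ g ∉ N, x.coeff g = 0) : single z 1 * x = x := by
  have hpow : ∀ i : ℕ, x * single (z ^ i) 1 = x := fun i => by
    induction i with
    | zero => rw [pow_zero, ← one_def, mul_one]
    | succ i ih =>
      rw [pow_succ, show (single (z ^ i * z) 1 : MonoidAlgebra k G) =
        single (z ^ i) 1 * single z 1 by rw [single_mul_single, one_mul], ← mul_assoc, ih, hx]
  ext g
  rw [coeff_single_mul_apply, one_mul]
  by_cases hg : g ∈ N
  · obtain ⟨i, hi⟩ := hnorm g hg
    have h2 := congrArg (fun y => y.coeff g) (hpow i)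
    simp only [coeff_mul_single_apply, mul_one] at h2
    rw [← hi] at h2
    simpa [mul_assoc] using h2
  · rw [hsupp g hg, hsupp]
    exact fun h => hg (by simpa using N.mul_mem hzN h)

/-- What kills the sum over a subgroup kills its fixed elements. -/
theorem kill_fixed {K : Subgroup G} [Fintype K] {t : MonoidAlgebra k G}
    (ht : t * ∑ d : K, single (d : G) 1 = 0) {x : MonoidAlgebra k G}
    (hx : ∀ d ∈ K, single d 1 * x = x) : t * x = 0 := by
  classical
  set rep : G → Prop := fun g => (QuotientGroup.mk g⁻¹ : G ⧸ K).out = g⁻¹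
  set r : MonoidAlgebra k G := ofCo fun g => if rep g then x.coeff g else (0 : k) with hr
  suffices (∑ d : K, single (d : G) 1) * r = x by rw [← this, ← mul_assoc, ht, zero_mul]
  ext g
  rw [Finset.sum_mul, MonoidAlgebra.coeff_sum, Finsupp.finsetSum_apply]
  set q : G := (QuotientGroup.mk g⁻¹ : G ⧸ K).out
  have hqK : g * q ∈ K := by
    have h1 : (QuotientGroup.mk g⁻¹ : G ⧸ K) = QuotientGroup.mk q := (QuotientGroup.out_eq' _).symm
    simpa using QuotientGroup.eq.1 h1
  have hmk : ∀ d : K, (QuotientGroup.mk ((d : G)⁻¹ * g)⁻¹ : G ⧸ K) = QuotientGroup.mk g⁻¹ :=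
    fun d => by rw [mul_inv_rev, inv_inv, QuotientGroup.mk_mul_of_mem _ d.2]
  rw [Finset.sum_eq_single_of_mem (⟨g * q, hqK⟩ : K) (Finset.mem_univ _)]
  · rw [coeff_single_mul_apply, one_mul, hr, coeff_ofCo, if_pos]
    · have := congrArg (fun y => y.coeff g) (hx _ hqK)
      simpa [coeff_single_mul_apply] using this
    · show Quotient.out _ = _
      rw [hmk ⟨g * q, hqK⟩]
      simp [q]
  · intro d _ hd
    rw [coeff_single_mul_apply, one_mul, hr, coeff_ofCo, if_neg]
    intro h
    refine hd (Subtype.ext ?_)
    show (d : G) = g * q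
    have h2 : (QuotientGroup.mk ((d : G)⁻¹ * g)⁻¹ : G ⧸ K).out = ((d : G)⁻¹ * g)⁻¹ := h
    rw [hmk d, mul_inv_rev, inv_inv] at h2
    show (d : G) = g * (QuotientGroup.mk g⁻¹ : G ⧸ K).out
    rw [h2, mul_inv_cancel_left]

/-- An invariant element off the centraliser kills the sum over a subgroup of order `p`. -/
theorem mul_sum_eq_zero {p : ℕ} [CharP k p] {K : Subgroup G} [Fintype K]
    (hp : Nat.card K = p) [Fact p.Prime] {Y : MonoidAlgebra k G}
    (hinv : ∀ d ∈ K, ∀ g, Y.coeff (d * g * d⁻¹) = Y.coeff g)
    (hnorm : ∀ g, Y.coeff g ≠ 0 → g ∈ Subgroup.normalizer (K : Set G))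
    (hC : ∀ g, Y.coeff g ≠ 0 → g ∉ Subgroup.centralizer (K : Set G)) :
    Y * ∑ d : K, single (d : G) 1 = 0 := by
  classical
  ext g
  rw [Finset.mul_sum, MonoidAlgebra.coeff_sum, Finsupp.finsetSum_apply]
  simp only [coeff_mul_single_apply, mul_one, coeff_zero, Finsupp.zero_apply]
  by_cases hall : ∀ d : K, Y.coeff (g * (d : G)⁻¹) = 0
  · exact Finset.sum_eq_zero fun d _ => hall d
  push Not at hall
  obtain ⟨d₀, hd₀⟩ := hall
  set h := g * (d₀ : G)⁻¹ with hh
  have hN := hnorm h hd₀
  have hmove : ∀ d : K, h⁻¹ * (d : G) * h * (d : G)⁻¹ ∈ K := fun d =>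
    K.mul_mem (by simpa using (Subgroup.mem_normalizer_iff.1 (inv_mem hN) d).1 d.2) (K.inv_mem d.2)
  set φ : K → K := fun d => ⟨_, hmove d⟩ with hφ
  have hinj : Function.Injective φ := by
    intro d d' hdd
    by_contra hne
    refine hC h hd₀ fun y hy => ?_
    have h1 : h⁻¹ * (d : G) * h * (d : G)⁻¹ = h⁻¹ * (d' : G) * h * (d' : G)⁻¹ :=
      congrArg Subtype.val hdd
    set e : K := d'⁻¹ * d
    have he1 : e ≠ 1 := fun he => hne (inv_mul_eq_one.1 he).symm
    haveI : IsCyclic K := isCyclic_of_prime_card hp
    letI : CommGroup K := IsCyclic.commGroup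
    have hcomm : (d : G)⁻¹ * (d' : G) = (d' : G) * (d : G)⁻¹ :=
      congrArg Subtype.val (mul_comm d⁻¹ d')
    have he : h * (e : G) = (e : G) * h := by
      show h * ((d' : G)⁻¹ * d) = (d' : G)⁻¹ * d * h
      have h2 : (d : G) * h * (d : G)⁻¹ = (d' : G) * h * (d' : G)⁻¹ := by
        simpa [mul_assoc] using congrArg (fun a => h * a) h1
      have hcomm' : (d' : G)⁻¹ * d = (d : G) * (d' : G)⁻¹ :=
        congrArg Subtype.val (mul_comm d'⁻¹ d)
      calc h * ((d' : G)⁻¹ * d) = (d' : G)⁻¹ * ((d' : G) * h * (d' : G)⁻¹) * d := by group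
        _ = (d' : G)⁻¹ * ((d : G) * h * (d : G)⁻¹) * d := by rw [h2]
        _ = (d' : G)⁻¹ * d * h := by group
    obtain ⟨i, hi⟩ := mem_powers_iff_mem_zpowers.2
      (mem_zpowers_of_prime_card hp (g := e) (g' := ⟨y, hy⟩) he1)
    have hi' : (e : G) ^ i = y := by rw [← SubmonoidClass.coe_pow]; exact congrArg Subtype.val hi
    rw [← hi']
    exact (Commute.pow_left (he.symm : Commute (e : G) h) i).eq
  have hconst : ∀ d : K, Y.coeff (h * (d : G)) = Y.coeff h := fun d => by
    obtain ⟨d', rfl⟩ := (Finite.injective_iff_surjective.1 hinj) d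
    show Y.coeff (h * (h⁻¹ * (d' : G) * h * (d' : G)⁻¹)) = _
    rw [show h * (h⁻¹ * (d' : G) * h * (d' : G)⁻¹) = (d' : G) * h * (d' : G)⁻¹ by group,
      hinv d' d'.2]
  rw [Finset.sum_congr rfl (g := fun _ => Y.coeff h) fun d _ => ?_, Finset.sum_const,
    Finset.card_univ, ← Nat.card_eq_fintype_card, hp, ← Nat.cast_smul_eq_nsmul k, CharP.cast_eq_zero,
    zero_smul]
  rw [← hconst (d₀ * d⁻¹), hh]
  simp [mul_assoc]

/-- Cutting the support. -/
noncomputable def cut (S : Set G) (x : MonoidAlgebra k G) : MonoidAlgebra k G :=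
  open scoped Classical in ofCo fun g => if g ∈ S then x.coeff g else (0 : k)

theorem coeff_cut (S : Set G) (x : MonoidAlgebra k G) (g : G) [Decidable (g ∈ S)] :
    (cut S x).coeff g = if g ∈ S then x.coeff g else 0 := by
  rw [cut, coeff_ofCo]
  congr 1

theorem coeff_cut_notMem {S : Set G} {x : MonoidAlgebra k G} {g : G} (hg : g ∉ S) :
    (cut S x).coeff g = 0 := by classical rw [coeff_cut, if_neg hg]

theorem coeff_cut_mem {S : Set G} {x : MonoidAlgebra k G} {g : G} (hg : g ∈ S) :
    (cut S x).coeff g = x.coeff g := by classical rw [coeff_cut, if_pos hg]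

theorem cut_zero (S : Set G) : cut S (0 : MonoidAlgebra k G) = 0 := by
  classical
  ext g; simp [coeff_cut]

theorem cut_add (S : Set G) (x y : MonoidAlgebra k G) : cut S (x + y) = cut S x + cut S y := by
  classical
  ext g
  by_cases h : g ∈ S <;> simp [coeff_cut, h]

/-- The algebra of a subgroup of `N` commutes with cutting to `N` from the left. -/
theorem cut_mul_left {H N : Subgroup G} (hHN : H ≤ N) (x : MonoidAlgebra k H)
    (y : MonoidAlgebra k G) : cut (N : Set G) (emb k H x * y) = emb k H x * cut (N : Set G) y := by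
  classical
  induction x using MonoidAlgebra.induction_linear with
  | zero => simp [cut_zero]
  | add a b ha hb => rw [map_add, add_mul, add_mul, cut_add, ha, hb]
  | single a c =>
    ext g
    rw [emb_single, coeff_single_mul_apply, coeff_cut, coeff_cut, coeff_single_mul_apply]
    have : g ∈ (N : Set G) ↔ (a : G)⁻¹ * g ∈ (N : Set G) :=
      (N.mul_mem_cancel_left (N.inv_mem (hHN a.2))).symm
    by_cases hg : g ∈ (N : Set G)
    · rw [if_pos hg, if_pos (this.1 hg)]
    · rw [if_neg hg, if_neg (fun h => hg (this.2 h)), mul_zero]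

/-- An element supported on `N` commutes with cutting to `N` from the right. -/
theorem cut_mul_right {N : Subgroup G} (x : MonoidAlgebra k G) {y : MonoidAlgebra k G}
    (hy : ∀ g ∉ N, y.coeff g = 0) :
    cut (N : Set G) (x * y) = cut (N : Set G) x * y := by
  classical
  induction x using MonoidAlgebra.induction_linear with
  | zero => simp [cut_zero]
  | add a b ha hb => rw [add_mul, cut_add, cut_add, add_mul, ha, hb]
  | single a c =>
    by_cases ha : a ∈ N
    · rw [show cut (N : Set G) (single a c) = single a c by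
        ext g; rw [coeff_cut]; split
        · rfl
        · next h => simp [Finsupp.single_apply, show a ≠ g from fun e => h (e ▸ ha)]]
      ext g
      rw [coeff_cut]
      split
      · rfl
      · next h =>
        rw [coeff_single_mul_apply, hy, mul_zero]
        exact fun h' => h (by simpa using N.mul_mem ha h')
    · rw [show cut (N : Set G) (single a c) = 0 by
        ext g; rw [coeff_cut]; split
        · next h => simp [Finsupp.single_apply, show a ≠ g from fun e => ha (e ▸ h)]
        · simp, zero_mul]
      ext g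
      rw [coeff_cut]
      split
      · next h =>
        rw [coeff_single_mul_apply, hy, mul_zero, coeff_zero, Finsupp.zero_apply]
        refine fun h' => ha ?_
        simpa using N.mul_mem h (N.inv_mem h')
      · simp

end Cfsg.Agent.BlockCharsA.CyclicDefect
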