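import Mathlib
import Cfsg.Agent.BlockCharsA.CyclicDefect.Count
import Cfsg.Agent.BlockCharsA.CyclicDefect.Corner
import Cfsg.Agent.BlockCharsA.CyclicNilpotent.Trace

/-!
# The uniserial corner of a block of rank one with cyclic defect group
-/

set_option linter.style.haveILetI false
set_option linter.unusedSectionVars false

namespace Cfsg.Agent.BlockCharsA.CyclicDefect

open Module MonoidAlgebra Cfsg.Agent.Blocks Cfsg.Agent.Characters Cfsg.Agent.Blocks.Star
open Cfsg.Agent.Blocks.Lattice Cfsg.Agent.BlockCharsA.TwoChars Cfsg.Agent.BlockCharsA.RankOneSmall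
open Polynomial (C X)

universe u v w

section Corner

variable {k : Type w} [Field k] {A : Type u} [Ring A] [Algebra k A]

/-- A corner generated by a nilpotent element. -/
structure Uniserial (k : Type w) {A : Type u} [Field k] [Ring A] [Algebra k A] (J T : A) (L : ℕ) :
    Prop where
  JJ : J * J = J
  JT : J * T = T
  TJ : T * J = T
  L_pos : 0 < L
  TL : T ^ L = 0
  T_top : J * T ^ (L - 1) ≠ 0
  corner : ∀ x : A, ∃ P : Polynomial k, J * x * J = J * Polynomial.aeval T P

variable {J T : A} {L : ℕ}

theorem Uniserial.J_pow (h : Uniserial k J T L) {i : ℕ} (hi : 0 < i) : J * T ^ i = T ^ i := by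
  obtain ⟨l, rfl⟩ := Nat.exists_eq_succ_of_ne_zero hi.ne'
  rw [pow_succ', ← mul_assoc, h.JT]

theorem Uniserial.commute (h : Uniserial k J T L) : Commute J T := by
  rw [Commute, SemiconjBy, h.JT, h.TJ]

theorem Uniserial.commute_aeval (h : Uniserial k J T L) (P : Polynomial k) :
    Commute T (J * Polynomial.aeval T P) := by
  refine h.commute.symm.mul_right ?_
  induction P using Polynomial.induction_on' with
  | add a b ha hb => rw [map_add]; exact ha.add_right hb
  | monomial n a =>
    rw [Polynomial.aeval_monomial]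
    exact (Algebra.commute_algebraMap_right a T).mul_right ((Commute.refl T).pow_right n)

theorem Uniserial.commute_aeval_left (h : Uniserial k J T L) (P : Polynomial k) :
    Commute J (Polynomial.aeval T P) := by
  induction P using Polynomial.induction_on' with
  | add a b ha hb => rw [map_add]; exact ha.add_right hb
  | monomial n a =>
    rw [Polynomial.aeval_monomial]
    exact (Algebra.commute_algebraMap_right a J).mul_right (h.commute.pow_right n)

/-- An element of the corner is a scalar plus a multiple of the generator. -/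
theorem Uniserial.decomp (h : Uniserial k J T L) {y : A} (hy : J * y * J = y) :
    ∃ (c : k) (P : Polynomial k),
      y = c • J + T * (J * Polynomial.aeval T P) ∧
        Commute T (J * Polynomial.aeval T P) := by
  obtain ⟨Q, hQ⟩ := h.corner y
  rw [hy] at hQ
  refine ⟨Q.coeff 0, Q.divX, ?_, h.commute_aeval _⟩
  conv_lhs => rw [hQ, ← Q.divX_mul_X_add]
  rw [map_add, map_mul, Polynomial.aeval_X, Polynomial.aeval_C, mul_add, add_comm, ← mul_assoc,
    ← (h.commute_aeval _).eq, ← Algebra.commutes, ← Algebra.smul_def]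

/-- What the generator kills in the corner is a multiple of its top power. -/
theorem Uniserial.socle (h : Uniserial k J T L) {y : A} (hy : J * y * J = y) (hTy : T * y = 0) :
    ∃ c : k, y = c • (J * T ^ (L - 1)) := by
  classical
  obtain ⟨Q, hQ⟩ := h.corner y
  rw [hy] at hQ
  have hexp : y = ∑ i ∈ Finset.range (Q.natDegree + 1), Q.coeff i • (J * T ^ i) := by
    rw [hQ, Polynomial.aeval_eq_sum_range, Finset.mul_sum]
    exact Finset.sum_congr rfl fun i _ => mul_smul_comm _ _ _
  have hzero : ∀ i, L ≤ i → J * T ^ i = 0 := fun i hi => by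
    rw [← Nat.add_sub_cancel' hi, pow_add, h.TL, zero_mul, mul_zero]
  have hlow : ∀ i, i + 1 < L → Q.coeff i = 0 := by
    intro i
    induction i using Nat.strong_induction_on with
    | _ i ih =>
      intro hi
      have h1 : T ^ (L - 1 - i) * y = Q.coeff i • (J * T ^ (L - 1)) := by
        rw [hexp, Finset.mul_sum]
        have e1 : ∀ j, T ^ (L - 1 - i) * (Q.coeff j • (J * T ^ j)) =
            Q.coeff j • (J * T ^ (L - 1 - i + j)) := fun j => by
          rw [mul_smul_comm, ← mul_assoc, ← (h.commute.pow_right _).eq, mul_assoc, ← pow_add]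
        simp only [e1]
        by_cases hid : i ∈ Finset.range (Q.natDegree + 1)
        · rw [Finset.sum_eq_single_of_mem i hid, show L - 1 - i + i = L - 1 by omega]
          intro j _ hj
          rcases Nat.lt_or_ge j i with hji | hji
          · rw [ih j hji (by omega), zero_smul]
          · rw [hzero _ (by omega), smul_zero]
        · rw [Finset.sum_eq_zero, Polynomial.coeff_eq_zero_of_natDegree_lt
            (by rw [Finset.mem_range] at hid; omega), zero_smul]
          intro j hj
          rcases Nat.lt_or_ge j i with hji | hji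
          · rw [ih j hji (by omega), zero_smul]
          · exact absurd (Finset.mem_range.2 (lt_of_le_of_lt hji (Finset.mem_range.1 hj))) hid
      have h2 : T ^ (L - 1 - i) * y = 0 := by
        obtain ⟨m, hm⟩ : ∃ m, L - 1 - i = m + 1 := ⟨L - 2 - i, by omega⟩
        rw [hm, pow_succ, mul_assoc, hTy, mul_zero]
      rw [h2, eq_comm, smul_eq_zero] at h1
      exact h1.resolve_right h.T_top
  refine ⟨Q.coeff (L - 1), ?_⟩
  rw [hexp]
  by_cases hL : L - 1 ∈ Finset.range (Q.natDegree + 1)
  · rw [Finset.sum_eq_single_of_mem _ hL]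
    intro j _ hj
    rcases Nat.lt_or_ge (j + 1) L with hjL | hjL
    · rw [hlow j hjL, zero_smul]
    · rw [hzero j (by have := h.L_pos; omega), smul_zero]
  · rw [Polynomial.coeff_eq_zero_of_natDegree_lt (by rw [Finset.mem_range] at hL; omega),
      zero_smul]
    refine Finset.sum_eq_zero fun j hj => ?_
    rw [hlow j (by have := Finset.mem_range.1 hj; simp at hL; omega), zero_smul]

/-- A nilpotent element of the corner has no constant part. -/
theorem Uniserial.const_zero (h : Uniserial k J T L) {c : k} {U : A} (hU : Commute T U)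
    (hn : IsNilpotent (c • J + T * U)) : c = 0 := by
  obtain ⟨m, hm⟩ := hn
  have key : ∀ m : ℕ, (J * T ^ (L - 1)) * (c • J + T * U) ^ m = c ^ m • (J * T ^ (L - 1)) := by
    intro m
    induction m with
    | zero => simp
    | succ m ih =>
      rw [pow_succ, ← mul_assoc, ih, smul_mul_assoc, pow_succ, mul_smul]
      congr 1
      rw [mul_add, mul_smul_comm]
      have e1 : J * T ^ (L - 1) * J = J * T ^ (L - 1) := by
        rw [mul_assoc, ← (h.commute.pow_right _).eq, ← mul_assoc, h.JJ]
      have e2 : J * T ^ (L - 1) * (T * U) = 0 := by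
        rw [mul_assoc, ← mul_assoc (T ^ (L - 1)), ← pow_succ,
          Nat.sub_add_cancel h.L_pos, h.TL, zero_mul, mul_zero]
      rw [e1, e2, add_zero]
  have h1 := key m
  rw [hm, mul_zero, eq_comm, smul_eq_zero] at h1
  exact eq_zero_of_pow_eq_zero (h1.resolve_right h.T_top)

/-- An element of the corner with a constant part is invertible there. -/
theorem Uniserial.exists_inv (h : Uniserial k J T L) {c : k} (hc : c ≠ 0) (P : Polynomial k) :
    ∃ w, J * w * J = w ∧ (c • J + T * (J * Polynomial.aeval T P)) * w = J := by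
  set U := J * Polynomial.aeval T P
  have hU : Commute T U := h.commute_aeval P
  have hnil : IsNilpotent (c⁻¹ • (T * U)) :=
    (Commute.isNilpotent_mul_right hU ⟨L, h.TL⟩).smul _
  obtain ⟨v, hv⟩ := hnil.isUnit_one_add
  refine ⟨J * (c⁻¹ • (↑v⁻¹ : A)) * J, ?_, ?_⟩
  · simp only [← mul_assoc, h.JJ]
    rw [mul_assoc _ J J, h.JJ]
  · have hJU : Commute J U := (Commute.refl J).mul_right (h.commute_aeval_left P)
    have hJv : Commute J (v : A) := by
      rw [hv]
      exact (Commute.one_right J).add_right ((h.commute.mul_right hJU).smul_right _)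
    have e1 : c • J + T * U = c • (J * (v : A)) := by
      rw [hv, mul_add, mul_one, smul_add, mul_smul_comm, smul_smul, mul_inv_cancel₀ hc, one_smul,
        ← mul_assoc J T, h.JT]
    simp only [e1, mul_smul_comm, smul_mul_assoc, smul_smul, mul_inv_cancel₀ hc,
      inv_mul_cancel₀ hc, one_smul]
    calc J * (v : A) * (J * (↑v⁻¹ : A) * J)
        = J * J * ((v : A) * ↑v⁻¹) * J := by
          rw [mul_assoc J (v : A), ← mul_assoc (v : A), ← mul_assoc (v : A), ← hJv.eq]
          simp only [mul_assoc]
      _ = J := by rw [Units.mul_inv, h.JJ, mul_one, h.JJ]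

end Corner

section Block

variable {H : Type u} [Group H] [Finite H] {p : ℕ} {M : Ideal Cfsg.AlgInt}
  {b : Set (Cfsg.IrrCharacter H)}

set_option maxHeartbeats 1000000 in
/-- A block of rank one whose corners have radicals with one generator has a uniserial corner
generating it; its top power kills what a central `p`-element fixes. -/
theorem exists_uniserial (hM : Cfsg.IsPModular p M) (hb : Cfsg.IsPBlock M b)
    (hl : Cfsg.blockRank p b = 1) {eb : IntAlg hM H} (heb : inc hM eb = blockIdem b)
    (hone : OneGenRadical (Res hM) (red hM eb)) :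
    ∃ (J T : MonoidAlgebra (Res hM) H) (L : ℕ), Uniserial (Res hM) J T L ∧ red hM eb * J = J ∧
      (∃ (r : ℕ) (a b : Fin r → MonoidAlgebra (Res hM) H), ∑ i, a i * J * b i = red hM eb) ∧
      ∀ z : H, (∀ x : H, z * x = x * z) → (∃ m : ℕ, orderOf z = p ^ m) → z ≠ 1 →
        2 ≤ L ∧ ∀ x : MonoidAlgebra (Res hM) H, single z 1 * x = x → T ^ (L - 1) * x = 0 := by
  classical
  haveI := fact_prime_of_pm hM
  haveI := Fintype.ofFinite H
  haveI : IsAlgClosed (Res hM) := isAlgClosed_residue (splitsAll_loc hM)
  haveI : Module.Finite (Res hM) (MonoidAlgebra (Res hM) H) :=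
    Module.Finite.of_basis (MonoidAlgebra.basis H (Res hM))
  haveI : CharP (Res hM) p := (CharP.charP_iff_prime_eq_zero hM.1).2 (residue_natCast_p hM)
  haveI : Module.Finite (Loc hM) (IntAlg hM H) :=
    Module.Finite.of_basis (MonoidAlgebra.basis H (Loc hM))
  have hinj : Function.Injective (inc (G := H) hM) := push_injective Subtype.val_injective
  have hee : eb * eb = eb := hinj (by rw [map_mul, heb, blockIdem_mul_self])
  have hec : ∀ x, eb * x = x * eb := fun x => hinj (by
    rw [map_mul, map_mul, heb, (central_commute (central_blockIdem b) _).eq])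
  set e := red hM eb with he
  have he2 : e * e = e := by rw [he, ← map_mul, hee]
  have hec' : ∀ x, e * x = x * e := fun x => by
    obtain ⟨x, rfl⟩ := red_surjective hM x
    rw [he, ← map_mul, hec, map_mul]
  have he0 : e ≠ 0 := by
    intro h
    obtain ⟨χ, hχ⟩ := block_nonempty hM hb
    have hω := omega_blockIdem_mem hχ
    rw [← heb, idem_eq_zero hee (mem_mR_of_red hM h), map_zero, omega_zero] at hω
    exact zero_ne_one hω
  obtain ⟨s, n, hn, π, hsurj, hker, hJac⟩ :=
    exists_pi_map (F := Res hM) (𝒜 := MonoidAlgebra (Res hM) H)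
  obtain ⟨L₀, hL₀⟩ : ∃ L : ℕ, Ring.jacobson (MonoidAlgebra (Res hM) H) ^ L = ⊥ := by
    haveI : IsArtinianRing (MonoidAlgebra (Res hM) H) := IsArtinianRing.of_finite (Res hM) _
    exact IsSemiprimaryRing.isNilpotent
  have hnil : ∀ x, π x = 0 → IsNilpotent x := fun x hx => ⟨L₀, by
    have h := Ideal.pow_mem_pow (hker x hx) L₀
    rw [hL₀] at h
    exact h⟩
  have hpe : ∀ i, π e i = 0 ∨ π e i = 1 := by
    intro i
    have hcen : ∀ Y : Matrix (Fin (n i)) (Fin (n i)) (Res hM), Commute Y (π e i) := fun Y => by
      obtain ⟨y, hy⟩ := hsurj (Pi.single i Y)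
      have h := congrFun (congrArg π (hec' y)) i
      rw [map_mul, map_mul, Pi.mul_apply, Pi.mul_apply, hy, Pi.single_eq_same] at h
      exact h.symm
    obtain ⟨c, hc⟩ := Matrix.mem_range_scalar_of_commute_single (M := π e i) fun a b _ => hcen _
    have hidem := congrFun (congrArg π he2) i
    rw [map_mul, Pi.mul_apply, ← hc, ← map_mul] at hidem
    haveI := hn i
    have hcc : c * c = c := Matrix.scalar_inj.1 hidem
    rcases mul_eq_zero.1 (show c * (c - 1) = 0 by rw [mul_sub, hcc, mul_one, sub_self]) with h | h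
    · exact Or.inl (by rw [← hc, h, map_zero])
    · exact Or.inr (by rw [← hc, sub_eq_zero.1 h, map_one])
  obtain ⟨i₀, hi₀⟩ : ∃ i, π e i = 1 := by
    by_contra hno
    push Not at hno
    obtain ⟨m, hm⟩ := hnil e (funext fun i => (hpe i).resolve_right (hno i))
    rcases m with - | m
    · rw [pow_zero] at hm
      exact he0 (by rw [← mul_one e, hm, mul_zero])
    · exact he0 (by rw [← IsIdempotentElem.pow_succ_eq m he2]; exact hm)
  -- one component, as the rank is one
  have honly : ∀ i, i ≠ i₀ → π e i = 0 := by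
    intro i hi
    refine (hpe i).resolve_right fun hi1 => ?_
    haveI := hn i
    haveI := hn i₀
    set idx : Bool → Fin s := fun b => if b then i else i₀
    set ρ : ∀ j, MonoidAlgebra (Res hM) H →ₐ[Res hM] Module.End (Res hM) (Fin (n j) → Res hM) :=
      fun j => (Matrix.toLinAlgEquiv' : Matrix (Fin (n j)) (Fin (n j)) (Res hM) ≃ₐ[Res hM] _).toAlgHom.comp
        ((Pi.evalAlgHom (Res hM) _ j).comp π)
    set τ : Bool → MonoidAlgebra (Res hM) H →ₗ[Res hM] Res hM := fun b =>
      (LinearMap.trace (Res hM) _).comp (ρ (idx b)).toLinearMap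
    have hτv : ∀ b x, τ b x = Matrix.trace (π x (idx b)) := fun b x =>
      Matrix.trace_toLin'_eq _
    have hbound := card_le_blockRank hM hb heb τ
      (fun b x y => by
        rw [hτv, hτv, map_mul, map_mul, Pi.mul_apply, Pi.mul_apply, Matrix.trace_mul_comm])
      (fun b g u t hu hut hc => trace_shift (ρ (idx b)) hu t hut hc)
      (fun b x => by
        rw [hτv, hτv, map_mul, Pi.mul_apply]
        cases b <;> simp [idx, ← he, hi₀, hi1])
      (by
        rw [Fintype.linearIndependent_iff]
        intro g hg b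
        obtain ⟨x, hx⟩ := hsurj (Pi.single (idx b) (Matrix.single 0 0 1))
        have h := LinearMap.congr_fun hg x
        rw [LinearMap.sum_apply, Finset.sum_eq_single_of_mem b (Finset.mem_univ _)] at h
        · rw [LinearMap.smul_apply, hτv, hx, Pi.single_eq_same, Matrix.trace_single_eq_same] at h
          simpa using h
        · intro c _ hcb
          have hne : idx c ≠ idx b := by
            cases b <;> cases c <;> simp_all [idx, hi.symm]
          rw [LinearMap.smul_apply, hτv, hx, Pi.single_eq_of_ne hne, Matrix.trace_zero, smul_zero])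
    rw [Fintype.card_bool, hl] at hbound
    omega
  haveI := hn i₀
  have hπe : π e = Pi.single i₀ 1 := funext fun i => by
    rcases eq_or_ne i i₀ with rfl | hi
    · rw [hi₀, Pi.single_eq_same]
    · rw [honly i hi, Pi.single_eq_of_ne hi]
  obtain ⟨w, hw⟩ := hsurj (Pi.single i₀ (Matrix.single 0 0 1))
  obtain ⟨E₀, hE₀, hE₀π⟩ := exists_isIdempotentElem_eq_of_ker_isNilpotent (π : _ →+* _)
    (fun x hx => hnil x (RingHom.mem_ker.1 hx)) (π (e * w)) ⟨e * w, rfl⟩ (by
      rw [IsIdempotentElem, map_mul, hπe, hw, ← Pi.single_mul, ← Pi.single_mul, one_mul,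
        Matrix.single_mul_single_same, mul_one])
  set J := e * E₀ with hJdef
  have hJJ : J * J = J := by
    rw [hJdef, mul_assoc, ← mul_assoc E₀, ← hec', mul_assoc e E₀, ← mul_assoc, he2, hE₀.eq]
  have heJ : e * J = J := by rw [hJdef, ← mul_assoc, he2]
  have hπJ : π J = Pi.single i₀ (Matrix.single 0 0 1) := by
    have h : π E₀ = π (e * w) := hE₀π
    rw [hJdef, map_mul, h, ← map_mul, ← mul_assoc, he2, map_mul, hπe, hw, ← Pi.single_mul, one_mul]
  clear_value J
  have hJ0 : J ≠ 0 := fun h => by
    have h' := congrFun (congrFun (congrFun hπJ i₀) 0) 0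
    rw [h, map_zero, Pi.single_eq_same, Matrix.single_apply_same] at h'
    exact zero_ne_one h'
  -- the radical of the corner
  set A := LinearMap.range (cornerMap (Res hM) J) with hA
  set N := A ⊓ LinearMap.ker π.toLinearMap with hN
  have hAJ : J ∈ A := (mem_corner hJJ).2 ⟨hJJ, hJJ⟩
  have hAmul : ∀ x ∈ A, ∀ y ∈ A, x * y ∈ A := fun x hx y hy => (mem_corner hJJ).2
    ⟨by rw [← mul_assoc, ((mem_corner hJJ).1 hx).1],
      by rw [mul_assoc, ((mem_corner hJJ).1 hy).2]⟩
  have hNN : N * N ≤ N := Submodule.mul_le.2 fun x hx y hy => ⟨hAmul x hx.1 y hy.1, by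
    show π (x * y) = 0
    rw [map_mul, show π x = 0 from hx.2, zero_mul]⟩
  have hcJ : ∀ c : Res hM, c • J ∈ N → c = 0 := fun c hc => by
    have h : π (c • J) = 0 := hc.2
    rw [map_smul, hπJ] at h
    simpa [Matrix.smul_single] using congrFun (congrFun (congrFun h i₀) 0) 0
  have hres : ∀ x ∈ A, ∃ c : Res hM, x - c • J ∈ N := by
    intro x hx
    refine ⟨π x i₀ 0 0, A.sub_mem hx (A.smul_mem _ hAJ), ?_⟩
    show π (x - π x i₀ 0 0 • J) = 0
    obtain ⟨h1, h2⟩ := (mem_corner hJJ).1 hx
    have hx' : π x = Pi.single i₀ (π x i₀ 0 0 • Matrix.single 0 0 1) := by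
      funext j
      have h3 : π x j = π J j * π x j * π J j := by
        rw [← Pi.mul_apply, ← Pi.mul_apply, ← map_mul, ← map_mul, h1, h2]
      rw [hπJ] at h3
      rcases eq_or_ne j i₀ with rfl | hj
      · rw [Pi.single_eq_same] at h3 ⊢
        conv_lhs => rw [h3]
        rw [Matrix.single_mul_mul_single, one_mul, mul_one, Matrix.smul_single, smul_eq_mul,
          mul_one]
      · rw [Pi.single_eq_of_ne hj] at h3 ⊢
        rw [h3, zero_mul, zero_mul]
    rw [map_sub, map_smul, hπJ, ← Pi.single_smul, ← hx', sub_self]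
  obtain ⟨T, hTN, hT⟩ := hone J A N hJJ heJ (fun x => mem_corner hJJ) inf_le_left hNN hcJ hres
  have hNL : N ^ (L₀ + 1) = ⊥ := pow_eq_bot_of_le_jacobson hL₀ fun x hx => hker x hx.2
  obtain ⟨hJT, hTJ⟩ := (mem_corner hJJ).1 hTN.1
  have hTn : IsNilpotent T := hnil T hTN.2
  -- everything is a polynomial in the generator
  set P := Submodule.span (Res hM) (Set.range fun m : ℕ => T ^ (m + 1)) with hP
  have hTP : T ∈ P := Submodule.subset_span ⟨0, pow_one T⟩
  have hPP : P * P ≤ P := by
    rw [hP, Submodule.span_mul_span]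
    refine Submodule.span_le.2 ?_
    rintro _ ⟨_, ⟨a, rfl⟩, _, ⟨b, rfl⟩, rfl⟩
    exact Submodule.subset_span ⟨a + b + 1, by simp only; rw [← pow_add]; congr 1; omega⟩
  have hPN : P ≤ N := by
    rw [hP, Submodule.span_le]
    rintro _ ⟨m, rfl⟩
    induction m with
    | zero => simpa using hTN
    | succ m ih => simp only [SetLike.mem_coe] at ih ⊢
                   rw [pow_succ]
                   exact hNN (Submodule.mul_mem_mul ih hTN)
  have hanti : ∀ i j, N ^ (i + 1 + j) ≤ N ^ (i + 1) := by
    intro i j
    induction j with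
    | zero => rw [Nat.add_zero]
    | succ j ih =>
      refine le_trans ((le_of_eq ?_).trans (mul_le_mul' (le_refl (N ^ (i + j))) hNN)) (le_trans (le_of_eq ?_) ih)
      · rw [show i + 1 + (j + 1) = (i + j) + 1 + 1 by omega, pow_succ, pow_succ, mul_assoc]
      · rw [show i + 1 + j = (i + j) + 1 by omega, pow_succ]
  have hstep : ∀ m, N ≤ P ⊔ N ^ (m + 1) := by
    intro m
    induction m with
    | zero => rw [pow_one]; exact le_sup_right
    | succ m ih =>
      have h2 : N * N ≤ P ⊔ N ^ (m + 1 + 1) := by
        refine (mul_le_mul' ih ih).trans ?_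
        rw [Submodule.sup_mul, Submodule.mul_sup, Submodule.mul_sup]
        refine sup_le (sup_le (hPP.trans le_sup_left) (le_sup_of_le_right ?_))
          (le_sup_of_le_right (sup_le ?_ ?_))
        · rw [pow_succ' N (m + 1)]
          exact mul_le_mul' hPN le_rfl
        · rw [pow_succ N (m + 1)]
          exact mul_le_mul' le_rfl hPN
        · rw [← pow_add, show m + 1 + (m + 1) = m + 1 + 1 + m by omega]
          exact hanti _ _
      exact hT.trans (sup_le (le_sup_of_le_left ((Submodule.span_singleton_le_iff_mem _ _).2 hTP)) h2)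
  have hNP : N ≤ P := by
    have h := hstep L₀
    rwa [hNL, sup_bot_eq] at h
  set L := Nat.find hTn with hLdef
  have hTL : T ^ L = 0 := Nat.find_spec hTn
  have hLpos : 0 < L := by
    rcases Nat.eq_zero_or_pos L with h | h
    · rw [h, pow_zero] at hTL
      exact absurd (by rw [← mul_one J, hTL, mul_zero]) hJ0
    · exact h
  have huni : Uniserial (Res hM) J T L := by
    refine ⟨hJJ, hJT, hTJ, hLpos, hTL, fun h => ?_, fun x => ?_⟩
    · rcases Nat.eq_zero_or_pos (L - 1) with h0 | h0
      · rw [h0, pow_zero, mul_one] at h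
        exact hJ0 h
      · obtain ⟨l, hl⟩ := Nat.exists_eq_succ_of_ne_zero h0.ne'
        rw [hl, pow_succ', ← mul_assoc, hJT, ← pow_succ', ← Nat.succ_eq_add_one, ← hl] at h
        exact Nat.find_min hTn (show L - 1 < L by omega) h
    · obtain ⟨c, hc⟩ := hres (J * x * J) ((mem_corner hJJ).2
        ⟨by rw [← mul_assoc, ← mul_assoc, hJJ], by rw [mul_assoc, hJJ]⟩)
      have h := hNP hc
      rw [hP, Finsupp.mem_span_range_iff_exists_finsupp] at h
      obtain ⟨g, hg⟩ := h
      refine ⟨Polynomial.C c + ∑ m ∈ g.support, Polynomial.C (g m) * Polynomial.X ^ (m + 1), ?_⟩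
      rw [map_add, Polynomial.aeval_C, map_sum, mul_add, Finset.mul_sum, ← Algebra.commutes,
        ← Algebra.smul_def]
      rw [← sub_eq_iff_eq_add', ← hg, Finsupp.sum]
      refine Finset.sum_congr rfl fun m _ => ?_
      rw [map_mul, Polynomial.aeval_C, map_pow, Polynomial.aeval_X, ← Algebra.smul_def,
        mul_smul_comm, pow_succ', ← mul_assoc J, hJT]
  refine ⟨J, T, L, huni, heJ, ?_, ?_⟩
  · -- it generates the block
    have hmat : ∀ a b : Fin (n i₀), ∃ y, π y = Pi.single i₀ (Matrix.single a b 1) :=
      fun a b => hsurj _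
    choose mu hmu using hmat
    set S := ∑ a, e * mu a 0 * J * mu 0 a with hS
    have hπS : π S = π e := by
      rw [hS, map_sum, hπe]
      simp only [map_mul, hmu, hπe, hπJ, ← Pi.single_mul, one_mul, Matrix.single_mul_single_same,
        mul_one]
      refine (map_sum (AddMonoidHom.single (fun i => Matrix (Fin (n i)) (Fin (n i)) (Res hM)) i₀)
        (fun a => Matrix.single a a (1 : Res hM)) Finset.univ).symm.trans
        (congrArg (Pi.single i₀) ?_)
      ext a b
      rw [Matrix.sum_apply, Matrix.one_apply]
      by_cases hab : a = b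
      · subst hab
        simp [Matrix.single_apply]
      · rw [if_neg hab]
        refine Finset.sum_eq_zero fun c _ => ?_
        simp only [Matrix.single_apply]
        rw [if_neg]
        rintro ⟨rfl, rfl⟩
        exact hab rfl
    have heS : e * S = S := by
      rw [hS, Finset.mul_sum]
      exact Finset.sum_congr rfl fun a _ => by simp only [← mul_assoc, he2]
    obtain ⟨v, hv⟩ := (hnil (e - S) (by rw [map_sub, hπS, sub_self])).isUnit_one_sub
    have hv' : e * (v : MonoidAlgebra (Res hM) H) = S := by
      rw [hv, mul_sub, mul_one, mul_sub, he2, heS, sub_sub_cancel]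
    refine ⟨n i₀, fun a => e * mu a 0,
      fun a => mu 0 a * (↑v⁻¹ : MonoidAlgebra (Res hM) H), ?_⟩
    simp only [← mul_assoc, ← Finset.sum_mul]
    rw [← hS, ← hv', mul_assoc, Units.mul_inv, mul_one]
  · intro z hz hzp hz1
    obtain ⟨m, hm⟩ := hzp
    haveI : CharP (MonoidAlgebra (Res hM) H) p :=
      charP_of_injective_algebraMap (R := Res hM) (RingHom.injective _) p
    set Z : MonoidAlgebra (Res hM) H := single z 1 with hZ
    have hZc : ∀ x, Z * x = x * Z := fun x => by
      induction x using MonoidAlgebra.induction_linear with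
      | zero => simp
      | add a b ha hb => rw [mul_add, add_mul, ha, hb]
      | single g c => rw [hZ, single_mul_single, single_mul_single, hz g, one_mul, mul_one]
    have hnilZ : IsNilpotent (Z - 1) := ⟨p ^ m, by
      rw [sub_pow_char_pow_of_commute p m (Commute.one_right _), one_pow, hZ, single_pow, one_pow,
        ← hm, pow_orderOf_eq_one, ← one_def, sub_self]⟩
    -- a fixed idempotent would be zero
    set y := (Z - 1) * J with hy
    have hy0 : y ≠ 0 := by
      intro h0
      rw [hy, sub_mul, one_mul, sub_eq_zero] at h0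
      set D := Subgroup.zpowers z with hD
      have hfix : ∀ d ∈ D, (single d 1 : MonoidAlgebra (Res hM) H) * J = J := by
        intro d hd
        obtain ⟨i, rfl⟩ := mem_powers_iff_mem_zpowers.2 hd
        induction i with
        | zero => simp [← one_def]
        | succ i ih =>
          have e1 : (single (z ^ (i + 1)) 1 : MonoidAlgebra (Res hM) H) =
              single (z ^ i) 1 * Z := by rw [hZ, single_mul_single, pow_succ, one_mul]
          show single (z ^ (i + 1)) 1 * J = J
          rw [e1, mul_assoc, h0]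
          exact ih (pow_mem (Subgroup.mem_zpowers z) i)
      set S : MonoidAlgebra (Res hM) H := ∑ d : D, single (d : H) 1 with hS
      have hDc : ∀ d ∈ D, ∀ x, (single d 1 : MonoidAlgebra (Res hM) H) * x = x * single d 1 := by
        intro d hd x
        obtain ⟨i, rfl⟩ := mem_powers_iff_mem_zpowers.2 hd
        have h1 : (single (z ^ i) 1 : MonoidAlgebra (Res hM) H) = Z ^ i := by
          rw [hZ, single_pow, one_pow]
        show single (z ^ i) 1 * x = x * single (z ^ i) 1
        rw [h1]
        exact (Commute.pow_left (hZc x) i).eq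
      have hSS : S * S = 0 := by
        have h1 : ∀ d : D, (single (d : H) 1 : MonoidAlgebra (Res hM) H) * S = S := fun d => by
          rw [hS, Finset.mul_sum]
          refine Fintype.sum_equiv (Equiv.mulLeft d) _ _ fun d' => ?_
          simp [single_mul_single]
        nth_rw 1 [hS]
        rw [Finset.sum_mul]
        simp only [h1]
        rw [Finset.sum_const, Finset.card_univ, ← Nat.cast_smul_eq_nsmul (Res hM),
          ← Nat.card_eq_fintype_card, Nat.card_zpowers, hm]
        obtain ⟨m', rfl⟩ : ∃ m', m = m' + 1 := ⟨m - 1, by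
          rcases Nat.eq_zero_or_pos m with h | h
          · rw [h, pow_zero, orderOf_eq_one_iff] at hm
            exact absurd hm hz1
          · omega⟩
        rw [Nat.cast_pow, residue_natCast_p hM, zero_pow (by omega), zero_smul]
      have hSc : ∀ x, S * x = x * S := fun x => by
        rw [hS, Finset.sum_mul, Finset.mul_sum]
        exact Finset.sum_congr rfl fun d _ => hDc _ d.2 x
      set r : MonoidAlgebra (Res hM) H := ∑ q : H ⧸ D, single q.out (J.coeff q.out) with hr
      have hJr : S * r = J := by
        conv_rhs => rw [← sum_coeff_single J, Finsupp.sum_fintype _ _ (fun g => by simp)]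
        rw [hS, hr, Finset.sum_mul_sum, ← Finset.sum_product']
        refine Fintype.sum_bijective (fun x : D × (H ⧸ D) => (x.1 : H) * x.2.out) ⟨?_, ?_⟩ _ _ ?_
        · rintro ⟨d, q⟩ ⟨d', q'⟩ h
          have hcomm : ∀ d : D, ∀ g : H, (d : H) * g = g * d := by
            intro d g
            obtain ⟨i, hi⟩ := mem_powers_iff_mem_zpowers.2 d.2
            rw [← hi]
            exact (Commute.pow_left (hz g) i).eq
          simp only [hcomm] at h
          have hq : q = q' := by
            have h' := congrArg (QuotientGroup.mk : H → H ⧸ D) h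
            rwa [QuotientGroup.mk_mul_of_mem _ d.2, QuotientGroup.mk_mul_of_mem _ d'.2,
              QuotientGroup.out_eq', QuotientGroup.out_eq'] at h'
          subst hq
          exact Prod.ext (Subtype.ext (mul_left_cancel h)) rfl
        · intro g
          have hmem : (QuotientGroup.mk g : H ⧸ D).out⁻¹ * g ∈ D := by
            rw [← QuotientGroup.eq, QuotientGroup.out_eq']
          refine ⟨(⟨_, hmem⟩, QuotientGroup.mk g), ?_⟩
          obtain ⟨i, hi⟩ := mem_powers_iff_mem_zpowers.2 hmem
          show (QuotientGroup.mk g : H ⧸ D).out⁻¹ * g * (QuotientGroup.mk g : H ⧸ D).out = g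
          rw [← hi]
          show z ^ i * _ = g
          rw [(Commute.pow_left (hz (QuotientGroup.mk g : H ⧸ D).out) i).eq,
            show z ^ i = _ from hi, mul_inv_cancel_left]
        · rintro ⟨d, q⟩
          rw [single_mul_single, one_mul]
          congr 1
          have h2 := congrArg (fun y => y.coeff ((d : H) * q.out)) (hfix _ d.2)
          simpa using h2
      exact hJ0 <| calc J = S * r * (S * r) := by rw [hJr, hJJ]
        _ = S * S * (r * r) := by
          rw [mul_assoc S r, ← mul_assoc r, ← hSc r, mul_assoc S r r, ← mul_assoc]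
        _ = 0 := by rw [hSS, zero_mul]
    have hZ1 : Commute (Z - 1) J := Commute.sub_left (hZc J) (Commute.one_left _)
    have hJy : J * y * J = y := by
      rw [hy, ← mul_assoc J, ← hZ1.eq, mul_assoc (Z - 1), hJJ,
        mul_assoc, hJJ]
    obtain ⟨c, Q, hcQ, hcomm⟩ := huni.decomp hJy
    have hc0 : c = 0 := huni.const_zero hcomm (hcQ ▸
      Commute.isNilpotent_mul_right hZ1 hnilZ)
    have hL2 : 2 ≤ L := by
      by_contra hlt
      refine hy0 ?_
      rw [hcQ, hc0, zero_smul, zero_add, show T = 0 from by
        rw [← pow_one T, show (1 : ℕ) = L by omega]; exact hTL, zero_mul]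
    refine ⟨hL2, fun x hx => ?_⟩
    -- the top power is a multiple of `y`
    have hex : ∃ i, T ^ i * y = 0 := ⟨L, by rw [hTL, zero_mul]⟩
    set i := Nat.find hex
    have hi : T ^ i * y = 0 := Nat.find_spec hex
    have hipos : 0 < i := Nat.pos_of_ne_zero fun h => hy0 (by rwa [h, pow_zero, one_mul] at hi)
    have hne : T ^ (i - 1) * y ≠ 0 := Nat.find_min hex (show i - 1 < i by omega)
    have hJc : J * (T ^ (i - 1) * y) * J = T ^ (i - 1) * y := by
      rw [← mul_assoc J, (huni.commute.pow_right _).eq, mul_assoc _ J y,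
        mul_assoc (T ^ (i-1)), hJy]
    obtain ⟨d, hd⟩ := huni.socle hJc (by
      rw [← mul_assoc, ← pow_succ', Nat.sub_add_cancel hipos, hi])
    have hd0 : d ≠ 0 := fun h => hne (by rw [hd, h, zero_smul])
    have hyx : y * x = 0 := by
      rw [hy, hZ1.eq,
        mul_assoc, sub_mul, one_mul, hx, sub_self, mul_zero]
    have h2 : T ^ (L - 1) = d⁻¹ • (T ^ (i - 1) * y) := by
      rw [hd, smul_smul, inv_mul_cancel₀ hd0, one_smul, huni.J_pow (by omega)]
    rw [h2, smul_mul_assoc, mul_assoc, hyx, mul_zero, smul_zero]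

end Block

end Cfsg.Agent.BlockCharsA.CyclicDefect
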