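import Mathlib
import Cfsg.Agent.BlockCharsA.CyclicDefect.Local

/-!
# A semilinear unit of a uniserial corner

An automorphism of the algebra fixing the part `F` generated by a uniserial corner moves the
corner to an equivalent one, and the equivalence twists the generator to a multiple of itself.
-/

set_option linter.style.haveILetI false
set_option linter.unusedSectionVars false

namespace Cfsg.Agent.BlockCharsA.CyclicDefect

universe u w

variable {k : Type w} [Field k] {A : Type u} [Ring A] [Algebra k A] {J T : A} {L : ℕ}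

theorem Uniserial.J_ne (h : Uniserial k J T L) : J ≠ 0 := fun h0 =>
  h.T_top (by rw [h0, zero_mul])

theorem Uniserial.mul_pow_L (h : Uniserial k J T L) {U : A} (hU : Commute T U) :
    (T * U) ^ L = 0 := by rw [hU.mul_pow, h.TL, zero_mul]

/-- An idempotent of the corner is trivial. -/
theorem Uniserial.idem_eq (h : Uniserial k J T L) {r : A} (hr : J * r * J = r) (hrr : r * r = r)
    (hr0 : r ≠ 0) : r = J := by
  obtain ⟨c, P, hc, hcomm⟩ := h.decomp hr
  rcases eq_or_ne c 0 with rfl | hc0
  · rw [zero_smul, zero_add] at hc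
    refine absurd ?_ hr0
    have h1 : r ^ L = 0 := by rw [hc]; exact h.mul_pow_L hcomm
    obtain ⟨l, hl⟩ := Nat.exists_eq_succ_of_ne_zero h.L_pos.ne'
    rw [hl, IsIdempotentElem.pow_succ_eq l hrr] at h1
    exact h1
  · obtain ⟨w, -, hw⟩ := h.exists_inv hc0 P
    rw [← hc] at hw
    calc r = r * J := by rw [← hr, mul_assoc _ J J, h.JJ]
      _ = J := by rw [← hw, ← mul_assoc, hrr]

/-- The moved corner is equivalent to the corner. -/
theorem Uniserial.exists_twist (h : Uniserial k J T L) (σ : A ≃ₐ[k] A) {F : A}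
    (hFJ : F * J = J) (hσF : σ F = F)
    (hgen : ∃ (r : ℕ) (a b : Fin r → A), ∑ i, a i * J * b i = F) :
    ∃ a b : A, J * a = a ∧ a * σ J = a ∧ σ J * b = b ∧ b * J = b ∧ a * b = J ∧ b * a = σ J := by
  obtain ⟨r, c, d, hcd⟩ := hgen
  set J' := σ J with hJ'
  have hJ'J' : J' * J' = J' := by rw [hJ', ← map_mul, h.JJ]
  have hcd' : ∑ i, σ (c i) * J' * σ (d i) = F := by
    conv_rhs => rw [← hσF, ← hcd, map_sum]
    simp only [map_mul, hJ']
  have hsum : ∑ i, J * σ (c i) * J' * (J' * σ (d i) * J) = J := by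
    have h1 : J * F * J = J := by rw [mul_assoc, hFJ, h.JJ]
    conv_rhs => rw [← h1, ← hcd', Finset.mul_sum, Finset.sum_mul]
    refine Finset.sum_congr rfl fun i _ => ?_
    simp only [← mul_assoc]
    rw [mul_assoc (J * σ (c i)) J' J', hJ'J']
  have hin : ∀ x y : A, J * (J * x * J' * (J' * y * J)) * J = J * x * J' * (J' * y * J) :=
    fun x y => by
      simp only [← mul_assoc, h.JJ]
      rw [mul_assoc _ J J, h.JJ]
  -- some term has a constant part
  obtain ⟨i, hi⟩ : ∃ i, ∀ U : A, Commute T U → J * σ (c i) * J' * (J' * σ (d i) * J) ≠ T * U := by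
    by_contra hall
    push Not at hall
    choose U hU hUe using hall
    refine h.T_top ?_
    conv_lhs => rw [← hsum, Finset.sum_mul]
    refine Finset.sum_eq_zero fun i _ => ?_
    rw [hUe, (hU i).eq, mul_assoc, ← pow_succ',
      Nat.sub_add_cancel h.L_pos, h.TL, mul_zero]
  obtain ⟨γ, P, hγP, hcomm⟩ := h.decomp (hin (σ (c i)) (σ (d i)))
  have hγ : γ ≠ 0 := fun h0 => hi _ hcomm (by rw [hγP, h0, zero_smul, zero_add])
  obtain ⟨w, hwJ, hw⟩ := h.exists_inv hγ P
  rw [← hγP] at hw
  set a := J * σ (c i) * J' with ha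
  set b := J' * σ (d i) * J * w with hb
  have hab : a * b = J := by rw [ha, hb, ← mul_assoc, hw]
  have hJa : J * a = a := by rw [ha, ← mul_assoc, ← mul_assoc, h.JJ]
  have haJ : a * J' = a := by rw [ha, mul_assoc, hJ'J']
  have hJb : J' * b = b := by rw [hb]; simp only [← mul_assoc, hJ'J']
  have hbJ : b * J = b := by
    rw [hb, mul_assoc, show w * J = w by
      conv_rhs => rw [← hwJ]
      conv_lhs => rw [← hwJ, mul_assoc, h.JJ]]
  refine ⟨a, b, hJa, haJ, hJb, hbJ, hab, ?_⟩
  have hq : b * a * (b * a) = b * a := by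
    rw [mul_assoc, ← mul_assoc a, hab, hJa]
  have hq0 : b * a ≠ 0 := fun h0 => h.J_ne (by
    calc J = a * b * (a * b) := by rw [hab, h.JJ]
      _ = a * (b * a) * b := by simp only [mul_assoc]
      _ = 0 := by rw [h0, mul_zero, zero_mul])
  have hqJ : J' * (b * a) * J' = b * a := by rw [← mul_assoc, hJb, mul_assoc, haJ]
  have hr := congrArg σ.symm hqJ
  rw [map_mul, map_mul, hJ', σ.symm_apply_apply] at hr
  have h3 := h.idem_eq hr (by rw [← map_mul, hq]) (fun h0 => hq0 (σ.symm.injective (by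
    rw [h0, map_zero])))
  rw [← σ.apply_symm_apply (b * a), h3]

/-- The equivalence twists the generator to multiples of itself. -/
theorem Uniserial.twist_generator (h : Uniserial k J T L) (σ : A ≃ₐ[k] A) {a b : A}
    (hJa : J * a = a) (haJ : a * σ J = a) (hJb : σ J * b = b) (hbJ : b * J = b) (hab : a * b = J)
    (hba : b * a = σ J) :
    (∃ U, Commute T U ∧ a * σ T * b = T * U) ∧ ∃ U, Commute T U ∧ σ.symm (b * T * a) = T * U := by
  have key : ∀ y : A, J * y * J = y → IsNilpotent y → ∃ U, Commute T U ∧ y = T * U := by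
    intro y hy hn
    obtain ⟨c, P, hc, hcomm⟩ := h.decomp hy
    have h0 := h.const_zero hcomm (hc ▸ hn)
    exact ⟨_, hcomm, by rw [hc, h0, zero_smul, zero_add]⟩
  refine ⟨key _ ?_ ⟨L, ?_⟩, key _ ?_ ⟨L, ?_⟩⟩
  · calc J * (a * σ T * b) * J = J * a * σ T * (b * J) := by simp only [mul_assoc]
      _ = a * σ T * b := by rw [hJa, hbJ]
  · have : ∀ i, (a * σ T * b) ^ (i + 1) = a * σ (T ^ (i + 1)) * b := by
      intro i
      induction i with
      | zero => simp
      | succ i ih =>
        calc (a * σ T * b) ^ (i + 1 + 1) = a * σ (T ^ (i + 1)) * (b * a) * σ T * b := by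
              rw [pow_succ, ih]; simp only [mul_assoc]
          _ = a * σ (T ^ (i + 1) * J * T) * b := by rw [hba, map_mul, map_mul]; simp only [mul_assoc]
          _ = _ := by rw [mul_assoc (T ^ (i + 1)), h.JT, ← pow_succ]
    obtain ⟨l, hl⟩ := Nat.exists_eq_succ_of_ne_zero h.L_pos.ne'
    rw [hl, this, ← Nat.succ_eq_add_one, ← hl, h.TL, map_zero, mul_zero, zero_mul]
  · rw [← σ.symm_apply_apply J, ← map_mul, ← map_mul]
    congr 1
    calc σ J * (b * T * a) * σ J = σ J * b * T * (a * σ J) := by simp only [mul_assoc]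
      _ = b * T * a := by rw [hJb, haJ]
  · have : ∀ i, (b * T * a) ^ (i + 1) = b * T ^ (i + 1) * a := by
      intro i
      induction i with
      | zero => simp
      | succ i ih =>
        calc (b * T * a) ^ (i + 1 + 1) = b * T ^ (i + 1) * (a * b) * T * a := by
              rw [pow_succ, ih]; simp only [mul_assoc]
          _ = _ := by rw [hab, mul_assoc _ J T, h.JT, mul_assoc b (T ^ (i + 1)) T, ← pow_succ]
    obtain ⟨l, hl⟩ := Nat.exists_eq_succ_of_ne_zero h.L_pos.ne'
    rw [← map_pow, hl, this, ← Nat.succ_eq_add_one, ← hl, h.TL, mul_zero, zero_mul, map_zero]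

/-- What the generator kills in the generated part is a multiple of its top power. -/
theorem Uniserial.socle_right (h : Uniserial k J T L) (hL : 2 ≤ L) {F : A}
    (hFc : ∀ x, F * x = x * F) (hFJ : F * J = J)
    (hgen : ∃ (r : ℕ) (a b : Fin r → A), ∑ i, a i * J * b i = F)
    {x : A} (hx : J * x = x) (hTx : T * x = 0) : ∃ y, x = T ^ (L - 1) * y := by
  obtain ⟨r, a, b, hab⟩ := hgen
  have hs : ∀ i, ∃ c : k, x * a i * J = c • (J * T ^ (L - 1)) := fun i =>
    h.socle (by rw [← mul_assoc, ← mul_assoc, hx, mul_assoc _ J J, h.JJ])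
      (by rw [← mul_assoc, ← mul_assoc, hTx, zero_mul, zero_mul])
  choose c hc using hs
  refine ⟨∑ i, c i • b i, ?_⟩
  have hxF : x * F = x := by rw [← hFc, ← hx, ← mul_assoc, hFJ]
  conv_lhs => rw [← hxF, ← hab, Finset.mul_sum]
  rw [Finset.mul_sum]
  refine Finset.sum_congr rfl fun i _ => ?_
  rw [← mul_assoc, ← mul_assoc, hc, h.J_pow (by omega), smul_mul_assoc, mul_smul_comm]

end Cfsg.Agent.BlockCharsA.CyclicDefect
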