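import Mathlib
import Cfsg.Agent.BlockCharsA.CyclicDefect.Emb
import Cfsg.Agent.BlockCharsA.CyclicDefect.Twist

/-!
# The data of a corner twisted by a normalising element
-/

set_option linter.style.haveILetI false
set_option linter.unusedSectionVars false

namespace Cfsg.Agent.BlockCharsA.CyclicDefect

open MonoidAlgebra Cfsg.Agent.BlockCharsA.BrauerPairs

universe u w

variable {G : Type u} [Group G] [Finite G] {k : Type w} [Field k]

set_option maxHeartbeats 1000000 in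
/-- A uniserial corner of a normalised subgroup algebra with a stable part has corner data. -/
theorem exists_cornerData {H : Subgroup G} {n₀ : G} (hn₀ : n₀ ∈ Subgroup.normalizer (H : Set G))
    {J T F : MonoidAlgebra k H} {L : ℕ} (hU : Uniserial k J T L) (hL : 2 ≤ L)
    (hFc : ∀ x, F * x = x * F) (hFF : F * F = F) (hFJ : F * J = J)
    (hσF : domCongr k k (conjK hn₀) F = F)
    (hgen : ∃ (r : ℕ) (a b : Fin r → MonoidAlgebra k H), ∑ i, a i * J * b i = F)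
    {e : ℕ} (hne : n₀ ^ e ∈ H) (he : (e : k) ≠ 0) :
    ∃ C : CornerData k (MonoidAlgebra k G), C.A₁ = subAlg k H ∧ C.J = emb k H J ∧
      C.T = emb k H T ∧ C.F = emb k H F ∧ C.n = single n₀ 1 ∧ C.n' = single n₀⁻¹ 1 ∧
      C.L = L ∧ C.e = e := by
  classical
  set σ := domCongr k k (conjK hn₀) with hσ
  obtain ⟨n, hn⟩ : ∃ n : MonoidAlgebra k G, n = single n₀ 1 := ⟨_, rfl⟩
  obtain ⟨n', hn'⟩ : ∃ n' : MonoidAlgebra k G, n' = single n₀⁻¹ 1 := ⟨_, rfl⟩
  set ι := emb k H with hι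
  have hnn' : n * n' = 1 := by
    rw [hn, hn', single_mul_single, mul_inv_cancel, one_mul, ← one_def]
  have hn'n : n' * n = 1 := by
    rw [hn, hn', single_mul_single, inv_mul_cancel, one_mul, ← one_def]
  have hmove : ∀ x, n * ι x = ι (σ x) * n := fun x => by rw [hn]; exact single_mul_emb hn₀ x
  have hmove' : ∀ x, ι x * n = n * ι (σ.symm x) := fun x => by
    rw [hmove, σ.apply_symm_apply]
  obtain ⟨a, b, hJa, haJ, hJb, hbJ, hab, hba⟩ := hU.exists_twist σ hFJ hσF hgen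
  obtain ⟨⟨U, hTU, hU1⟩, U', hTU', hU2⟩ := hU.twist_generator σ hJa haJ hJb hbJ hab hba
  obtain ⟨Θ, hΘdef⟩ : ∃ Θ, Θ = ι a * n := ⟨_, rfl⟩
  obtain ⟨Θ', hΘ'def⟩ : ∃ Θ', Θ' = n' * ι b := ⟨_, rfl⟩
  have hΘJ : Θ * ι J = Θ := by rw [hΘdef, mul_assoc, hmove, ← mul_assoc, ← map_mul, haJ]
  have hJΘ : ι J * Θ = Θ := by rw [hΘdef, ← mul_assoc, ← map_mul, hJa]
  have hJΘ' : ι J * Θ' = Θ' := by
    have h1 : ι J * n' = n' * ι (σ J) := by
      calc ι J * n' = n' * n * (ι J * n') := by rw [hn'n, one_mul]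
        _ = n' * (n * ι J) * n' := by simp only [mul_assoc]
        _ = n' * ι (σ J) := by rw [hmove, mul_assoc, mul_assoc, hnn', mul_one]
    rw [hΘ'def, ← mul_assoc, h1, mul_assoc, ← map_mul, hJb]
  have hΘ'J : Θ' * ι J = Θ' := by rw [hΘ'def, mul_assoc, ← map_mul, hbJ]
  have hΘΘ' : Θ * Θ' = ι J := by
    rw [hΘdef, hΘ'def, mul_assoc, ← mul_assoc n, hnn', one_mul, ← map_mul, hab]
  have hΘ'Θ : Θ' * Θ = ι J := by
    rw [hΘdef, hΘ'def, mul_assoc, ← mul_assoc (ι b), ← map_mul, hba, ← hmove, ← mul_assoc, hn'n,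
      one_mul]
  -- the generator passes
  have hΘT : Θ * ι T * Θ' = ι T * ι U := by
    calc Θ * ι T * Θ' = ι a * (n * ι T) * n' * ι b := by
          rw [hΘdef, hΘ'def]; simp only [mul_assoc]
      _ = ι a * ι (σ T) * (n * n') * ι b := by rw [hmove]; simp only [mul_assoc]
      _ = ι T * ι U := by rw [hnn', mul_one, ← map_mul, ← map_mul, hU1, map_mul]
  have hΘ'T : Θ' * ι T * Θ = ι T * ι U' := by
    calc Θ' * ι T * Θ = n' * (ι b * ι T * ι a * n) := by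
          rw [hΘdef, hΘ'def]; simp only [mul_assoc]
      _ = n' * (n * ι (σ.symm (b * T * a))) := by rw [← map_mul, ← map_mul, hmove']
      _ = ι T * ι U' := by rw [← mul_assoc, hn'n, one_mul, hU2, map_mul]
  have hJT : ι J * ι T = ι T := by rw [← map_mul, hU.JT]
  have hTJ : ι T * ι J = ι T := by rw [← map_mul, hU.TJ]
  have hUT : ι U * ι T = ι T * ι U := by rw [← map_mul, ← map_mul, hTU.eq]
  have hU'T : ι U' * ι T = ι T * ι U' := by rw [← map_mul, ← map_mul, hTU'.eq]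
  have hleft : Θ * ι T = ι T * (ι U * Θ) := by
    rw [← mul_assoc, ← hΘT, mul_assoc, hΘ'Θ, mul_assoc Θ, hTJ]
  have hTΘ : ∃ X, ι T * Θ = X * ι T := ⟨Θ * ι U', by
    rw [mul_assoc, hU'T, ← hΘ'T, ← mul_assoc, ← mul_assoc, hΘΘ', hJT]⟩
  have hTΘ' : ∃ X, ι T * Θ' = X * ι T := ⟨Θ' * ι U, by
    rw [mul_assoc, hUT, ← hΘT, ← mul_assoc, ← mul_assoc, hΘ'Θ, hJT]⟩
  have hΘTi : ∀ i : ℕ, Θ * ι T ^ i = ι T ^ i * (ι U ^ i * Θ) := by
    intro i
    induction i with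
    | zero => simp
    | succ i ih =>
      rw [pow_succ (ι T), ← mul_assoc, ih, mul_assoc, mul_assoc (ι U ^ i), hleft,
        ← mul_assoc (ι U ^ i) (ι T), (Commute.pow_left (hUT : Commute (ι U) (ι T)) i).eq,
        pow_succ (ι U)]
      simp only [mul_assoc]
  -- the power
  have hn_pow : ∀ i : ℕ, n ^ i = single (n₀ ^ i) 1 := fun i => by rw [hn, single_pow, one_pow]
  have hΘpow : ∀ i : ℕ, ∃ x, Θ ^ i = ι x * n ^ i := by
    intro i
    induction i with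
    | zero => exact ⟨1, by simp⟩
    | succ i ih =>
      obtain ⟨x, hx⟩ := ih
      have hni : n₀ ^ i ∈ Subgroup.normalizer (H : Set G) := Subgroup.pow_mem _ hn₀ i
      refine ⟨x * domCongr k k (conjK hni) a, ?_⟩
      rw [pow_succ, hx, hΘdef, mul_assoc, ← mul_assoc (n ^ i), hn_pow i, single_mul_emb hni,
        ← hn_pow i, mul_assoc _ (n ^ i) n, ← pow_succ, ← mul_assoc, ← map_mul]
  have he0 : 0 < e := Nat.pos_of_ne_zero fun h => he (by rw [h, Nat.cast_zero])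
  obtain ⟨d, hd⟩ : ∃ d, e = d + 1 := ⟨e - 1, by omega⟩
  obtain ⟨y, hy⟩ : ∃ y, Θ ^ e = ι y := by
    obtain ⟨x, hx⟩ := hΘpow e
    refine ⟨x * single ⟨n₀ ^ e, hne⟩ 1, ?_⟩
    rw [hx, hn_pow, map_mul, emb_single]
  have hyJ : J * y * J = y := by
    refine emb_injective H ?_
    show ι (J * y * J) = ι y
    rw [map_mul, map_mul, ← hy, hd]
    conv_lhs => rw [pow_succ', ← mul_assoc, hJΘ, ← pow_succ', pow_succ, mul_assoc, hΘJ]
    rw [← pow_succ]
  obtain ⟨γ, Q, hγQ, hcomm⟩ := hU.decomp hyJ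
  have hγ : γ ≠ 0 := by
    intro h0
    rw [h0, zero_smul, zero_add] at hγQ
    have hpow : ∀ i : ℕ, Θ ^ (i + 1) * Θ' ^ (i + 1) = ι J := by
      intro i
      induction i with
      | zero => rw [zero_add, pow_one, pow_one, hΘΘ']
      | succ i ih =>
        calc Θ ^ (i + 1 + 1) * Θ' ^ (i + 1 + 1) = Θ ^ (i + 1) * (Θ * Θ') * Θ' ^ (i + 1) := by
              rw [pow_succ Θ, pow_succ' Θ']; simp only [mul_assoc]
          _ = ι J := by rw [hΘΘ', mul_assoc, pow_succ' Θ' i, ← mul_assoc (ι J), hJΘ', ← pow_succ', ih]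
    have h1 := hpow d
    rw [← hd, hy, hγQ] at h1
    refine hU.T_top (emb_injective H ?_)
    show ι (J * T ^ (L - 1)) = ι 0
    have hc : J * T ^ (L - 1) = T ^ (L - 1) * J := (hU.commute.pow_right (L - 1)).eq
    rw [map_zero, hc, map_mul, ← h1, ← mul_assoc, ← map_mul, ← mul_assoc, ← pow_succ,
      Nat.sub_add_cancel hU.L_pos, hU.TL, zero_mul, map_zero, zero_mul]
  have hΘe : ∃ X, Θ ^ e = γ • ι J + X * ι T := ⟨ι (J * Polynomial.aeval T Q), by
    rw [hy, hγQ, map_add, map_smul, ← map_mul, hcomm.eq]⟩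
  refine ⟨⟨subAlg k H, ι J, ι T, ι F, n, n', Θ, Θ', L, e, γ, emb_mem H J, emb_mem H T, emb_mem H F,
    by rw [← map_mul, hU.JJ], hJT, hTJ, hL, by rw [← map_pow, hU.TL, map_zero], ?_, ?_,
    by rw [← map_mul, hFF], by rw [← map_mul, hFJ], ?_, hnn', hn'n, ?_, ?_,
    ⟨ι a, emb_mem H a, hΘdef⟩, hΘJ, hJΘ, hJΘ', hΘ'J, hΘΘ', hΘ'Θ, hTΘ, hTΘ', ⟨_, hΘTi _⟩, hΘe, hγ,
    he⟩, rfl, rfl, rfl, rfl, hn, hn', rfl, rfl⟩
  · rintro _ ⟨x, rfl⟩
    obtain ⟨P, hP⟩ := hU.corner x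
    refine ⟨P, ?_⟩
    show ι J * ι x * ι J = ι J * Polynomial.aeval (ι T) P
    rw [← map_mul, ← map_mul, hP, map_mul, Polynomial.aeval_algHom_apply]
  · rintro _ ⟨x, rfl⟩
    show ι F * ι x = ι x * ι F
    rw [← map_mul, hFc, map_mul]
  · obtain ⟨r, c, c', hcd⟩ := hgen
    refine ⟨r, fun i => ι (c i), fun i => ι (c' i), fun i => emb_mem H _, fun i => emb_mem H _, ?_⟩
    rw [← hcd, map_sum]
    simp only [map_mul]
  · rintro _ ⟨x, rfl⟩
    show n * ι x * n' ∈ _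
    rw [hmove, mul_assoc, hnn', mul_one]
    exact emb_mem H _
  · rintro _ ⟨x, rfl⟩
    show n' * ι x * n ∈ _
    rw [mul_assoc, hmove', ← mul_assoc, hn'n, one_mul]
    exact emb_mem H _

end Cfsg.Agent.BlockCharsA.CyclicDefect
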