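import Mathlib
import Cfsg.Agent.BlockCharsA.CyclicDefect.Data

/-!
# Eigenvectors that survive
-/

set_option linter.style.haveILetI false
set_option linter.unusedSectionVars false

namespace Cfsg.Agent.BlockCharsA.CyclicDefect

open MonoidAlgebra Cfsg.Agent.BlockCharsA.BrauerPairs

universe u w

section Start

variable {k : Type w} [Field k] {A : Type u} [Ring A] [Algebra k A] {J T : A} {L : ℕ}

/-- A fixed element killed by the generator. -/
theorem Uniserial.exists_start (h : Uniserial k J T L) {Z : A} (hZ : ∀ x, Z * x = x * Z)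
    (hnil : IsNilpotent (Z - 1)) :
    ∃ s, J * s = s ∧ T * s = 0 ∧ Z * s = s ∧ s ≠ 0 := by
  classical
  have hex : ∃ i, (Z - 1) ^ i * J = 0 := by
    obtain ⟨m, hm⟩ := hnil
    exact ⟨m, by rw [hm, zero_mul]⟩
  set i := Nat.find hex
  have hi : (Z - 1) ^ i * J = 0 := Nat.find_spec hex
  have hi0 : 0 < i := Nat.pos_of_ne_zero fun h0 => h.J_ne (by rwa [h0, pow_zero, one_mul] at hi)
  set x := (Z - 1) ^ (i - 1) * J with hx
  have hx0 : x ≠ 0 := Nat.find_min hex (show i - 1 < i by omega)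
  have hZx : Z * x = x := by
    rw [← sub_eq_zero]
    nth_rw 2 [← one_mul x]
    rw [← sub_mul, hx, ← mul_assoc, ← pow_succ', Nat.sub_add_cancel hi0, hi]
  have hc : ∀ y, Commute (Z - 1) y := fun y => Commute.sub_left (hZ y) (Commute.one_left y)
  have hJx : J * x = x := by
    rw [hx, ← mul_assoc, ← ((hc J).pow_left (i - 1)).eq, mul_assoc, h.JJ]
  have hexj : ∃ j, T ^ j * x = 0 := ⟨L, by rw [h.TL, zero_mul]⟩
  set j := Nat.find hexj
  have hj : T ^ j * x = 0 := Nat.find_spec hexj
  have hj0 : 0 < j := Nat.pos_of_ne_zero fun h0 => hx0 (by rwa [h0, pow_zero, one_mul] at hj)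
  refine ⟨T ^ (j - 1) * x, ?_, ?_, ?_, Nat.find_min hexj (show j - 1 < j by omega)⟩
  · rw [← mul_assoc, (h.commute.pow_right (j - 1)).eq, mul_assoc, hJx]
  · rw [← mul_assoc, ← pow_succ', Nat.sub_add_cancel hj0, hj]
  · rw [← mul_assoc, hZ, mul_assoc, hZx]

end Start

variable {G : Type u} [Group G] [Finite G] {k : Type w} [Field k] {p : ℕ}

set_option maxHeartbeats 1000000 in
/-- A fixed element killed by the generator gives, for each root, an eigenvector of the block
that is no multiple of the top power among the fixed elements. -/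
theorem exists_good [Fact p.Prime] [CharP k p] {H N : Subgroup G} {K : Subgroup G} (C : CornerData k (MonoidAlgebra k G))
    {n₀ : G} (hA : C.A₁ = subAlg k H) (hn : C.n = single n₀ 1) (hn₀ : n₀ ∈ N) (hHN : H ≤ N)
    (hn₀H : n₀ ∈ Subgroup.normalizer (H : Set G))
    (hinj : ∀ i < C.e, ∀ j < C.e, (n₀ ^ i)⁻¹ * n₀ ^ j ∈ H → i = j)
    (hK : Nat.card K = p) (hH : H = Subgroup.centralizer (K : Set G))
    (hNK : N ≤ Subgroup.normalizer (K : Set G)) {z : G} (hzK : z ∈ K)
    (hKz : ∀ d ∈ K, ∃ i : ℕ, d = z ^ i) (hzH : z ∈ H)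
    {JH TH FH EH s : MonoidAlgebra k H} (hJ : C.J = emb k H JH) (hT : C.T = emb k H TH)
    (hF : C.F = emb k H FH) (hkillz : ∀ x, single (⟨z, hzH⟩ : H) 1 * x = x →
      TH ^ (C.L - 1) * x = 0)
    (hEF : EH * FH = FH) {eB : MonoidAlgebra k G} (heBc : ∀ x, eB * x = x * eB)
    (heB2 : eB * eB = eB) (hE : ∀ h : H, EH.coeff h = eB.coeff (h : G))
    (hsJ : JH * s = s) (hsT : TH * s = 0) (hsz : single (⟨z, hzH⟩ : H) 1 * s = s)
    (hsz' : s * single (⟨z, hzH⟩ : H) 1 = s) (hs : s ≠ 0) {κ : k} (hκ : κ ^ C.e = C.γ) :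
    ∃ v : MonoidAlgebra k G, v * single z 1 = v ∧ eB * v = v ∧ C.J * v = v ∧ C.T * v = 0 ∧
      C.Θ * v = κ • v ∧ ∀ y, y * single z 1 = y → C.T ^ (C.L - 1) * y ≠ v := by
  classical
  haveI := Fintype.ofFinite K
  set w := C.proj κ * emb k H s with hw
  obtain ⟨h1, h2, h3⟩ := C.proj_eigen (V := MonoidAlgebra k G) hκ (v := emb k H s)
    (by rw [smul_eq_mul, hJ, ← map_mul, hsJ]) (by rw [smul_eq_mul, hT, ← map_mul, hsT, map_zero])
  simp only [smul_eq_mul] at h1 h2 h3
  rw [← hw] at h1 h2 h3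
  have hterm : ∀ i, ∃ y, C.Θ ^ i * emb k H s = emb k H y * single (n₀ ^ i) 1 ∧
      (i = 0 → y = s) := by
    intro i
    rcases Nat.eq_zero_or_pos i with rfl | hi
    · exact ⟨s, by simp [← one_def], fun _ => rfl⟩
    obtain ⟨β, hβ, hβe, -⟩ := C.exists_beta i
    rw [hA] at hβ
    obtain ⟨β, rfl⟩ := hβ
    have hni : n₀ ^ i ∈ Subgroup.normalizer (H : Set G) := Subgroup.pow_mem _ hn₀H i
    refine ⟨β * domCongr k k (conjK hni) s, ?_, fun h => absurd h hi.ne'⟩
    rw [hβe, hn, single_pow, one_pow, mul_assoc, single_mul_emb hni, ← mul_assoc, map_mul]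
    rfl
  choose y hy hy0 using hterm
  have hwsum : w = (C.e : k)⁻¹ •
      ∑ i ∈ Finset.range C.e, κ⁻¹ ^ i • (emb k H (y i) * single (n₀ ^ i) 1) := by
    rw [hw, CornerData.proj, smul_mul_assoc, Finset.sum_mul]
    simp only [smul_mul_assoc, hy]
  have hsupp : ∀ g ∉ N, w.coeff g = 0 := by
    intro g hg
    rw [hwsum, coeff_smul_apply, coeff_sum, Finsupp.finsetSum_apply, Finset.sum_eq_zero, smul_zero]
    intro i _
    rw [coeff_smul_apply, coeff_mul_single_apply, coeff_emb_notMem, zero_mul, smul_zero]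
    exact fun h => hg (by simpa using N.mul_mem (hHN h) (N.pow_mem hn₀ i))
  obtain ⟨h₀, hh₀⟩ : ∃ h : H, s.coeff h ≠ 0 := by
    by_contra hall
    push Not at hall
    exact hs (by ext h; simp [hall h])
  have hw0 : w ≠ 0 := fun h0 => by
    have hc : w.coeff (h₀ : G) = (C.e : k)⁻¹ * s.coeff h₀ := by
      rw [hwsum, coeff_smul_apply, coeff_sum, Finsupp.finsetSum_apply,
        Finset.sum_eq_single_of_mem 0 (Finset.mem_range.2 C.e_pos)]
      · rw [hy0 0 rfl, pow_zero, pow_zero, ← one_def, mul_one, one_smul, coeff_emb, smul_eq_mul]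
      · intro i hi hi0
        rw [coeff_smul_apply, coeff_mul_single_apply, coeff_emb_notMem, zero_mul, smul_zero]
        intro h
        refine hi0 (hinj i (Finset.mem_range.1 hi) 0 C.e_pos ?_)
        rw [pow_zero, mul_one]
        simpa using H.mul_mem (H.inv_mem h₀.2) h
    rw [h0, coeff_zero, Finsupp.zero_apply, eq_comm, mul_eq_zero] at hc
    exact hc.elim (inv_ne_zero C.e_ne) hh₀
  have hwz : w * single z 1 = w := by
    rw [hw, mul_assoc, show (single z 1 : MonoidAlgebra k G) = emb k H (single ⟨z, hzH⟩ 1) from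
      (emb_single H ⟨z, hzH⟩ 1).symm, ← map_mul, hsz']
  have hnorm : ∀ g ∈ N, ∃ i : ℕ, g⁻¹ * z * g = z ^ i := fun g hg => by
    have := (Subgroup.mem_normalizer_iff.1 (inv_mem (hNK hg)) z).1 hzK
    rw [inv_inv] at this
    exact hKz _ this
  have hzN : z ∈ N := hHN hzH
  have hfix : ∀ x : MonoidAlgebra k G, single z 1 * x = x →
      ∀ d ∈ K, single d 1 * x = x := by
    intro x hx d hd
    obtain ⟨i, rfl⟩ := hKz d hd
    induction i with
    | zero => rw [pow_zero, ← one_def, one_mul]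
    | succ i ih =>
      rw [pow_succ, show (single (z ^ i * z) 1 : MonoidAlgebra k G) =
        single (z ^ i) 1 * single z 1 by rw [single_mul_single, one_mul], mul_assoc, hx]
      exact ih (K.pow_mem hzK i)
  have hwleft := hfix w (left_fixed_of_right hzN hnorm hwz hsupp)
  -- cutting the block to `N`
  set Y := cut (N : Set G) eB - emb k H EH with hY
  have hYin : ∀ g ∈ H, Y.coeff g = 0 := fun g hg => by
    rw [hY, coeff_sub, Finsupp.sub_apply, coeff_cut_mem (show g ∈ (N : Set G) from hHN hg),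
      coeff_emb H EH ⟨g, hg⟩, hE, sub_self]
  have hYout : ∀ g ∉ H, Y.coeff g = (cut (N : Set G) eB).coeff g := fun g hg => by
    rw [hY, coeff_sub, Finsupp.sub_apply, coeff_emb_notMem H EH hg, sub_zero]
  have hYK : Y * ∑ d : K, single (d : G) 1 = 0 := by
    refine mul_sum_eq_zero hK (fun d hd g => ?_) (fun g hg => ?_) (fun g hg => ?_)
    · have hdH : d ∈ H := by
        obtain ⟨i, rfl⟩ := hKz d hd
        exact H.pow_mem hzH i
      by_cases hgH : g ∈ H
      · rw [hYin g hgH, hYin _ (H.mul_mem (H.mul_mem hdH hgH) (H.inv_mem hdH))]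
      · have hdg : d * g * d⁻¹ ∉ H := fun h => hgH (by
          simpa [mul_assoc] using H.mul_mem (H.mul_mem (H.inv_mem hdH) h) hdH)
        rw [hYout g hgH, hYout _ hdg]
        by_cases hgN : g ∈ (N : Set G)
        · rw [coeff_cut_mem hgN, coeff_cut_mem
            (show d * g * d⁻¹ ∈ (N : Set G) from
              N.mul_mem (N.mul_mem (hHN hdH) hgN) (N.inv_mem (hHN hdH)))]
          have h := congrArg (fun x => x.coeff (d * g)) (heBc (single d 1))
          simpa using h
        · rw [coeff_cut_notMem hgN, coeff_cut_notMem]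
          exact fun h => hgN (by
            simpa [mul_assoc] using
              N.mul_mem (N.mul_mem (N.inv_mem (hHN hdH)) h) (hHN hdH))
    · have hgH : g ∉ H := fun h => hg (hYin g h)
      rw [hYout g hgH] at hg
      exact hNK (by_contra fun h => hg (coeff_cut_notMem h))
    · exact hH ▸ fun h => hg (hYin g h)
  have hFw : C.F * w = w := by
    conv_rhs => rw [← h1]
    conv_lhs => rw [← h1, ← mul_assoc, C.FJ]
  have hcutw : cut (N : Set G) (eB * w) = w := by
    rw [cut_mul_right eB hsupp, show cut (N : Set G) eB = emb k H EH + Y by rw [hY, add_sub_cancel],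
      add_mul, kill_fixed hYK hwleft, add_zero]
    calc emb k H EH * w = emb k H EH * (C.F * w) := by rw [hFw]
      _ = w := by rw [hF, ← mul_assoc, ← map_mul, hEF, ← hF, hFw]
  -- the vector
  refine ⟨eB * w, by rw [mul_assoc, hwz], by rw [← mul_assoc, heB2],
    by rw [← mul_assoc, ← heBc, mul_assoc, h1], by rw [← mul_assoc, ← heBc, mul_assoc, h2, mul_zero],
    by rw [← mul_assoc, ← heBc, mul_assoc, h3, mul_smul_comm], fun x hx hxe => hw0 ?_⟩
  have hTK : emb k H (TH ^ (C.L - 1)) * ∑ d : K, single (d : G) 1 = 0 := by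
    have hKH : ∀ d : K, (d : G) ∈ H := fun d => by
      obtain ⟨i, hi⟩ := hKz d d.2
      exact hi ▸ H.pow_mem hzH i
    rw [show ∑ d : K, single (d : G) 1 = emb k H (∑ d : K, single (⟨d, hKH d⟩ : H) 1) by
      rw [map_sum]; simp only [emb_single], ← map_mul, hkillz, map_zero]
    rw [Finset.mul_sum]
    refine Fintype.sum_equiv (Equiv.mulLeft (⟨z, hzK⟩ : K)) _ _ fun d => ?_
    rw [single_mul_single, one_mul]
    rfl
  have hcl : single z 1 * cut (N : Set G) x = cut (N : Set G) x := by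
    refine left_fixed_of_right hzN hnorm ?_ fun g hg => coeff_cut_notMem hg
    ext g
    rw [coeff_mul_single_apply, mul_one]
    have hxg := congrArg (fun a => a.coeff g) hx
    simp only [coeff_mul_single_apply, mul_one] at hxg
    by_cases hgN : g ∈ (N : Set G)
    · rw [coeff_cut_mem hgN, coeff_cut_mem (show g * z⁻¹ ∈ (N : Set G) from
        N.mul_mem hgN (N.inv_mem hzN)), hxg]
    · rw [coeff_cut_notMem hgN, coeff_cut_notMem]
      exact fun h => hgN (by simpa using N.mul_mem h hzN)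
  rw [← hcutw, ← hxe, hT, ← map_pow, cut_mul_left hHN, kill_fixed hTK (hfix _ hcl)]

end Cfsg.Agent.BlockCharsA.CyclicDefect
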