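import Mathlib
import Cfsg.Agent.Lib.Blocks.CyclicSubpairs

/-!
# The inertial quotient of a cyclic maximal pair
-/

set_option linter.style.haveILetI false
set_option linter.unusedSectionVars false

namespace Cfsg.Agent.BlockCharsA.CyclicDefect

open Cfsg.Agent.Blocks Cfsg.Agent.BlockCharsA.BrauerPairs Cfsg.Agent.BlockCharsA.PairLocal
open Cfsg.Agent.BlockCharsA.PairFusion

universe u

variable {G : Type u} [Group G] [Finite G] {p : ℕ}

/-- A cyclic `p`-group has one subgroup of order `p`. -/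
theorem exists_order_p [hp : Fact p.Prime] {P : Subgroup G} (hP : IsPGroup p P) (hcyc : IsCyclic P)
    (hP1 : P ≠ ⊥) :
    ∃ z ∈ P, orderOf z = p ∧ ∀ x ∈ P, x ^ p = 1 → x ∈ Subgroup.zpowers z := by
  obtain ⟨⟨g, hg⟩, hgen⟩ := hcyc.exists_generator
  obtain ⟨m, hm⟩ := IsPGroup.iff_orderOf.1 hP ⟨g, hg⟩
  rw [Subgroup.orderOf_mk] at hm
  have hpow : ∀ x ∈ P, ∃ j : ℕ, g ^ j = x := fun x hx => by
    obtain ⟨j, hj⟩ := mem_powers_iff_mem_zpowers.2 (hgen ⟨x, hx⟩)
    exact ⟨j, congrArg Subtype.val hj⟩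
  obtain ⟨m, rfl⟩ : ∃ m', m = m' + 1 := ⟨m - 1, by
    rcases Nat.eq_zero_or_pos m with rfl | h
    · rw [pow_zero, orderOf_eq_one_iff] at hm
      refine absurd ((Subgroup.eq_bot_iff_forall _).2 fun x hx => ?_) hP1
      obtain ⟨j, rfl⟩ := hpow x hx
      rw [hm, one_pow]
    · omega⟩
  have hz : orderOf (g ^ p ^ m) = p := by
    rw [orderOf_pow' _ (pow_ne_zero _ hp.out.ne_zero), hm,
      Nat.gcd_eq_right (pow_dvd_pow p m.le_succ), pow_succ, Nat.mul_div_cancel_left _ (pow_pos hp.out.pos m)]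
  refine ⟨g ^ p ^ m, P.pow_mem hg _, hz, fun x hx hxp => ?_⟩
  obtain ⟨j, rfl⟩ := hpow x hx
  rw [← pow_mul] at hxp
  have h1 := orderOf_dvd_of_pow_eq_one hxp
  rw [hm, pow_succ] at h1
  obtain ⟨i, rfl⟩ := Nat.dvd_of_mul_dvd_mul_right hp.out.pos h1
  rw [pow_mul]
  exact Subgroup.npow_mem_zpowers _ _

/-- A cyclic subgroup meets its conjugates trivially outside the normalizer of its subgroup of
order `p`. -/
theorem inter_conj_trivial [hp : Fact p.Prime] {P : Subgroup G} (hP : IsPGroup p P) {z : G}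
    (hzp : orderOf z = p) (huniq : ∀ x ∈ P, x ^ p = 1 → x ∈ Subgroup.zpowers z) {g : G}
    (hg : g ∉ Subgroup.normalizer ((Subgroup.zpowers z : Subgroup G) : Set G)) {d : G} (hd : d ∈ P)
    (hgd : g⁻¹ * d * g ∈ P) : d = 1 := by
  by_contra hne
  refine hg ?_
  obtain ⟨m, hm⟩ := IsPGroup.iff_orderOf.1 hP ⟨d, hd⟩
  rw [Subgroup.orderOf_mk] at hm
  obtain ⟨m, rfl⟩ : ∃ m', m = m' + 1 := ⟨m - 1, by
    rcases Nat.eq_zero_or_pos m with rfl | h
    · rw [pow_zero, orderOf_eq_one_iff] at hm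
      exact absurd hm hne
    · omega⟩
  set y := d ^ p ^ m
  have hyp : y ^ p = 1 := by rw [← pow_mul, ← pow_succ, ← hm, pow_orderOf_eq_one]
  have hy1 : y ≠ 1 := fun h => by
    have h2 := orderOf_dvd_of_pow_eq_one h
    rw [hm, Nat.pow_dvd_pow_iff_le_right hp.out.one_lt] at h2
    omega
  have hy := huniq y (P.pow_mem hd _) hyp
  have hyg : g⁻¹ * y * g ∈ Subgroup.zpowers z := by
    refine huniq _ ?_ ?_
    · have := P.pow_mem hgd (p ^ m)
      rwa [show (g⁻¹ * d * g) ^ p ^ m = g⁻¹ * y * g by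
        have h := conj_pow (a := g⁻¹) (b := d) (i := p ^ m)
        rwa [inv_inv] at h] at this
    · have h := conj_pow (a := g⁻¹) (b := y) (i := p)
      rw [inv_inv] at h
      rw [h, hyp, mul_one, inv_mul_cancel]
  have hcard : Nat.card (Subgroup.zpowers z) = p := by rw [Nat.card_zpowers, hzp]
  have hgen : ∀ x ∈ Subgroup.zpowers z, x ∈ Subgroup.zpowers y := fun x hx => by
    obtain ⟨i, hi⟩ := mem_zpowers_of_prime_card hcard (g := ⟨y, hy⟩) (g' := ⟨x, hx⟩)
      (fun h => hy1 (congrArg Subtype.val h))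
    exact ⟨i, congrArg Subtype.val hi⟩
  rw [← inv_mem_iff (x := g)]
  refine HarrisKnorr.mem_normalizer_of_conj_mem fun q hq => ?_
  obtain ⟨i, rfl⟩ := hgen q hq
  rw [inv_inv]
  show g⁻¹ * y ^ i * g ∈ _
  have h := conj_zpow (a := g⁻¹) (b := y) (i := i)
  rw [inv_inv] at h
  rw [← h]
  exact zpow_mem hyg i

/-- A group acting on a group of prime order is generated modulo the kernel by one element. -/
theorem exists_generator_mod [hp : Fact p.Prime] {K N H : Subgroup G} (hK : Nat.card K = p)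
    (hN : N ≤ Subgroup.normalizer (K : Set G)) (hH : H = Subgroup.centralizer (K : Set G)) :
    ∃ n₀ ∈ N, (∀ g ∈ N, ∃ i < H.relIndex N, (n₀ ^ i)⁻¹ * g ∈ H) ∧
      (∀ i < H.relIndex N, ∀ j < H.relIndex N, (n₀ ^ i)⁻¹ * n₀ ^ j ∈ H → i = j) ∧
      n₀ ^ H.relIndex N ∈ H ∧ H.relIndex N ∣ p - 1 := by
  classical
  haveI : IsCyclic K := isCyclic_of_prime_card hK
  set φ : N →* MulAut K :=
    { toFun := fun t => conjK (hN t.2)
      map_one' := MulEquiv.ext fun x => Subtype.ext (by simp [coe_conjK])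
      map_mul' := fun a b => MulEquiv.ext fun x => Subtype.ext (by simp [coe_conjK, mul_assoc]) }
    with hφ
  have hker : φ.ker = H.subgroupOf N := by
    ext t
    rw [MonoidHom.mem_ker, Subgroup.mem_subgroupOf, hH]
    constructor
    · intro h x hx
      have h1 := congrArg Subtype.val (MulEquiv.congr_fun h ⟨x, hx⟩)
      change (t : G) * x * (t : G)⁻¹ = x at h1
      exact (mul_inv_eq_iff_eq_mul.1 h1).symm
    · intro h
      exact MulEquiv.ext fun x => Subtype.ext (by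
        show (t : G) * x * (t : G)⁻¹ = x
        rw [← h x x.2, mul_inv_cancel_right])
  have hKz : Nat.card K = p := hK
  haveI : IsCyclic (ZMod (Nat.card K))ˣ := by
    rw [hKz]
    infer_instance
  haveI : IsCyclic (MulAut K) :=
    isCyclic_of_surjective (IsCyclic.mulAutMulEquiv K).symm.toMonoidHom
      (IsCyclic.mulAutMulEquiv K).symm.surjective
  haveI : IsCyclic φ.range := inferInstance
  have hcard : Nat.card φ.range = H.relIndex N := by
    rw [Subgroup.relIndex, ← hker, Subgroup.index_ker]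
  obtain ⟨⟨c, hc⟩, hgen⟩ := IsCyclic.exists_generator (α := φ.range)
  obtain ⟨t₀, ht₀⟩ := id hc
  have hord : orderOf c = H.relIndex N := by
    rw [← hcard, ← orderOf_eq_card_of_forall_mem_zpowers hgen, ← Subgroup.orderOf_coe]
  have hmem : ∀ t : N, φ t = 1 ↔ (t : G) ∈ H := fun t => by
    rw [← MonoidHom.mem_ker, hker, Subgroup.mem_subgroupOf]
  refine ⟨t₀, t₀.2, fun g hg => ?_, fun i hi j hj h => ?_, ?_, ?_⟩
  · have hm : (⟨φ ⟨g, hg⟩, ⟨_, rfl⟩⟩ : φ.range) ∈ Submonoid.powers ⟨c, hc⟩ :=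
      mem_powers_iff_mem_zpowers.2 (hgen _)
    obtain ⟨i, hi⟩ := hm
    have hi' : c ^ i = φ ⟨g, hg⟩ := congrArg Subtype.val hi
    refine ⟨i % H.relIndex N, Nat.mod_lt _ (hord ▸ orderOf_pos c), ?_⟩
    refine (hmem (⟨_, N.mul_mem (N.inv_mem (N.pow_mem t₀.2 _)) hg⟩ : N)).1 ?_
    rw [show (⟨_, N.mul_mem (N.inv_mem (N.pow_mem t₀.2 _)) hg⟩ : N) =
      (t₀ ^ (i % H.relIndex N))⁻¹ * ⟨g, hg⟩ from rfl, map_mul, map_inv, map_pow, ht₀, ← hord,
      pow_mod_orderOf, hi', inv_mul_cancel]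
  · have h1 := (hmem ((t₀ ^ i)⁻¹ * t₀ ^ j)).2 h
    rw [map_mul, map_inv, map_pow, map_pow, ht₀, inv_mul_eq_one] at h1
    exact pow_injOn_Iio_orderOf (hord.symm ▸ hi : i < orderOf c) (hord.symm ▸ hj : j < orderOf c) h1
  · refine (hmem (t₀ ^ H.relIndex N)).1 ?_
    rw [map_pow, ht₀, ← hord, pow_orderOf_eq_one]
  · rw [← hcard]
    refine dvd_trans (Subgroup.card_subgroup_dvd_card φ.range) ?_
    rw [IsCyclic.card_mulAut, hKz, Nat.totient_prime hp.out]

end Cfsg.Agent.BlockCharsA.CyclicDefect
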