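import Mathlib
import Cfsg.Agent.BlockCharsA.CyclicDefect.Emb
import Cfsg.Agent.BlockCharsA.TwoChars.Lift
import Cfsg.Agent.BlockCharsA.PairLocal

/-!
# The reduced idempotent of a local block
-/

set_option linter.style.haveILetI false
set_option linter.unusedSectionVars false

namespace Cfsg.Agent.BlockCharsA.CyclicDefect

open MonoidAlgebra Cfsg.Agent.Blocks Cfsg.Agent.Characters Cfsg.Agent.Blocks.Star
open Cfsg.Agent.Blocks.Lattice Cfsg.Agent.BlockCharsA.TwoChars
open Cfsg.Agent.BlockCharsA.BrauerPairs

universe u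

variable {G : Type u} [Group G] [Finite G] {p : ℕ} {M : Ideal Cfsg.AlgInt}

theorem inc_injective (hM : Cfsg.IsPModular p M) : Function.Injective (inc (G := G) hM) :=
  push_injective Subtype.val_injective

theorem red_domCongr (hM : Cfsg.IsPModular p M) (σ : G ≃* G) (x : IntAlg hM G) :
    red hM (domCongr (Loc hM) (Loc hM) σ x) = domCongr (Res hM) (Res hM) σ (red hM x) := by
  ext g
  rw [coeff_red, coeff_domCongr, coeff_domCongr, coeff_red]

theorem inc_domCongr_blockIdem (hM : Cfsg.IsPModular p M) (σ : G ≃* G)
    {f : Set (Cfsg.IrrCharacter G)} {fI : IntAlg hM G} (hfI : inc hM fI = blockIdem f) :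
    inc hM (domCongr (Loc hM) (Loc hM) σ fI) = blockIdem (moveSet σ f) := by
  refine el_ext fun g => ?_
  rw [coeff_push, coeff_domCongr, coeff_blockIdem, blockCoeff_moveSet, ← coeff_blockIdem, ← hfI,
    coeff_push]

section Local

variable {H : Subgroup G} {f : Set (Cfsg.IrrCharacter H)}

/-- The stabiliser fixes the reduced idempotent. -/
theorem red_conj_eq (hM : Cfsg.IsPModular p M) {fI : IntAlg hM H} (hfI : inc hM fI = blockIdem f)
    {g : G} (hg : g ∈ Subgroup.normalizer (H : Set G)) (hst : Cfsg.StabilizesBlock H f g) :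
    domCongr (Res hM) (Res hM) (conjK hg) (red hM fI) = red hM fI := by
  rw [← red_domCongr]
  refine congrArg (red hM) (inc_injective hM ?_)
  rw [inc_domCongr_blockIdem hM _ hfI, (stabilizes_iff hg f).1 hst, hfI]

/-- Other elements move it to an orthogonal one. -/
theorem red_conj_kill (hM : Cfsg.IsPModular p M) (hf : Cfsg.IsPBlock M f) {fI : IntAlg hM H}
    (hfI : inc hM fI = blockIdem f) {g : G} (hg : g ∈ Subgroup.normalizer (H : Set G))
    (hst : ¬ Cfsg.StabilizesBlock H f g) :
    red hM fI * domCongr (Res hM) (Res hM) (conjK hg) (red hM fI) = 0 := by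
  rw [← red_domCongr, ← map_mul, ← map_zero (red (G := H) hM)]
  refine congrArg (red hM) (inc_injective hM ?_)
  rw [map_mul, inc_domCongr_blockIdem hM _ hfI, hfI, map_zero,
    blockIdem_mul_ne hM hf (isPBlock_moveSet hM _ hf) fun h => hst ((stabilizes_iff hg f).2 h.symm)]

end Local

/-- The Brauer image of the block idempotent absorbs that of a pair. -/
theorem exists_red_br (hM : Cfsg.IsPModular p M) {B : Set (Cfsg.IrrCharacter G)} {Q : Subgroup G}
    {f : Set (Cfsg.IrrCharacter (Subgroup.centralizer (Q : Set G)))}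
    (hQf : Cfsg.IsBrauerPairOf p M B Q f) {eB : IntAlg hM G} (heB : inc hM eB = blockIdem B)
    {fI : IntAlg hM (Subgroup.centralizer (Q : Set G))} (hfI : inc hM fI = blockIdem f) :
    ∃ E : MonoidAlgebra (Res hM) (Subgroup.centralizer (Q : Set G)),
      (∀ h, E.coeff h = (red hM eB).coeff (h : G)) ∧ red hM fI * E = red hM fI := by
  classical
  set EI : IntAlg hM (Subgroup.centralizer (Q : Set G)) := Lattice.ofCoeff fun h => eB.coeff (h : G) with hEI
  refine ⟨red hM EI, fun h => by rw [coeff_red, coeff_red, hEI, Lattice.coeff_ofCoeff], ?_⟩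
  have hincE : inc hM EI = br Q (blockIdem B) := el_ext fun h => by
    rw [coeff_push, hEI, Lattice.coeff_ofCoeff, br, coeff_restrEl, ← heB, coeff_push]
  have hBi : IntEl M (blockIdem B) := intEl_blockIdem hM hQf.2.1
  have hbc : IsCentralEl (br Q (blockIdem B)) := central_br (invBy_blockIdem B _)
  have hbi : IntEl M (br Q (blockIdem B)) := intEl_restrEl _ hBi
  have hbb : CongEl M (br Q (blockIdem B) * br Q (blockIdem B)) (br Q (blockIdem B)) := by
    have h := br_mul hM hQf.1.1 hBi hBi (invBy_blockIdem B _) (invBy_blockIdem B _)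
    rw [blockIdem_mul_self] at h
    exact congEl_symm hM h
  have hfi : IntEl M (blockIdem f) := intEl_blockIdem hM hQf.1.2
  set e := blockIdem f
  set b := br Q (blockIdem B) with hb
  have hee : e * e = e := blockIdem_mul_self f
  have heb : b * e = e * b := (central_commute (central_blockIdem f) b).eq.symm
  set x := e - e * b with hx
  have hxc : IsCentralEl x := central_sub (central_blockIdem f) (central_mul (central_blockIdem f) hbc)
  have hxi : IntEl M x := intEl_sub hM hfi (intEl_mul hM hfi hbi)
  have hxx : CongEl M (x * x) x := by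
    have h1 : x * x - x = e * (b * b) - e * b := by
      rw [hx]
      simp only [sub_mul, mul_sub, hee, ← mul_assoc, mul_assoc e b e, heb]
      simp only [mul_assoc, ← mul_assoc e e, hee]
      abel
    unfold CongEl
    rw [h1]
    exact congEl_mul hM (congEl_refl hM e) hbb hfi hbi
  have hx0 : IdealEl M x := idealEl_of_omega hM hxc hxi hxx fun χ => by
    rw [hx, omega_sub, omega_mul χ (central_blockIdem f)]
    by_cases hχ : χ ∈ f
    · rw [omega_blockIdem_mem hχ, one_mul, ← neg_sub]
      have h := hQf.2.2 χ hχ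
      rw [brauerOmega_block] at h
      exact ideal_neg hM h
    · rw [omega_blockIdem_notMem hχ, zero_mul, sub_zero]
      exact ideal_zero hM
  have h2 : red hM (fI - fI * EI) = 0 := by
    ext h
    rw [coeff_red, MonoidAlgebra.coeff_zero, Finsupp.zero_apply, IsLocalRing.residue_eq_zero_iff,
      mem_maximal_iff]
    have h3 : inc hM (fI - fI * EI) = x := by rw [map_sub, map_mul, hfI, hincE, hx]
    have h4 := hx0 h
    rw [← h3, coeff_push] at h4
    exact h4
  rw [map_sub, map_mul, sub_eq_zero] at h2
  exact h2.symm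

end Cfsg.Agent.BlockCharsA.CyclicDefect
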