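import Mathlib
import Cfsg.Agent.BlockCharsA.CyclicNilpotent.Trace

/-!
# A block idempotent is a relative trace from its defect group
-/

set_option linter.style.haveILetI false
set_option linter.unusedSectionVars false

namespace Cfsg.Agent.BlockCharsA.CyclicDefect

open Module MonoidAlgebra Cfsg.Agent.Blocks Cfsg.Agent.Characters Cfsg.Agent.Blocks.Star
open Cfsg.Agent.Blocks.Lattice Cfsg.Agent.BlockCharsA.TwoChars
open Cfsg.Agent.BlockCharsA.RankOneSmall Cfsg.Agent.BlockCharsA.CyclicNilpotent

universe u

variable {G : Type u} [Group G] [Finite G] {p : ℕ} {M : Ideal Cfsg.AlgInt}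

set_option maxHeartbeats 1000000 in
/-- A block idempotent is traced up from its defect group. -/
theorem exists_relTrace (hM : Cfsg.IsPModular p M) {B : Set (Cfsg.IrrCharacter G)}
    (hB : Cfsg.IsPBlock M B) {D : Subgroup G} (hD : Cfsg.IsDefectGroup p M B D)
    (eB : IntAlg hM G) (heB : inc hM eB = blockIdem B) [Fintype (G ⧸ D)] :
    ∃ a : MonoidAlgebra (Res hM) G, (∀ d ∈ D, single d 1 * a = a * single d 1) ∧
      ∑ q : G ⧸ D, single q.out 1 * a * single q.out⁻¹ 1 = red hM eB := by
  classical
  haveI := fact_prime_of_pm hM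
  haveI := Fintype.ofFinite G
  haveI := Fintype.ofFinite (Cfsg.IrrCharacter G)
  haveI : IsAlgClosed (Res hM) := isAlgClosed_residue (splitsAll_loc hM)
  haveI : Module.Finite (Res hM) (MonoidAlgebra (Res hM) G) :=
    Module.Finite.of_basis (MonoidAlgebra.basis G (Res hM))
  obtain ⟨g, hg, P, hP⟩ := id hD
  have hDC : D ≤ Subgroup.centralizer ({g} : Set G) := by rw [hP]; exact Subgroup.map_subtype_le _
  have hDp : IsPGroup p D := isPGroup_defect hD
  have hm : ¬ p ∣ (P : Subgroup (Subgroup.centralizer ({g} : Set G))).index := Sylow.not_dvd_index P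
  have hcardC : Nat.card (Subgroup.centralizer ({g} : Set G)) = Nat.card D * (P : Subgroup (Subgroup.centralizer ({g} : Set G))).index := by
    rw [hP, Subgroup.card_map_of_injective (Subgroup.centralizer ({g} : Set G)).subtype_injective]
    exact (Subgroup.card_mul_index (P : Subgroup (Subgroup.centralizer ({g} : Set G)))).symm
  -- the trace of a class representative
  set S : IntAlg hM G := ∑ q : G ⧸ D, MonoidAlgebra.single (q.out * g * q.out⁻¹) 1
  have hS : inc hM S = ((P : Subgroup (Subgroup.centralizer ({g} : Set G))).index : ℂ) • classSum g := by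
    apply smul_right_injective _ (Nat.cast_ne_zero.2 Nat.card_pos.ne' : (Nat.card D : ℂ) ≠ 0)
    show (Nat.card D : ℂ) • inc hM S = (Nat.card D : ℂ) • _
    rw [smul_smul, ← Nat.cast_mul, ← hcardC, map_sum]
    simp only [push_single, map_one]
    exact sum_cosets hDC
  set Z := eB * S
  have hZ : inc hM Z = blockIdem B * inc hM S := by rw [map_mul, heB]
  have hSc : IsCentralEl (inc hM S) := by rw [hS]; exact central_smul _ (central_classSum g)
  have hZc : IsCentralEl (inc hM Z) := by
    rw [hZ]; exact central_mul (central_blockIdem B) hSc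
  have hωout : ∀ χ : Cfsg.IrrCharacter G, χ ∉ B → omega (χ : G → ℂ) (inc hM Z) = 0 :=
    fun χ hχ => by
      rw [hZ, omega_mul χ (central_blockIdem B), omega_blockIdem_notMem hχ, zero_mul]
  set s := Finset.univ.filter (fun χ : Cfsg.IrrCharacter G => χ ∈ B)
  obtain ⟨χ₀, hχ₀⟩ := block_nonempty hM hB
  set om : Cfsg.IrrCharacter G → Loc hM := fun χ => ⟨_, omega_ring hM χ hZc (inc_intEl hM Z)⟩
  set γ := IsLocalRing.residue (Loc hM) (om χ₀) with hγ
  have hγ0 : γ ≠ 0 := by
    rw [hγ, Ne, IsLocalRing.residue_eq_zero_iff, mem_maximal_iff]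
    show ¬ Cfsg.MemLocalIdeal M (omega (χ₀ : G → ℂ) (inc hM Z))
    rw [hZ, omega_mul χ₀ (central_blockIdem B), omega_blockIdem_mem hχ₀, one_mul, hS, omega_smul,
      omega_classSum (irr_isClassFunction χ₀), ideal_mul_iff hM (ring_natCast hM _)
      (centralChar_ring hM χ₀ g), ideal_natCast_iff hM]
    exact not_or.2 ⟨hm, hg.2.2 χ₀ hχ₀⟩
  have hinj : Function.Injective (inc (G := G) hM) := push_injective Subtype.val_injective
  have hee : eB * eB = eB := hinj (by rw [map_mul, heB, blockIdem_mul_self])
  have hec : ∀ x, eB * x = x * eB := fun x => hinj (by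
    rw [map_mul, map_mul, heB, (central_commute (central_blockIdem B) _).eq])
  have hZc' : ∀ x, Z * x = x * Z := fun x => hinj (by
    rw [map_mul (inc hM) Z x, map_mul (inc hM) x Z, (central_commute hZc _).eq])
  set e := red hM eB with he
  have he2 : e * e = e := by rw [he, ← map_mul, hee]
  have hec' : ∀ x, e * x = x * e := fun x => by
    obtain ⟨x, rfl⟩ := red_surjective hM x
    rw [he, ← map_mul, hec, map_mul]
  set w := red hM Z with hw
  have hwc : ∀ x, w * x = x * w := fun x => by
    obtain ⟨x, rfl⟩ := red_surjective hM x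
    rw [hw, ← map_mul, hZc', map_mul]
  have hew : e * w = w := by rw [hw, he, ← map_mul, ← mul_assoc, hee]
  -- `w` is `γ` plus a nilpotent element in the block
  have hnil : (w - γ • e) ^ s.card = 0 := by
    have key : ∀ t : Finset (Cfsg.IrrCharacter G), (∀ χ ∈ t, χ ∈ B) →
        ∃ X : IntAlg hM G, IsCentralEl (inc hM X) ∧ red hM X = e * (w - γ • e) ^ t.card ∧
          ∀ χ : Cfsg.IrrCharacter G, (χ ∈ t ∨ χ ∉ B) → omega (χ : G → ℂ) (inc hM X) = 0 := by
      intro t
      induction t using Finset.induction with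
      | empty =>
        intro _
        refine ⟨eB, by rw [heB]; exact central_blockIdem B, by simp [he], fun χ hχ => ?_⟩
        rw [heB, omega_blockIdem_notMem (hχ.resolve_left (Finset.notMem_empty χ))]
      | insert θ t hθ ih =>
        intro ht
        obtain ⟨X, hXc, hXr, hX0⟩ := ih fun χ hχ => ht χ (Finset.mem_insert_of_mem hχ)
        have hθB := ht θ (Finset.mem_insert_self _ _)
        have hc : IsCentralEl (inc hM (Z - om θ • eB)) := by
          rw [map_sub, push_smul, heB]
          exact central_sub hZc (central_smul _ (central_blockIdem B))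
        have hres : IsLocalRing.residue (Loc hM) (om θ) = γ := by
          rw [hγ, ← sub_eq_zero, ← map_sub, IsLocalRing.residue_eq_zero_iff, mem_maximal_iff]
          exact omega_cong_of_mem hM hB hθB hχ₀ hZc (inc_intEl hM Z)
        refine ⟨X * (Z - om θ • eB), by rw [map_mul]; exact central_mul hXc hc, ?_, fun χ hχ => ?_⟩
        · rw [map_mul, hXr, map_sub, red_smul, hres, ← he, ← hw, Finset.card_insert_of_notMem hθ,
            pow_succ, mul_assoc]
        · rw [map_mul, omega_mul χ hXc]
          rcases hχ with hχ | hχ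
          · rcases Finset.mem_insert.1 hχ with rfl | hχ
            · rw [map_sub, push_smul, heB, omega_sub, omega_smul, omega_blockIdem_mem hθB, mul_one]
              exact mul_eq_zero_of_right _ (sub_self _)
            · rw [hX0 χ (Or.inl hχ), zero_mul]
          · rw [hX0 χ (Or.inr hχ), zero_mul]
    obtain ⟨X, hXc, hXr, hX0⟩ := key s fun χ hχ => (Finset.mem_filter.1 hχ).2
    have hX : X = 0 := hinj (by
      rw [map_zero]
      refine central_omega_ext hXc central_zero fun χ => ?_
      rw [omega_zero]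
      exact hX0 χ (by
        by_cases h : χ ∈ B
        · exact Or.inl (Finset.mem_filter.2 ⟨Finset.mem_univ _, h⟩)
        · exact Or.inr h))
    rw [hX, map_zero] at hXr
    have hpos : s.card ≠ 0 := Finset.card_ne_zero.2 ⟨χ₀, Finset.mem_filter.2 ⟨Finset.mem_univ _, hχ₀⟩⟩
    have hE : e * (w - γ • e) = w - γ • e := by rw [mul_sub, mul_smul_comm, hew, he2]
    obtain ⟨n, hn⟩ := Nat.exists_eq_succ_of_ne_zero hpos
    rw [hn, pow_succ', ← mul_assoc, hE, ← pow_succ'] at hXr
    rw [hn]
    exact hXr.symm
  set nn := γ⁻¹ • (w - γ • e) with hnn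
  have hnnil : IsNilpotent nn := ⟨s.card, by rw [hnn, smul_pow, hnil, smul_zero]⟩
  obtain ⟨v, hv⟩ := hnnil.isUnit_one_add
  have hwv : γ⁻¹ • w = e * (v : MonoidAlgebra (Res hM) G) := by
    rw [hv, hnn, mul_add, mul_one, mul_smul_comm, mul_sub, mul_smul_comm, hew, he2, smul_sub,
      smul_smul, inv_mul_cancel₀ hγ0, one_smul, add_sub_cancel]
  set z := γ⁻¹ • (e * (↑v⁻¹ : MonoidAlgebra (Res hM) G)) with hz
  have hvc : ∀ x, (↑v⁻¹ : MonoidAlgebra (Res hM) G) * x = x * ↑v⁻¹ := fun x => by
    have h : Commute (v : MonoidAlgebra (Res hM) G) x := by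
      rw [hv]
      refine (Commute.one_left x).add_left ?_
      rw [hnn]
      exact ((Commute.sub_left (hwc x) ((show Commute e x from hec' x).smul_left γ)).smul_left γ⁻¹)
    exact h.units_inv_left.eq
  have hzc : ∀ x, z * x = x * z := fun x => by
    rw [hz, smul_mul_assoc, mul_smul_comm, mul_assoc, hvc, ← mul_assoc, hec', mul_assoc]
  have hwz : w * z = e := by
    rw [hz, mul_smul_comm, ← mul_assoc, ← hec', hew, ← smul_mul_assoc, hwv, mul_assoc,
      Units.mul_inv, mul_one]
  refine ⟨MonoidAlgebra.of (Res hM) G g * (e * z), ?_, ?_⟩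
  · intro d hd
    show MonoidAlgebra.of (Res hM) G d * _ = _ * MonoidAlgebra.of (Res hM) G d
    have h := Subgroup.mem_centralizer_singleton_iff.1 (hDC hd)
    rw [← mul_assoc, ← map_mul, h, map_mul, mul_assoc, mul_assoc]
    congr 1
    rw [← mul_assoc, ← hec', mul_assoc, mul_assoc, hzc]
  · calc ∑ q : G ⧸ D, MonoidAlgebra.of (Res hM) G q.out *
          (MonoidAlgebra.of (Res hM) G g * (e * z)) * MonoidAlgebra.of (Res hM) G q.out⁻¹
        = ∑ q : G ⧸ D, MonoidAlgebra.of (Res hM) G (q.out * g * q.out⁻¹) * (e * z) := by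
          refine Finset.sum_congr rfl fun q _ => ?_
          rw [← mul_assoc, ← map_mul, mul_assoc, mul_assoc e z, hzc, ← mul_assoc e, hec',
            mul_assoc, ← mul_assoc, ← map_mul]
      _ = e * w * z := by
          have hwS : w = e * ∑ q : G ⧸ D, MonoidAlgebra.of (Res hM) G (q.out * g * q.out⁻¹) := by
            rw [hw, map_mul, ← he, map_sum]
            congr 1
            refine Finset.sum_congr rfl fun q _ => ?_
            simp
          rw [← Finset.sum_mul, hew, hwS, mul_assoc, ← mul_assoc, ← hec', mul_assoc]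
      _ = e := by rw [hew, hwz]

end Cfsg.Agent.BlockCharsA.CyclicDefect
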