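import Mathlib
import Cfsg.Agent.BlockCharsA.CyclicDefect.Count
import Cfsg.Agent.BlockCharsA.CyclicDefect.Local
import Cfsg.Agent.BlockCharsA.CyclicDefect.RelTrace
import Cfsg.Agent.BlockCharsA.CyclicDefect.LocalBlock
import Cfsg.Agent.BlockCharsA.CyclicDefect.Inertial
import Cfsg.Agent.BlockCharsA.CyclicDefect.GoodVector

/-!
# The inertial index is at most the rank of a block with cyclic defect group
-/

set_option linter.style.haveILetI false
set_option linter.unusedSectionVars false

namespace Cfsg.Agent.BlockCharsA.CyclicDefect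

open Module MonoidAlgebra Cfsg.Agent.Blocks Cfsg.Agent.Characters Cfsg.Agent.Blocks.Star
open Cfsg.Agent.BlockCharsA.TwoChars Cfsg.Agent.BlockCharsA.RankOneSmall
open Cfsg.Agent.BlockCharsA.BrauerPairs Cfsg.Agent.BlockCharsA.PairLocal

universe u w

section Modules

variable {G : Type u} [Group G] [Finite G] {k : Type} [Field k] [IsAlgClosed k]

set_option maxHeartbeats 1000000 in
/-- Surviving eigenvectors in a module give simple modules with independent traces. -/
theorem exists_traces' {A : Type u} [Ring A] [Algebra k A] (C : CornerData k A)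
    (htr : ∀ (V : Type u) [AddCommGroup V] [Module k V] [Module A V]
      [IsScalarTower k A V] [SMulCommClass A k V]
      [FiniteDimensional k V] [IsSimpleModule A V], C.TraceScalar V)
    {W : Type u} [AddCommGroup W] [Module k W] [Module A W] [IsScalarTower k A W]
    [SMulCommClass A k W] [FiniteDimensional k W] {eB : A} (hW : ∀ x : W, eB • x = x)
    {ι : Type*} [Fintype ι] (κ : ι → k) (hκ : Function.Injective κ)
    (hgood : ∀ i, ∃ v : W, C.Good (κ i) v) :
    ∃ V : ι → Type u, ∃ (_ : ∀ i, AddCommGroup (V i)) (_ : ∀ i, Module k (V i))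
      (_ : ∀ i, Module A (V i)) (_ : ∀ i, IsScalarTower k A (V i)),
      (∀ i, ∀ x : V i, eB • x = x) ∧
        LinearIndependent k fun i => actTrace k (A := A) (V i) := by
  choose v hv using hgood
  choose X X' hsimp w hw using fun i => C.exists_simple_good (hv i)
  refine ⟨fun i => X i ⧸ X' i, fun i => inferInstance, fun i => inferInstance, fun i => inferInstance,
    fun i => inferInstance, fun i x => ?_, ?_⟩
  · obtain ⟨x, rfl⟩ := Submodule.Quotient.mk_surjective _ x
    rw [← Submodule.Quotient.mk_smul]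
    exact congrArg _ (Subtype.ext (hW x.1))
  haveI : ∀ i, FiniteDimensional k (X i) := fun i =>
    inferInstanceAs (FiniteDimensional k ((X i).restrictScalars k))
  haveI : ∀ i, FiniteDimensional k (X i ⧸ X' i) := fun i =>
    Module.Finite.of_surjective ((X' i).mkQ.restrictScalars k) (Submodule.mkQ_surjective _)
  refine linearIndependent_actTrace (fun i => X i ⧸ X' i) fun i j hij φ => ?_
  refine (LinearMap.bijective_or_eq_zero φ).resolve_left fun hb => hij (hκ ?_)
  obtain ⟨h1, h2, h3, h4⟩ := hw i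
  have hgood' : C.Good (κ i) (φ (w i)) := by
    refine ⟨by rw [← map_smul, h1], by rw [← map_smul, h2, map_zero],
      by rw [← map_smul, h3, LinearMap.map_smul_of_tower], fun y hy => ?_⟩
    obtain ⟨y, rfl⟩ := hb.2 y
    rw [← map_smul] at hy
    exact h4 y (hb.1 hy)
  exact C.good_unique (htr _) hgood' (hw j)

/-- Surviving eigenvectors give simple modules with independent traces. -/
theorem exists_traces (C : CornerData k (MonoidAlgebra k G))
    (htr : ∀ (V : Type u) [AddCommGroup V] [Module k V] [Module (MonoidAlgebra k G) V]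
      [IsScalarTower k (MonoidAlgebra k G) V] [SMulCommClass (MonoidAlgebra k G) k V]
      [FiniteDimensional k V] [IsSimpleModule (MonoidAlgebra k G) V], C.TraceScalar V)
    {eB : MonoidAlgebra k G} (heBc : ∀ x, eB * x = x * eB) {z : G}
    {ι : Type*} [Fintype ι] (κ : ι → k) (hκ : Function.Injective κ)
    (hgood : ∀ i, ∃ v : MonoidAlgebra k G, v * single z 1 = v ∧ eB * v = v ∧ C.J * v = v ∧
      C.T * v = 0 ∧ C.Θ * v = κ i • v ∧
        ∀ y, y * single z 1 = y → C.T ^ (C.L - 1) * y ≠ v) :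
    ∃ V : ι → Type u, ∃ (_ : ∀ i, AddCommGroup (V i)) (_ : ∀ i, Module k (V i))
      (_ : ∀ i, Module (MonoidAlgebra k G) (V i))
      (_ : ∀ i, IsScalarTower k (MonoidAlgebra k G) (V i)),
      (∀ i, ∀ x : V i, eB • x = x) ∧
        LinearIndependent k fun i => actTrace k (A := MonoidAlgebra k G) (V i) := by
  classical
  haveI : Module.Finite k (MonoidAlgebra k G) :=
    Module.Finite.of_basis (MonoidAlgebra.basis G k)
  let X₀ : Submodule (MonoidAlgebra k G) (MonoidAlgebra k G) :=
    { carrier := {x | x * single z 1 = x ∧ eB * x = x}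
      add_mem' := fun {a b} ha hb => ⟨by rw [add_mul, ha.1, hb.1], by rw [mul_add, ha.2, hb.2]⟩
      zero_mem' := ⟨zero_mul _, mul_zero _⟩
      smul_mem' := fun a x hx => ⟨by rw [smul_eq_mul, mul_assoc, hx.1], by
        rw [smul_eq_mul, ← mul_assoc, heBc, mul_assoc, hx.2]⟩ }
  haveI : FiniteDimensional k X₀ :=
    inferInstanceAs (FiniteDimensional k (X₀.restrictScalars k))
  have hg : ∀ i, ∃ v : X₀, C.Good (κ i) v := fun i => by
    obtain ⟨v, hz, he, h1, h2, h3, h4⟩ := hgood i
    exact ⟨⟨v, hz, he⟩, Subtype.ext h1, Subtype.ext h2, Subtype.ext h3,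
      fun y hy => h4 y y.2.1 (congrArg Subtype.val hy)⟩
  exact exists_traces' C htr (fun x : X₀ => Subtype.ext x.2.2) κ hκ hg

end Modules

variable {G : Type u} [Group G] [Finite G] {p : ℕ} {M : Ideal Cfsg.AlgInt}
  {B : Set (Cfsg.IrrCharacter G)} {P : Subgroup G}
  {c : Set (Cfsg.IrrCharacter (Subgroup.centralizer (P : Set G)))}

set_option maxHeartbeats 2000000 in
/-- The inertial index of a block with cyclic defect group divides `p - 1` and is at most the
number of Brauer characters. -/
theorem inertial_le_blockRank (hM : Cfsg.IsPModular p M)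
    (hmax : Cfsg.IsMaximalBrauerPair p M B P c) (hcyc : IsCyclic P) (hP1 : P ≠ ⊥) :
    (Subgroup.centralizer (P : Set G)).relIndex (stab P c) ∣ p - 1 ∧
      (Subgroup.centralizer (P : Set G)).relIndex (stab P c) ≤ Cfsg.blockRank p B := by
  classical
  haveI := fact_prime_of_pm hM
  haveI : IsAlgClosed (Res hM) := isAlgClosed_residue (splitsAll_loc hM)
  haveI : CharP (Res hM) p := (CharP.charP_iff_prime_eq_zero hM.1).2 (residue_natCast_p hM)
  haveI : Module.Finite (Res hM) (MonoidAlgebra (Res hM) G) :=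
    Module.Finite.of_basis (MonoidAlgebra.basis G (Res hM))
  have hab : ∀ a ∈ P, ∀ b ∈ P, a * b = b * a := fun a ha b hb => by
    letI := hcyc.commGroup
    exact congrArg Subtype.val (mul_comm (⟨a, ha⟩ : P) ⟨b, hb⟩)
  have hPp : IsPGroup p P := hmax.1.1.1
  obtain ⟨z, hzP, hzp, huniq⟩ := exists_order_p hPp hcyc hP1
  obtain ⟨Q, hQdef⟩ : ∃ Q : Subgroup G, Q = Subgroup.zpowers z := ⟨_, rfl⟩
  have hQP : Q ≤ P := hQdef ▸ Subgroup.zpowers_le.2 hzP
  have hzQ : z ∈ Q := hQdef ▸ Subgroup.mem_zpowers z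
  have hQ1 : Q ≠ ⊥ := fun h => hM.1.ne_one (by
    rw [← hzp, orderOf_eq_one_iff]
    exact (Subgroup.mem_bot).1 (h ▸ hzQ))
  have hQcard : Nat.card Q = p := by rw [hQdef, Nat.card_zpowers, hzp]
  have hQpow : ∀ d ∈ Q, ∃ i : ℕ, d = z ^ i := fun d hd => by
    obtain ⟨i, hi⟩ := mem_powers_iff_mem_zpowers.2 (hQdef ▸ hd : d ∈ Subgroup.zpowers z)
    exact ⟨i, hi.symm⟩
  obtain ⟨f, hf, hle⟩ := exists_subpair hM _ Q P c rfl hmax.1.1 hQP
  obtain ⟨-, hidx⟩ := CyclicSubpairs.stab_eq hM hmax hcyc hQ1 hle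
  obtain ⟨-, hrank⟩ := CyclicSubpairs.isNilpotent_local hM hmax hcyc hQ1 hle
  obtain ⟨n₀, hn₀, hcov, hinj, hne, hdvd⟩ := exists_generator_mod (N := stab Q f)
    (H := Subgroup.centralizer (Q : Set G)) hQcard stab_le_normalizer rfl
  rw [hidx] at hcov hinj hne hdvd
  refine ⟨hdvd, ?_⟩
  obtain ⟨e, he⟩ : ∃ e, (Subgroup.centralizer (P : Set G)).relIndex (stab P c) = e := ⟨_, rfl⟩
  rw [he] at hcov hinj hne hdvd ⊢
  have hek : (e : Res hM) ≠ 0 := by
    rw [Ne, CharP.cast_eq_zero_iff (Res hM) p]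
    intro h
    have := Nat.le_of_dvd (by have := hM.1.two_le; omega) (h.trans hdvd)
    have := hM.1.two_le
    omega
  have hHN : Subgroup.centralizer (Q : Set G) ≤ stab Q f := centralizer_le_stab
  have hn₀H : n₀ ∈ Subgroup.normalizer ((Subgroup.centralizer (Q : Set G) : Subgroup G) : Set G) :=
    normalizer_le_normalizer_centralizer Q (stab_le_normalizer hn₀)
  have hPH : P ≤ Subgroup.centralizer (Q : Set G) := fun x hx y hy => hab y (hQP hy) x hx
  -- the local block
  have hDf := InducedPairs.defect_local_of_abelian hM hmax hab hle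
  have hcyc' : IsCyclic (P.subgroupOf (Subgroup.centralizer (Q : Set G))) :=
    isCyclic_of_surjective (Subgroup.subgroupOfEquivOfLe hPH).symm.toMonoidHom
      (Subgroup.subgroupOfEquivOfLe hPH).symm.surjective
  obtain ⟨fI, hfI⟩ := intEl_iff_exists hM (intEl_blockIdem hM hf)
  obtain ⟨eB, heB⟩ := intEl_iff_exists hM (intEl_blockIdem hM hmax.1.2.1)
  obtain ⟨J, T, L, hU, hFJ, hgen, hkillz⟩ := exists_uniserial hM hf hrank hfI
    (CyclicNilpotent.oneGenRadical hM hf hDf hcyc' fI hfI)
  haveI := Fintype.ofFinite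
    (Subgroup.centralizer (Q : Set G) ⧸ P.subgroupOf (Subgroup.centralizer (Q : Set G)))
  obtain ⟨a, had, hatr⟩ := exists_relTrace hM hf hDf fI hfI
  set F := red hM fI with hFdef
  have hzH : z ∈ Subgroup.centralizer (Q : Set G) := hPH hzP
  have hzc : ∀ x : Subgroup.centralizer (Q : Set G),
      (⟨z, hzH⟩ : Subgroup.centralizer (Q : Set G)) * x = x * ⟨z, hzH⟩ := fun x =>
    Subtype.ext (x.2 z hzQ)
  obtain ⟨hL, hkill⟩ := hkillz ⟨z, hzH⟩ hzc ⟨1, by rw [Subgroup.orderOf_mk, hzp, pow_one]⟩
    fun h => by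
      rw [show z = 1 from congrArg Subtype.val h, orderOf_one] at hzp
      exact hM.1.ne_one hzp.symm
  have hFF : F * F = F := by
    rw [hFdef, ← map_mul]
    exact congrArg _ (inc_injective hM (by rw [map_mul, hfI, blockIdem_mul_self]))
  have hFc : ∀ x, F * x = x * F := fun x => by
    obtain ⟨x, rfl⟩ := red_surjective hM x
    rw [hFdef, ← map_mul, ← map_mul]
    exact congrArg _ (inc_injective hM (by
      rw [map_mul, map_mul, hfI, (central_commute (central_blockIdem f) _).eq]))
  have hσF : domCongr (Res hM) (Res hM) (conjK hn₀H) F = F :=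
    red_conj_eq hM hfI hn₀H (mem_stab.1 hn₀).2
  obtain ⟨C, hA, hCJ, hCT, hCF, hCn, hCn', hCL, hCe⟩ := exists_cornerData hn₀H hU hL hFc hFF hFJ
    hσF hgen hne hek
  -- the Brauer image
  have hQf : Cfsg.IsBrauerPairOf p M B Q f := (block_of_subpairLE hM hle).2 hmax.1
  obtain ⟨E, hE, hFE⟩ := exists_red_br hM hQf heB hfI
  have hEF : E * F = F := by rw [← hFc, hFE]
  set eB' := red hM eB with heB'
  have heB2 : eB' * eB' = eB' := by
    rw [heB', ← map_mul]
    exact congrArg _ (inc_injective hM (by rw [map_mul, heB, blockIdem_mul_self]))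
  have heBc : ∀ x, eB' * x = x * eB' := fun x => by
    obtain ⟨x, rfl⟩ := red_surjective hM x
    rw [heB', ← map_mul, ← map_mul]
    exact congrArg _ (inc_injective hM (by
      rw [map_mul, map_mul, heB, (central_commute (central_blockIdem B) _).eq]))
  -- the start
  set Z : MonoidAlgebra (Res hM) (Subgroup.centralizer (Q : Set G)) := single ⟨z, hzH⟩ 1 with hZ
  haveI : CharP (MonoidAlgebra (Res hM) (Subgroup.centralizer (Q : Set G))) p :=
    charP_of_injective_algebraMap (R := Res hM) (RingHom.injective _) p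
  have hZc : ∀ x, Z * x = x * Z := fun x => by
    induction x using MonoidAlgebra.induction_linear with
    | zero => simp
    | add a b ha hb => rw [mul_add, add_mul, ha, hb]
    | single g r => rw [hZ, single_mul_single, single_mul_single, hzc, one_mul, mul_one]
  have hZn : IsNilpotent (Z - 1) := ⟨p ^ 1, by
    rw [sub_pow_char_pow_of_commute p 1 (Commute.one_right _), one_pow, hZ, single_pow, one_pow,
      pow_one, show (⟨z, hzH⟩ : Subgroup.centralizer (Q : Set G)) ^ p = 1 from Subtype.ext (by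
        rw [SubmonoidClass.coe_pow, Subgroup.coe_one, ← hzp, pow_orderOf_eq_one]),
      ← one_def, sub_self]⟩
  obtain ⟨s, hsJ, hsT, hsZ, hs⟩ := hU.exists_start hZc hZn
  -- the roots
  set R := ((Polynomial.X : Polynomial (Res hM)) ^ C.e - Polynomial.C C.γ).rootSet (Res hM)
  have hR : Fintype.card R = e := by
    rw [Polynomial.card_rootSet_eq_natDegree (Polynomial.separable_X_pow_sub_C _ C.e_ne C.γ_ne)
      (IsAlgClosed.splits _), Polynomial.natDegree_X_pow_sub_C, hCe]
  have hκ : ∀ κ : R, (κ : Res hM) ^ C.e = C.γ := fun κ => by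
    have h := (Polynomial.mem_rootSet.1 κ.2).2
    simpa [sub_eq_zero] using h
  -- the modules
  have hkillF : ∀ g ∈ Subgroup.normalizer (Q : Set G), g ∉ stab Q f →
      C.F * single g 1 * C.F = 0 := by
    intro g hg hgN
    have hgH := normalizer_le_normalizer_centralizer Q hg
    rw [hCF, mul_assoc, single_mul_emb hgH, ← mul_assoc, ← map_mul,
      red_conj_kill hM hf hfI hgH (fun h => hgN (mem_stab.2 ⟨hg, h⟩)), map_zero, zero_mul]
  have hfree : ∀ g : G, g ∉ Subgroup.normalizer (Q : Set G) → ∀ d ∈ P, g⁻¹ * d * g ∈ P → d = 1 :=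
    fun g hg d hd hgd => inter_conj_trivial hPp hzp huniq (hQdef ▸ hg) hd hgd
  have haH : ∀ d ∈ P, single d 1 * emb (Res hM) (Subgroup.centralizer (Q : Set G)) a =
      emb (Res hM) (Subgroup.centralizer (Q : Set G)) a * single d 1 := fun d hd => by
    rw [show (single d 1 : MonoidAlgebra (Res hM) G) =
      emb (Res hM) (Subgroup.centralizer (Q : Set G)) (single ⟨d, hPH hd⟩ 1) from
        (emb_single _ (⟨d, hPH hd⟩ : Subgroup.centralizer (Q : Set G)) 1).symm, ← map_mul, ← map_mul,
      had ⟨d, hPH hd⟩ hd]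
  have hF' : C.F = ∑ᶠ r : Subgroup.centralizer (Q : Set G) ⧸
        P.subgroupOf (Subgroup.centralizer (Q : Set G)),
      single (r.out : G) 1 * emb (Res hM) (Subgroup.centralizer (Q : Set G)) a *
        single (r.out : G)⁻¹ 1 := by
    rw [finsum_eq_sum_of_fintype, hCF, ← hatr, map_sum]
    refine Finset.sum_congr rfl fun r _ => ?_
    rw [map_mul, map_mul, emb_single, emb_single, Subgroup.coe_inv]
  have hsoc : ∀ x ∈ C.A₁, C.J * x = x → C.T * x = 0 → ∃ y, x = C.T ^ (C.L - 1) * y := by
    rw [hA]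
    rintro _ ⟨x, rfl⟩ hJx hTx
    rw [hCJ] at hJx
    rw [hCT] at hTx
    have hJx' : J * x = x := emb_injective _ (by rw [map_mul]; exact hJx)
    have hTx' : T * x = 0 := emb_injective _ (by rw [map_mul, map_zero]; exact hTx)
    obtain ⟨y, hy⟩ := hU.socle_right hL hFc hFJ hgen hJx' hTx'
    exact ⟨emb _ _ y, by rw [hCT, hCL, ← map_pow, ← map_mul, ← hy]; rfl⟩
  obtain ⟨V, iA, iK, iG, iT, hblock, hind⟩ := exists_traces C (fun V => by
      intros
      exact traceScalar C _ P (stab Q f) (Subgroup.normalizer (Q : Set G)) n₀ hA hCn hCn' hPH hHN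
        stab_le_normalizer hn₀ (hCe ▸ hcov) (hCe ▸ hinj) hkillF hfree _ (emb_mem _ a) haH hF'
        hsoc V)
    heBc (z := z) (fun κ : R => (κ : Res hM)) Subtype.val_injective fun κ =>
      exists_good C hA hCn hn₀ hHN hn₀H (hCe ▸ hinj) hQcard rfl stab_le_normalizer hzQ hQpow hzH
        hCJ hCT hCF (by rw [hCL]; exact hkill) hEF heBc heB2 hE hsJ hsT hsZ
        (by rw [← hZc]; exact hsZ) hs (hκ κ)
  rw [← hR]
  refine card_le_blockRank hM hmax.1.2.1 heB (fun i => actTrace (Res hM) (V i)) (fun i x y => ?_)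
    (fun i g s t hs hst hc => trace_shift (Algebra.lsmul (Res hM) (Res hM) (V i)) hs t hst hc)
    (fun i x => ?_) hind
  · show LinearMap.trace _ _ (Algebra.lsmul (Res hM) (Res hM) (V i) (x * y)) =
      LinearMap.trace _ _ (Algebra.lsmul (Res hM) (Res hM) (V i) (y * x))
    rw [map_mul (Algebra.lsmul (Res hM) (Res hM) (V i)) x y,
      map_mul (Algebra.lsmul (Res hM) (Res hM) (V i)) y x, LinearMap.trace_mul_comm]
  · show LinearMap.trace _ _ _ = LinearMap.trace _ _ _
    refine congrArg _ (LinearMap.ext fun v => ?_)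
    show (eB' * x) • v = x • v
    rw [mul_smul, hblock]

end Cfsg.Agent.BlockCharsA.CyclicDefect
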