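import Mathlib
import Cfsg.Agent.Lib.Blocks.Star.Nilpotent
import Cfsg.Agent.Lib.Blocks.Star.AbelianColumn
import Cfsg.Agent.BlockCharsA.CyclicDefect.Coords
import Cfsg.Agent.BlockCharsA.CyclicDefect.Inertial
import Cfsg.Agent.BlockCharsA.CyclicDefect.FourierTable

/-!
# The parts of the characters at the pairs of a cyclic defect group

At a non-trivial element of the defect group the part of a character is a value of an integral
Fourier sum times one fixed function, and the sum is invariant under the inertial group.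
-/

set_option linter.style.haveILetI false
set_option linter.unusedSectionVars false

namespace Cfsg.Agent.BlockCharsA.CyclicDefect

open MonoidAlgebra Cfsg.Agent.Blocks Cfsg.Agent.Characters Cfsg.Agent.Blocks.Star
open Cfsg.Agent.BlockCharsA.BrauerPairs Cfsg.Agent.BlockCharsA.PairLocal
open Cfsg.Agent.BlockCharsA.PairReceptive Cfsg.Agent.BlockCharsA.PairConj
open Cfsg.Agent.BlockCharsA.PairFusion
open Cfsg.Agent.CharTheory.CyclicCofactor
open scoped ComplexConjugate

universe u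

variable {G : Type u} [Group G] [Finite G] {p : ℕ} {M : Ideal Cfsg.AlgInt}

/-! ### A subgroup containing a centraliser -/

section Sub

variable {H : Subgroup G}

theorem mem_CU_coe {v c : H} : c ∈ CU v ↔ (c : G) ∈ CU (v : G) :=
  ⟨fun h => mem_CU_of_commute ((commute_of_mem_CU h).map H.subtype),
    fun h => mem_CU_of_commute (Subtype.ext (commute_of_mem_CU h).eq)⟩

theorem card_CU_coe {v : H} (hle : CU (v : G) ≤ H) : Nat.card (CU v) = Nat.card (CU (v : G)) :=
  Nat.card_congr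
    { toFun := fun c => ⟨((c : H) : G), mem_CU_coe.1 c.2⟩
      invFun := fun c => ⟨⟨(c : G), hle c.2⟩, mem_CU_coe.2 c.2⟩
      left_inv := fun _ => rfl
      right_inv := fun _ => rfl }

theorem sum_regAt_coe {v : H} (hle : CU (v : G) ≤ H) (F : G → ℂ) :
    ∑ s ∈ regAt p (v : G), F s = ∑ s ∈ regAt p v, F (s : G) := by
  classical
  symm
  refine Finset.sum_bij (fun c _ => (c : G)) (fun c hc => ?_) (fun _ _ _ _ e => Subtype.ext e)
    (fun s hs => ?_) fun c _ => rfl
  · obtain ⟨h1, h2⟩ := mem_regAt.1 hc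
    exact mem_regAt.2 ⟨h1.map H.subtype, by rwa [Subgroup.orderOf_coe]⟩
  · obtain ⟨h1, h2⟩ := mem_regAt.1 hs
    exact ⟨⟨s, hle (mem_CU_of_commute h1)⟩, mem_regAt.2 ⟨Subtype.ext h1.eq, by
      rwa [Subgroup.orderOf_mk]⟩, rfl⟩

theorem evalChar_inclEl (f : G → ℂ) (z : MonoidAlgebra ℂ H) :
    evalChar f (inclEl H z) = evalChar (fun h : H => f h) z := by
  haveI := Fintype.ofFinite H
  rw [← mul_one (inclEl H z), MonoidAlgebra.one_def, evalChar_inclEl_mul_single, evalChar_eq_sum,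
    finsum_eq_sum_of_fintype]
  exact Finset.sum_congr rfl fun k _ => by rw [mul_one]

theorem evalChar_domCongr {K : Type*} [Group K] [Finite K] (σ : K ≃* K) (f : K → ℂ)
    (z : MonoidAlgebra ℂ K) : evalChar f (domCongr ℂ ℂ σ z) = evalChar (f ∘ σ) z := by
  haveI := Fintype.ofFinite K
  rw [evalChar_eq_sum, evalChar_eq_sum]
  symm
  refine Fintype.sum_equiv σ.toEquiv _ _ fun k => ?_
  rw [coeff_domCongr]
  simp

theorem evalChar_sum_fun {K : Type*} [Group K] [Finite K] {ι : Type*} (t : Finset ι) (a : ι → ℂ)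
    (F : ι → K → ℂ) (z : MonoidAlgebra ℂ K) :
    evalChar (fun k => ∑ i ∈ t, a i * F i k) z = ∑ i ∈ t, a i * evalChar (F i) z := by
  haveI := Fintype.ofFinite K
  simp only [evalChar_eq_sum, Finset.mul_sum]
  rw [Finset.sum_comm]
  exact Finset.sum_congr rfl fun i _ => Finset.sum_congr rfl fun k _ => by ring

theorem th_conj {f : G → ℂ} (hf : Cfsg.IsClassFunction G f) (x u : G) (ε : MonoidAlgebra ℂ G)
    (s : G) : th f (x * u * x⁻¹) (cjE x ε) (x * s * x⁻¹) = th f u ε s := by
  rw [th, th, ← evalChar_cjE hf x (single (u * s) 1 * ε), cjE_mul, cjE_single]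
  congr 3
  group

end Sub

variable {B : Set (Cfsg.IrrCharacter G)} {P : Subgroup G}
  {c : Set (Cfsg.IrrCharacter (Subgroup.centralizer (P : Set G)))}

/-- An integral Fourier sum. -/
noncomputable def fsum {q : ℕ} [NeZero q] (n : ZMod q → ℤ) (x : ZMod q) : ℂ :=
  ∑ j, (n j : ℂ) * ZMod.stdAddChar (j * x)

theorem fsum_shift {q : ℕ} [NeZero q] (n : ZMod q → ℤ) (k x : ZMod q) :
    fsum (fun j => n (j - k)) x = fsum n x * ZMod.stdAddChar (k * x) := by
  rw [fsum, fsum, Finset.sum_mul]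
  refine Fintype.sum_equiv (Equiv.subRight k) _ _ fun j => ?_
  simp only [Equiv.subRight_apply]
  rw [mul_assoc, ← AddChar.map_add_eq_mul]
  congr 2
  ring

set_option maxHeartbeats 4000000 in
/-- The parts at the non-trivial elements, before the correction. -/
theorem exists_parts_twisted (hM : Cfsg.IsPModular p M)
    (hmax : Cfsg.IsMaximalBrauerPair p M B P c) (hcyc : IsCyclic P) (hP1 : P ≠ ⊥)
    [NeZero (Nat.card P)] :
    ∃ (n : Cfsg.IrrCharacter G → ZMod (Nat.card P) → ℤ) (w : ZMod (Nat.card P) → G → ℂ),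
      (∀ (χ : Cfsg.IrrCharacter G) (i : ZMod (Nat.card P)), i ≠ 0 →
        ∀ s ∈ regAt p (pt hcyc i : G),
          th (χ : G → ℂ) (pt hcyc i : G) (eps p M c (pt hcyc i)) s = fsum (n χ) i * w i s) ∧
      (∀ i, i ≠ 0 → (Nat.card P : ℂ) * ∑ s ∈ regAt p (pt hcyc i : G), w i s * conj (w i s) =
        (Nat.card (CU (pt hcyc i : G)) : ℂ)) ∧
      ∀ a ∈ mults c hcyc, ∃ μ : ZMod (Nat.card P), ∀ (χ : Cfsg.IrrCharacter G)
        (i : ZMod (Nat.card P)), i ≠ 0 →
          fsum (n χ) (a * i) * ZMod.stdAddChar (μ * i) = fsum (n χ) i := by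
  classical
  haveI := fact_prime_of_pm hM
  haveI := Fintype.ofFinite G
  have hab := comm_of_cyclic hcyc
  have hPp : IsPGroup p P := hmax.1.1.1
  obtain ⟨z, hzP, hzp, huniq⟩ := exists_order_p hPp hcyc hP1
  obtain ⟨Q, hQdef⟩ : ∃ Q : Subgroup G, Q = Subgroup.zpowers z := ⟨_, rfl⟩
  have hQP : Q ≤ P := hQdef ▸ Subgroup.zpowers_le.2 hzP
  have hQ1 : Q ≠ ⊥ := fun h => hM.1.ne_one (by
    rw [← hzp, orderOf_eq_one_iff]
    exact Subgroup.mem_bot.1 (h ▸ hQdef ▸ Subgroup.mem_zpowers z))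
  obtain ⟨f, hf, hle⟩ := exists_subpair hM _ Q P c rfl hmax.1.1 hQP
  obtain ⟨hnil, -⟩ := CyclicSubpairs.isNilpotent_local hM hmax hcyc hQ1 hle
  obtain ⟨a, ha, hst, hmatch⟩ := LocalNilpotent.exists_maximal_local_match hM hmax hab hle
  have hPH : P ≤ (Subgroup.centralizer (Q : Set G)) := fun x hx y hy => hab y (hQP hy) x hx
  haveI := Fintype.ofFinite (P.subgroupOf (Subgroup.centralizer (Q : Set G)))
  have habH : ∀ x ∈ (P.subgroupOf (Subgroup.centralizer (Q : Set G))), ∀ y ∈ (P.subgroupOf (Subgroup.centralizer (Q : Set G))), x * y = y * x := fun x hx y hy => Subtype.ext (hab x hx y hy)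
  have hcardP : Nat.card (P.subgroupOf (Subgroup.centralizer (Q : Set G))) = Nat.card P :=
    Nat.card_congr (Subgroup.subgroupOfEquivOfLe hPH).toEquiv
  let pt' : ZMod (Nat.card P) → (P.subgroupOf (Subgroup.centralizer (Q : Set G))) := fun i => ⟨⟨pt hcyc i, hPH (pt hcyc i).2⟩, (pt hcyc i).2⟩
  let ix' : (P.subgroupOf (Subgroup.centralizer (Q : Set G))) → ZMod (Nat.card P) := fun v => ix hcyc ⟨((v : (Subgroup.centralizer (Q : Set G))) : G), v.2⟩
  have hix' : ∀ i, ix' (pt' i) = i := fun i => ix_pt i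
  -- the characters of the top
  let lam : ZMod (Nat.card P) → ((P.subgroupOf (Subgroup.centralizer (Q : Set G))) →* ℂ) := fun j =>
    { toFun := fun v => ZMod.stdAddChar (j * ix' v)
      map_one' := by
        show ZMod.stdAddChar (j * ix hcyc 1) = 1
        rw [ix_one, mul_zero, AddChar.map_zero_eq_one]
      map_mul' := fun v v' => by
        show ZMod.stdAddChar (j * ix hcyc (⟨((v : (Subgroup.centralizer (Q : Set G))) : G), v.2⟩ * ⟨((v' : (Subgroup.centralizer (Q : Set G))) : G), v'.2⟩)) = _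
        rw [ix_mul, mul_add, AddChar.map_add_eq_mul] }
  let L : ZMod (Nat.card P) → Cfsg.IrrCharacter (P.subgroupOf (Subgroup.centralizer (Q : Set G))) := fun j =>
    ⟨fun v => lam j v, isIrrCharacter_monoidHom (lam j)⟩
  have hLv : ∀ j i, (L j : (P.subgroupOf (Subgroup.centralizer (Q : Set G))) → ℂ) (pt' i) = ZMod.stdAddChar (j * i) := fun j i => by
    show ZMod.stdAddChar (j * ix' (pt' i)) = _
    rw [hix']
  have hLbij : Function.Bijective L := by
    refine (Nat.bijective_iff_injective_and_card L).2 ⟨fun j j' h => ?_, ?_⟩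
    · have h1 := congrArg (fun χ : Cfsg.IrrCharacter (P.subgroupOf (Subgroup.centralizer (Q : Set G))) => (χ : (P.subgroupOf (Subgroup.centralizer (Q : Set G))) → ℂ) (pt' 1)) h
      simp only [hLv, mul_one] at h1
      exact ZMod.injective_stdAddChar h1
    · rw [card_irrCharacter, Nat.card_zmod, ← hcardP]
      refine Nat.card_eq_of_bijective ConjClasses.mk ⟨fun x y h => ?_, ConjClasses.mk_surjective⟩
      obtain ⟨d, hd⟩ := isConj_iff.1 (ConjClasses.mk_eq_mk_iff_isConj.1 h)
      rw [← hd, show d * x = x * d from Subtype.ext (habH _ d.2 _ x.2), mul_inv_cancel_right]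
  obtain ⟨χ₀, hχ₀, h00, hX, Φ, hΦ⟩ := exists_bijection_full hM hnil ha
  -- the pairs
  have hQz : ∀ i, i ≠ 0 → Q ≤ Subgroup.zpowers (pt hcyc i : G) := by
    intro i hi
    obtain ⟨y, hy, hyp, -⟩ := exists_order_p
      (hPp.to_le (Subgroup.zpowers_le.2 (pt hcyc i).2)) inferInstance (zpowers_pt_ne_bot hi)
    have hyP : y ∈ P := Subgroup.zpowers_le.2 (pt hcyc i).2 hy
    have hyz : Subgroup.zpowers y = Q := by
      refine Subgroup.eq_of_le_of_card_ge (hQdef ▸ Subgroup.zpowers_le.2 (huniq y hyP ?_)) ?_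
      · rw [← hyp, pow_orderOf_eq_one]
      · rw [hQdef, Nat.card_zpowers, Nat.card_zpowers, hzp, hyp]
    rw [← hyz]
    exact Subgroup.zpowers_le.2 hy
  have hCU : ∀ i, i ≠ 0 → CU (pt hcyc i : G) ≤ (Subgroup.centralizer (Q : Set G)) := fun i hi =>
    centralizer_le_centralizer (hQz i hi)
  let εH : ZMod (Nat.card P) → MonoidAlgebra ℂ (Subgroup.centralizer (Q : Set G)) := fun i => eps p M a (pt' i)
  have heps : ∀ i, i ≠ 0 → eps p M c (pt hcyc i) = inclEl (Subgroup.centralizer (Q : Set G)) (εH i) := by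
    intro i hi
    obtain ⟨g, hg, hgB, hge⟩ := eps_spec hM ha (pt' i)
    have hmap : (Subgroup.zpowers ((pt' i : (Subgroup.centralizer (Q : Set G))))).map (Subgroup.centralizer (Q : Set G)).subtype =
        Subgroup.zpowers (pt hcyc i : G) := MonoidHom.map_zpowers _ _
    obtain ⟨g', hg', hgg'⟩ := exists_up hM
      (⟨_, g⟩ : Cfsg.BrauerPairIdx (Subgroup.centralizer (Q : Set G))) ((subpairLE_facts hM hg).2 ha.1.1)
      (by rw [hmap]; exact hCU i hi)
    have hup := subpairLE_up hM (Q := Q) le_rfl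
      (a := (⟨_, g⟩ : Cfsg.BrauerPairIdx (Subgroup.centralizer (Q : Set G)))) hg (by rw [hmap]; exact hQz i hi) hgg' hmatch hmax.1.1
    have key : ∀ b : Cfsg.BrauerPairIdx G, b.1 = Subgroup.zpowers (pt hcyc i : G) →
        Relation.ReflTransGen (Cfsg.NormalSubpairRel p M) b ⟨P, c⟩ →
        eps p M c (pt hcyc i) = elF (Subgroup.centralizer (b.1 : Set G)) b.2 := by
      rintro ⟨L, g''⟩ rfl hb
      exact eps_eq hM hmax _ hb
    rw [key _ hmap hup]
    refine el_ext fun x => ?_
    by_cases hx : x ∈ (Subgroup.centralizer (Q : Set G))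
    · rw [coeff_inclEl_of_mem _ _ hx]
      show _ = (eps p M a (pt' i)).coeff ⟨x, hx⟩
      rw [hge]
      exact (hgg'.2.2 ⟨x, hx⟩).symm
    · rw [coeff_inclEl_notMem _ _ hx, elF, coeff_inclEl_notMem]
      exact fun h => hx (hgg'.2.1 h)
  -- the local functions
  let w : ZMod (Nat.card P) → G → ℂ := fun i s =>
    if h : s ∈ (Subgroup.centralizer (Q : Set G)) then th (χ₀ : (Subgroup.centralizer (Q : Set G)) → ℂ) (pt' i : (Subgroup.centralizer (Q : Set G))) (εH i) ⟨s, h⟩ else 0
  have hη : ∀ j, ∀ i, ∀ s ∈ regAt p (pt' i : (Subgroup.centralizer (Q : Set G))),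
      th (((Φ (L j) : f) : Cfsg.IrrCharacter (Subgroup.centralizer (Q : Set G))) : (Subgroup.centralizer (Q : Set G)) → ℂ) (pt' i : (Subgroup.centralizer (Q : Set G))) (εH i) s =
        ZMod.stdAddChar (j * i) * th (χ₀ : (Subgroup.centralizer (Q : Set G)) → ℂ) (pt' i : (Subgroup.centralizer (Q : Set G))) (εH i) s := by
    intro j i s hs
    have hst' := stable_of_nilpotent hM hnil ha (irr_isClassFunction (L j))
    have hcl := irr_isClassFunction ((Φ (L j) : f) : Cfsg.IrrCharacter (Subgroup.centralizer (Q : Set G)))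
    rw [(hΦ (L j)).1] at hcl ⊢
    rw [th_star hM (irr_isClassFunction χ₀) hcl (orderOf_top hM ha (pt' i))
      (eps_mem_BI hM ha (pt' i)) hs, hat_self hM ha hst', hLv]
  haveI := Fintype.ofFinite (Cfsg.IrrCharacter (Subgroup.centralizer (Q : Set G)))
  have hint : ∀ (χ : Cfsg.IrrCharacter G) (θ : Cfsg.IrrCharacter (Subgroup.centralizer (Q : Set G))), ∃ m : ℤ,
      Cfsg.classInner (fun h : (Subgroup.centralizer (Q : Set G)) => (χ : G → ℂ) h) (θ : (Subgroup.centralizer (Q : Set G)) → ℂ) = (m : ℂ) := fun χ θ =>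
    classInner_gen_int (isGen_of_isCharacter (isCharacter_restrict (Subgroup.centralizer (Q : Set G)) (irr_isCharacter χ)))
      (isGen_of_isCharacter (irr_isCharacter θ))
  choose N hN using hint
  have hth : ∀ (χ : Cfsg.IrrCharacter G) (i : ZMod (Nat.card P)), i ≠ 0 →
      ∀ s ∈ regAt p (pt hcyc i : G),
        th (χ : G → ℂ) (pt hcyc i : G) (eps p M c (pt hcyc i)) s =
          fsum (fun j => N χ (Φ (L j))) i * w i s := by
    intro χ i hi s hs
    obtain ⟨hs1, hs2⟩ := mem_regAt.1 hs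
    have hsH : s ∈ (Subgroup.centralizer (Q : Set G)) := hCU i hi (mem_CU_of_commute hs1)
    have hsr : (⟨s, hsH⟩ : (Subgroup.centralizer (Q : Set G))) ∈ regAt p (pt' i : (Subgroup.centralizer (Q : Set G))) :=
      mem_regAt.2 ⟨Subtype.ext hs1.eq, by rwa [Subgroup.orderOf_mk]⟩
    have h1 : th (χ : G → ℂ) (pt hcyc i : G) (eps p M c (pt hcyc i)) s =
        evalChar (fun h : (Subgroup.centralizer (Q : Set G)) => (χ : G → ℂ) h)
          (single ((pt' i : (Subgroup.centralizer (Q : Set G))) * ⟨s, hsH⟩) 1 * εH i) := by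
      rw [th, heps i hi, ← evalChar_inclEl, map_mul, inclEl_single]
      rfl
    have hexp : (fun h : (Subgroup.centralizer (Q : Set G)) => (χ : G → ℂ) h) =
        fun h => ∑ θ : Cfsg.IrrCharacter (Subgroup.centralizer (Q : Set G)), (N χ θ : ℂ) * (θ : (Subgroup.centralizer (Q : Set G)) → ℂ) h := by
      conv_lhs => rw [classFun_eq_sum (classFun_restrict (Subgroup.centralizer (Q : Set G)) (irr_isClassFunction χ))]
      funext h
      simp [Finset.sum_apply, hN]
    rw [h1, hexp, evalChar_sum_fun]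
    show ∑ θ : Cfsg.IrrCharacter (Subgroup.centralizer (Q : Set G)), (N χ θ : ℂ) *
        th (θ : (Subgroup.centralizer (Q : Set G)) → ℂ) (pt' i : (Subgroup.centralizer (Q : Set G))) (εH i) ⟨s, hsH⟩ = _
    simp only [w, dif_pos hsH, fsum, Finset.sum_mul]
    refine Eq.trans (Finset.sum_subset (s₁ := (Finset.univ : Finset (ZMod (Nat.card P))).image
      fun j => ((Φ (L j) : f) : Cfsg.IrrCharacter (Subgroup.centralizer (Q : Set G)))) (Finset.subset_univ _) fun θ _ hθ => ?_).symm ?_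
    · obtain ⟨g, hg, hgB, hge⟩ := eps_spec hM ha (pt' i)
      have hθf : θ ∉ f := fun hθf => hθ (Finset.mem_image.2 (by
        obtain ⟨j, hj⟩ := hLbij.2 (Φ.symm ⟨θ, hθf⟩)
        exact ⟨j, Finset.mem_univ _, by rw [hj, Equiv.apply_symm_apply]⟩))
      show (N χ θ : ℂ) * th (θ : (Subgroup.centralizer (Q : Set G)) → ℂ) (pt' i : (Subgroup.centralizer (Q : Set G))) (eps p M a (pt' i)) ⟨s, hsH⟩ = 0
      rw [hge, th_eq_zero hM (isPBlock_blockOf M θ) (mem_blockOf_self hM θ)
        (orderOf_top hM ha (pt' i)) hgB (fun h' => hθf ?_) hsr, mul_zero]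
      rw [brauerPairOf_unique hM ((block_of_subpairLE hM hg).2 ha.1) h']
      exact mem_blockOf_self hM θ
    · rw [Finset.sum_image fun j _ j' _ h => hLbij.1 (Φ.injective (Subtype.ext h))]
      exact Finset.sum_congr rfl fun j _ => by rw [hη j i _ hsr, mul_assoc]
  refine ⟨fun χ j => N χ (Φ (L j)), w, hth, fun i hi => ?_, fun b hb => ?_⟩
  · have hsum : ∑ s ∈ regAt p (pt hcyc i : G), w i s * conj (w i s) =
        pairing p (χ₀ : (Subgroup.centralizer (Q : Set G)) → ℂ) (χ₀ : (Subgroup.centralizer (Q : Set G)) → ℂ) (pt' i : (Subgroup.centralizer (Q : Set G))) (eps p M a (pt' i)) := by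
      refine (sum_regAt_coe (v := (pt' i : (Subgroup.centralizer (Q : Set G)))) (hCU i hi) fun s => w i s * conj (w i s)).trans ?_
      exact Finset.sum_congr rfl fun s _ => by simp only [w, dif_pos s.2]; rfl
    have hnb : nb p M a (pt' i) = Nat.card (CU (pt hcyc i : G)) := by
      rw [CharTheory.CyclicCofactor.nb_eq hM ha habH, card_CU_coe (v := (pt' i : (Subgroup.centralizer (Q : Set G)))) (hCU i hi)]
      have : Nat.card {v : (P.subgroupOf (Subgroup.centralizer (Q : Set G))) // ∃ y ∈ stab (P.subgroupOf (Subgroup.centralizer (Q : Set G))) a,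
          y * (pt' i : (Subgroup.centralizer (Q : Set G))) * y⁻¹ = (v : (Subgroup.centralizer (Q : Set G)))} = 1 := by
        rw [Nat.card_eq_one_iff_unique]
        refine ⟨⟨fun x x' => ?_⟩, ⟨⟨pt' i, 1, one_mem _, by simp⟩⟩⟩
        have key : ∀ x : {v : (P.subgroupOf (Subgroup.centralizer (Q : Set G))) // ∃ y ∈ stab (P.subgroupOf (Subgroup.centralizer (Q : Set G))) a, y * (pt' i : (Subgroup.centralizer (Q : Set G))) * y⁻¹ = (v : (Subgroup.centralizer (Q : Set G)))},
            x.1 = pt' i := by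
          rintro ⟨v, y, hy, hyv⟩
          have hyP : (y : G) ∈ stab P c := (hst y).1 (mem_stab.1 hy)
          have hyC := CyclicSubpairs.mem_centralizer_of_fix hM hmax hcyc hQP hQ1 hyP y.2
          refine Subtype.ext (hyv.symm.trans (Subtype.ext ?_))
          show (y : G) * (pt hcyc i : G) * (y : G)⁻¹ = pt hcyc i
          rw [← hyC _ (pt hcyc i).2, mul_inv_cancel_right]
        exact Subtype.ext ((key x).trans (key x').symm)
      rw [this, one_mul]
    rw [hsum, ← hnb, ← hcardP]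
    exact hX (pt' i)
  · obtain ⟨y, hy, hby⟩ := mem_mults.1 hb
    have hyQ : y ∈ Subgroup.normalizer (Q : Set G) :=
      CyclicSubpairs.mem_normalizer_of_cyclic hcyc hQP (stab_le_normalizer hy)
    have hyH : y ∈ Subgroup.normalizer ((Subgroup.centralizer (Q : Set G)) : Set G) :=
      normalizer_le_normalizer_centralizer Q hyQ
    have hyf : y ∈ stab Q f := by
      rw [(CyclicSubpairs.stab_eq hM hmax hcyc hQ1 hle).1]
      exact Subgroup.mem_sup_left hy
    set σ := conjK hyH with hσ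
    have hmem : irrAutEquiv σ χ₀ ∈ f := by
      have h := (stabilizes_iff hyH f).1 (mem_stab.1 hyf).2
      rw [← h] at hχ₀
      exact hχ₀
    obtain ⟨μ, hμ⟩ := hLbij.2 (Φ.symm ⟨_, hmem⟩)
    have hμ' : ((Φ (L μ) : f) : Cfsg.IrrCharacter (Subgroup.centralizer (Q : Set G))) = irrAutEquiv σ χ₀ := by
      rw [hμ, Equiv.apply_symm_apply]
    refine ⟨μ, fun χ i hi => ?_⟩
    have hne : ∃ s ∈ regAt p (pt hcyc i : G), w i s ≠ 0 := by
      by_contra hcon
      push Not at hcon
      obtain ⟨g, hg, hgB, hge⟩ := eps_spec hM ha (pt' i)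
      obtain ⟨s, hs, hne⟩ := exists_th_ne_zero hM (orderOf_top hM ha (pt' i))
        ((block_of_subpairLE hM hg).2 ha.1) hχ₀ h00
      obtain ⟨hs1, hs2⟩ := mem_regAt.1 hs
      refine hne ?_
      have h := hcon (s : G) (mem_regAt.2 ⟨hs1.map (Subgroup.centralizer (Q : Set G)).subtype, by rwa [Subgroup.orderOf_coe]⟩)
      simp only [w, dif_pos s.2] at h
      rw [← hge]
      exact h
    obtain ⟨s, hs, hws⟩ := hne
    obtain ⟨hs1, hs2⟩ := mem_regAt.1 hs
    have hsH : s ∈ (Subgroup.centralizer (Q : Set G)) := hCU i hi (mem_CU_of_commute hs1)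
    have hsr : (⟨s, hsH⟩ : (Subgroup.centralizer (Q : Set G))) ∈ regAt p (pt' i : (Subgroup.centralizer (Q : Set G))) :=
      mem_regAt.2 ⟨Subtype.ext hs1.eq, by rwa [Subgroup.orderOf_mk]⟩
    have hbi : b * i ≠ 0 := fun h =>
      hi (((isFree_mults (hcyc := hcyc) hM hmax).mul_eq_zero_iff hb).1 h)
    have hs' : y * s * y⁻¹ ∈ regAt p (pt hcyc (b * i) : G) := by
      rw [← hby i]
      refine mem_regAt.2 ⟨hs1.map (MulAut.conj y).toMonoidHom, ?_⟩
      rwa [show y * s * y⁻¹ = MulAut.conj y s from rfl, (MulAut.conj y).orderOf_eq]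
    have hs'H : y * s * y⁻¹ ∈ (Subgroup.centralizer (Q : Set G)) := hCU (b * i) hbi (mem_CU_of_commute (mem_regAt.1 hs').1)
    have hmove : domCongr ℂ ℂ σ (single ((pt' i : (Subgroup.centralizer (Q : Set G))) * ⟨s, hsH⟩) 1 * εH i) =
        single ((pt' (b * i) : (Subgroup.centralizer (Q : Set G))) * ⟨y * s * y⁻¹, hs'H⟩) 1 * εH (b * i) := by
      rw [map_mul]
      congr 1
      · refine el_ext fun x => ?_
        rw [coeff_domCongr, MonoidAlgebra.coeff_single, MonoidAlgebra.coeff_single]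
        simp only [Finsupp.single_apply, MulEquiv.eq_symm_apply]
        refine if_congr ?_ rfl rfl
        have e : σ ((pt' i : (Subgroup.centralizer (Q : Set G))) * ⟨s, hsH⟩) = (pt' (b * i) : (Subgroup.centralizer (Q : Set G))) * ⟨y * s * y⁻¹, hs'H⟩ :=
          Subtype.ext (by
            show y * ((pt hcyc i : G) * s) * y⁻¹ = (pt hcyc (b * i) : G) * (y * s * y⁻¹)
            rw [← hby i]; group)
        rw [← e]
      · refine el_ext fun x => ?_
        rw [coeff_domCongr]
        have h := congrArg (fun E : MonoidAlgebra ℂ G => E.coeff (x : G))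
          (cjE_eps hM hmax hy (hby i))
        simp only [coeff_cjE, heps i hi, heps (b * i) hbi, coeff_inclEl_mem] at h
        rw [← h]
        have e : y⁻¹ * (x : G) * y = ((σ.symm x : (Subgroup.centralizer (Q : Set G))) : G) := by
          rw [hσ, conjK_symm_coe]
        rw [e, coeff_inclEl_mem]
    have h2 : th (χ : G → ℂ) (pt hcyc (b * i) : G) (eps p M c (pt hcyc (b * i)))
        (y * s * y⁻¹) = th (χ : G → ℂ) (pt hcyc i : G) (eps p M c (pt hcyc i)) s := by
      rw [← cjE_eps hM hmax hy (hby i), ← hby i, th_conj (irr_isClassFunction χ)]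
    have h3 : w (b * i) (y * s * y⁻¹) = ZMod.stdAddChar (μ * i) * w i s := by
      simp only [w, dif_pos hs'H, dif_pos hsH]
      rw [← hη μ i _ hsr, hμ']
      show evalChar (χ₀ : (Subgroup.centralizer (Q : Set G)) → ℂ) (single ((pt' (b * i) : (Subgroup.centralizer (Q : Set G))) * ⟨y * s * y⁻¹, hs'H⟩) 1 * εH (b * i)) =
        evalChar ((χ₀ : (Subgroup.centralizer (Q : Set G)) → ℂ) ∘ σ) (single ((pt' i : (Subgroup.centralizer (Q : Set G))) * ⟨s, hsH⟩) 1 * εH i)
      rw [← hmove, evalChar_domCongr]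
    rw [hth χ _ hbi _ hs', hth χ _ hi _ hs, h3] at h2
    exact mul_right_cancel₀ hws (by rw [← h2]; ring)

set_option maxHeartbeats 1000000 in
/-- The parts at the non-trivial elements: the sums are invariant under the inertial group. -/
theorem exists_parts (hM : Cfsg.IsPModular p M)
    (hmax : Cfsg.IsMaximalBrauerPair p M B P c) (hcyc : IsCyclic P) (hP1 : P ≠ ⊥)
    [NeZero (Nat.card P)] (he : (mults c hcyc).card ∣ p - 1) :
    ∃ (n : Cfsg.IrrCharacter G → ZMod (Nat.card P) → ℤ) (w : ZMod (Nat.card P) → G → ℂ),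
      (∀ (χ : Cfsg.IrrCharacter G) (i : ZMod (Nat.card P)), i ≠ 0 →
        ∀ s ∈ regAt p (pt hcyc i : G),
          th (χ : G → ℂ) (pt hcyc i : G) (eps p M c (pt hcyc i)) s = fsum (n χ) i * w i s) ∧
      (∀ i, i ≠ 0 → (Nat.card P : ℂ) * ∑ s ∈ regAt p (pt hcyc i : G), w i s * conj (w i s) =
        (Nat.card (CU (pt hcyc i : G)) : ℂ)) ∧
      ∀ (χ : Cfsg.IrrCharacter G), ∀ a ∈ mults c hcyc, ∀ i, i ≠ 0 →
        fsum (n χ) (a * i) = fsum (n χ) i := by
  classical
  haveI := fact_prime_of_pm hM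
  haveI := Fintype.ofFinite G
  haveI := Fintype.ofFinite (Cfsg.IrrCharacter G)
  haveI : Fact (1 < Nat.card P) := ⟨Finite.one_lt_card_iff_nontrivial.2
    ((Subgroup.nontrivial_iff_ne_bot P).2 hP1)⟩
  obtain ⟨n, w, hth, hw, hμ⟩ := exists_parts_twisted hM hmax hcyc hP1
  have hS := isFree_mults (hcyc := hcyc) hM hmax
  -- a character with a part at the generator
  obtain ⟨χ₁, hχ₁⟩ : ∃ χ : Cfsg.IrrCharacter G, fsum (n χ) 1 ≠ 0 := by
    by_contra hcon
    push Not at hcon
    obtain ⟨g, hg, -, -⟩ := eps_spec hM hmax (pt hcyc 1)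
    have h1 := sum_pairing_top hM hmax (pt hcyc 1)
    rw [lv_eq hM hmax hg, (CyclicSubpairs.isNilpotent_local hM hmax hcyc
      (zpowers_pt_ne_bot one_ne_zero) hg).2, Nat.cast_one, mul_one,
      Finset.sum_eq_zero fun χ _ => ?_] at h1
    · exact (Nat.cast_ne_zero.2 Nat.card_pos.ne' : (Nat.card (CU (pt hcyc 1 : G)) : ℂ) ≠ 0) h1.symm
    · exact Finset.sum_eq_zero fun s hs => by
        rw [hth χ 1 one_ne_zero s hs, hcon χ, zero_mul, zero_mul]
  choose! μ hμ using hμ
  have hcoc : ∀ a ∈ mults c hcyc, ∀ b ∈ mults c hcyc, μ (a * b) = b * μ a + μ b := by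
    intro a ha b hb
    have hb0 : b ≠ 0 := fun h => one_ne_zero (α := ZMod (Nat.card P))
      ((hS.mul_eq_zero_iff hb).1 (by rw [h, zero_mul]))
    have h1 := hμ a ha χ₁ b hb0
    have h2 := hμ b hb χ₁ 1 one_ne_zero
    have h3 := hμ (a * b) (hS.mul_mem ha hb) χ₁ 1 one_ne_zero
    rw [mul_one] at h2 h3
    simp only [mul_one] at h2 h3
    have h4 : fsum (n χ₁) (a * b) ≠ 0 := fun h => hχ₁ (by rw [← h3, h, zero_mul])
    refine ZMod.injective_stdAddChar (mul_left_cancel₀ h4 ?_)
    rw [h3, ← h2, ← h1, AddChar.map_add_eq_mul, mul_comm b (μ a)]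
    ring
  have hunit : IsUnit ((mults c hcyc).card : ZMod (Nat.card P)) := by
    obtain ⟨k, hk⟩ := IsPGroup.iff_card.1 (hmax.1.1.1 : IsPGroup p P)
    rw [ZMod.isUnit_iff_coprime]
    have key : ∀ m, m = p ^ k → Nat.Coprime (mults c hcyc).card (p ^ k) →
        Nat.Coprime (mults c hcyc).card m := fun m hm h => hm ▸ h
    refine key _ hk (Nat.Coprime.pow_right _ ?_)
    rw [Nat.coprime_comm, hM.1.coprime_iff_not_dvd]
    intro h
    have h2 := hM.1.two_le
    have := Nat.le_of_dvd (by omega) (h.trans he)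
    omega
  obtain ⟨u, hu⟩ := hunit
  obtain ⟨k, hk⟩ : ∃ k, ∀ b ∈ mults c hcyc, k * b = μ b + k := by
    refine ⟨-(↑u⁻¹ * ∑ a ∈ mults c hcyc, μ a), fun b hb => ?_⟩
    have h1 : ∑ a ∈ mults c hcyc, μ (a * b) = ∑ a ∈ mults c hcyc, μ a := by
      obtain ⟨d, hd, hdb⟩ := hS.exists_inv hb
      exact Finset.sum_bij' (fun a _ => a * b) (fun a _ => a * d) (fun a ha => hS.mul_mem ha hb)
        (fun a ha => hS.mul_mem ha hd) (fun a _ => by rw [mul_assoc, mul_comm b d, hdb, mul_one])
        (fun a _ => by rw [mul_assoc, hdb, mul_one]) (fun a _ => rfl)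
    rw [Finset.sum_congr rfl fun a ha => hcoc a ha b hb, Finset.sum_add_distrib, ← Finset.mul_sum,
      Finset.sum_const, nsmul_eq_mul, ← hu] at h1
    linear_combination (-(↑u⁻¹ : ZMod (Nat.card P))) * h1 + μ b * u.inv_mul
  refine ⟨fun χ j => n χ (j - k), fun i s => ZMod.stdAddChar (-(k * i)) * w i s,
    fun χ i hi s hs => ?_, fun i hi => ?_, fun χ a ha i hi => ?_⟩
  · rw [hth χ i hi s hs, fsum_shift]
    calc _ = fsum (n χ) i * (ZMod.stdAddChar (k * i + -(k * i)) : ℂ) * w i s := by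
          rw [add_neg_cancel, AddChar.map_zero_eq_one, mul_one]
      _ = _ := by rw [AddChar.map_add_eq_mul]; ring
  · rw [← hw i hi]
    congr 1
    refine Finset.sum_congr rfl fun s _ => ?_
    rw [map_mul, FourierTable.conj_std, neg_neg]
    calc _ = (ZMod.stdAddChar (-(k * i) + k * i) : ℂ) * (w i s * conj (w i s)) := by
          rw [AddChar.map_add_eq_mul]; ring
      _ = _ := by rw [neg_add_cancel, AddChar.map_zero_eq_one, one_mul]
  · rw [fsum_shift, fsum_shift, ← hμ a ha χ i hi, mul_assoc, ← AddChar.map_add_eq_mul,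
      ← mul_assoc, hk a ha, add_mul]

end Cfsg.Agent.BlockCharsA.CyclicDefect
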