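import Mathlib
import Cfsg.Agent.Lib.CharTheory.CyclicCofactor.Twist
import Cfsg.Agent.BlockCharsA.CyclicDefect.Parts

/-!
# Relations between the columns of a block with cyclic defect group
-/

set_option linter.style.haveILetI false
set_option linter.unusedSectionVars false

namespace Cfsg.Agent.BlockCharsA.CyclicDefect

open MonoidAlgebra Cfsg.Agent.Blocks Cfsg.Agent.Characters Cfsg.Agent.Blocks.Star
open Cfsg.Agent.BlockCharsA.BrauerPairs Cfsg.Agent.BlockCharsA.PairLocal
open Cfsg.Agent.CharTheory.CyclicCofactor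
open scoped ComplexConjugate

universe u

variable {G : Type u} [Group G] [Finite G] {p : ℕ} {M : Ideal Cfsg.AlgInt}
  {B : Set (Cfsg.IrrCharacter G)} {P : Subgroup G}
  {c : Set (Cfsg.IrrCharacter (Subgroup.centralizer (P : Set G)))}

theorem isClassFunction_star_wt (hM : Cfsg.IsPModular p M) {η : P → ℂ} (hη : Stable p M c η)
    {χ : G → ℂ} (hχ : Cfsg.IsClassFunction G χ) :
    Cfsg.IsClassFunction G (Blocks.Star.star hM (wt p M c η) χ) := by
  intro g a
  have h := isPPart_ppt hM g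
  rw [star_eq hM _ χ (isPPart_conj h a), wt_conj hM hη a _, ← cjE_single, ← cjE_mul,
    evalChar_cjE hχ, Blocks.Star.star]

/-- A twist of a character of the block has no constituent outside it. -/
theorem classInner_star_notMem' [Fintype G] (hM : Cfsg.IsPModular p M)
    (hmax : Cfsg.IsMaximalBrauerPair p M B P c) {η : P → ℂ}
    (hη : Stable p M c η) {χ θ : Cfsg.IrrCharacter G} (hθ : θ ∉ B) :
    Cfsg.classInner (Blocks.Star.star hM (wt p M c η) (χ : G → ℂ)) (θ : G → ℂ) = 0 := by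
  classical
  haveI := Fintype.ofFinite (Cfsg.IrrCharacter G)
  set f := Blocks.Star.star hM (wt p M c η) (χ : G → ℂ)
  have hf : Cfsg.IsClassFunction G f := isClassFunction_star_wt hM hη (irr_isClassFunction χ)
  have h1 : Blocks.Star.star hM (wt p M c fun _ => (1 : ℂ)) f = f := by
    rw [star_star hM _ _ (irr_isClassFunction χ) hf]
    congr 2
    funext v; simp
  have hexp : f = fun g => ∑ ψ : Cfsg.IrrCharacter G,
      Cfsg.classInner f (ψ : G → ℂ) * (ψ : G → ℂ) g := by
    conv_lhs => rw [classFun_eq_sum hf]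
    funext g
    simp [Finset.sum_apply]
  set F : G → ℂ := ∑ ψ : Cfsg.IrrCharacter G,
    (if ψ ∈ B then Cfsg.classInner f (ψ : G → ℂ) else 0) • (ψ : G → ℂ) with hFdef
  have hfF : f = F := by
    rw [← h1]
    conv_lhs => rw [hexp]
    rw [star_sum_smul]
    funext g
    rw [hFdef, Finset.sum_apply]
    refine Finset.sum_congr rfl fun ψ _ => ?_
    rw [Pi.smul_apply, smul_eq_mul]
    by_cases hψ : ψ ∈ B
    · rw [star_one hM hmax hψ, if_pos hψ]
    · rw [star_one_notMem hM hmax hψ, if_neg hψ, mul_zero, zero_mul]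
  rw [hfF, hFdef, classInner_sum_left, Finset.sum_eq_zero]
  intro ψ _
  rw [classInner_smul_left, classInner_irr]
  rcases eq_or_ne ψ θ with rfl | hne
  · rw [if_neg hθ, zero_mul]
  · rw [if_neg hne, mul_zero]

theorem nb_one (hM : Cfsg.IsPModular p M) (hmax : Cfsg.IsMaximalBrauerPair p M B P c) :
    nb p M c 1 = Nat.card G := by
  rw [nb]
  refine Nat.card_congr (Equiv.subtypeUnivEquiv fun y => ⟨1, ?_, ?_⟩)
  · simp
  · exact cjE_eq_self (invBy_BI (eps_mem_BI hM hmax 1))
      (mem_CU_of_commute (by rw [Subgroup.coe_one]; exact Commute.one_left y))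

variable {hcyc : IsCyclic P} [NeZero (Nat.card P)]

/-- The data of the parts. -/
structure PartData (hM : Cfsg.IsPModular p M) (c : Set (Cfsg.IrrCharacter (Subgroup.centralizer (P : Set G))))
    (hcyc : IsCyclic P) (n : Cfsg.IrrCharacter G → ZMod (Nat.card P) → ℤ)
    (w : ZMod (Nat.card P) → G → ℂ) : Prop where
  th_eq : ∀ (χ : Cfsg.IrrCharacter G) (i : ZMod (Nat.card P)), i ≠ 0 →
    ∀ s ∈ regAt p (pt hcyc i : G),
      th (χ : G → ℂ) (pt hcyc i : G) (eps p M c (pt hcyc i)) s = fsum (n χ) i * w i s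
  norm : ∀ i, i ≠ 0 → (Nat.card P : ℂ) * ∑ s ∈ regAt p (pt hcyc i : G), w i s * conj (w i s) =
    (Nat.card (CU (pt hcyc i : G)) : ℂ)
  inv : ∀ (χ : Cfsg.IrrCharacter G), ∀ a ∈ mults c hcyc, ∀ i, i ≠ 0 →
    fsum (n χ) (a * i) = fsum (n χ) i

variable {n : Cfsg.IrrCharacter G → ZMod (Nat.card P) → ℤ} {w : ZMod (Nat.card P) → G → ℂ}
  {hM : Cfsg.IsPModular p M}

theorem PartData.pairing_eq [Fintype P] (hd : PartData hM c hcyc n w) (χ χ' : Cfsg.IrrCharacter G)
    {i : ZMod (Nat.card P)} (hi : i ≠ 0) :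
    pairing p (χ : G → ℂ) (χ' : G → ℂ) (pt hcyc i : G) (eps p M c (pt hcyc i)) =
      fsum (n χ) i * conj (fsum (n χ') i) * (Nat.card (CU (pt hcyc i : G)) : ℂ) /
        (Nat.card P : ℂ) := by
  rw [eq_div_iff natCard_ne_zero, ← hd.norm i hi, pairing,
    Finset.sum_congr rfl fun s hs => by rw [hd.th_eq χ i hi s hs, hd.th_eq χ' i hi s hs],
    Finset.mul_sum, Finset.mul_sum, Finset.sum_mul]
  exact Finset.sum_congr rfl fun s _ => by rw [map_mul]; ring

variable [Fintype G] [Fintype P]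

/-- The inner products of products, over the coordinates. -/
theorem PartData.inner_eq (hd : PartData hM c hcyc n w)
    (hmax : Cfsg.IsMaximalBrauerPair p M B P c) {η η' : P → ℂ} (hη : Stable p M c η)
    (hη' : Stable p M c η') (χ χ' : Cfsg.IrrCharacter G) :
    Cfsg.classInner (Blocks.Star.star hM (wt p M c η) (χ : G → ℂ))
        (Blocks.Star.star hM (wt p M c η') (χ' : G → ℂ)) =
      η 1 * conj (η' 1) *
          (pairing p (χ : G → ℂ) (χ' : G → ℂ) ((1 : P) : G) (eps p M c 1) / (Nat.card G : ℂ)) +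
        (((mults c hcyc).card : ℂ) * (Nat.card P : ℂ))⁻¹ *
          ∑ i ∈ Finset.univ.filter (· ≠ (0 : ZMod (Nat.card P))),
            η (pt hcyc i) * conj (η' (pt hcyc i)) * (fsum (n χ) i * conj (fsum (n χ') i)) := by
  classical
  rw [classInner_star_top hM hmax hη hη' (irr_isClassFunction χ) (irr_isClassFunction χ'),
    ← Fintype.sum_equiv ⟨pt hcyc, ix hcyc, fun i => ix_pt i, fun v => pt_ix v⟩
      (fun i => η (pt hcyc i) * conj (η' (pt hcyc i)) *
        (pairing p (χ : G → ℂ) (χ' : G → ℂ) (pt hcyc i : G) (eps p M c (pt hcyc i)) /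
          (nb p M c (pt hcyc i) : ℂ))) _ (fun _ => rfl),
    ← Finset.add_sum_erase _ _ (Finset.mem_univ 0), pt_zero, nb_one hM hmax, Finset.filter_ne',
    Finset.mul_sum]
  refine congrArg _ (Finset.sum_congr rfl fun i hi => ?_)
  rw [hd.pairing_eq χ χ' (Finset.ne_of_mem_erase hi), nb_pt hM hmax (Finset.ne_of_mem_erase hi),
    Nat.cast_mul]
  have : (Nat.card (CU (pt hcyc i : G)) : ℂ) ≠ 0 := natCard_ne_zero
  field_simp

/-- The inner products of the characters. -/
theorem PartData.irr_eq (hd : PartData hM c hcyc n w)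
    (hmax : Cfsg.IsMaximalBrauerPair p M B P c) {χ χ' : Cfsg.IrrCharacter G} (hχ : χ ∈ B)
    (hχ' : χ' ∈ B) [Decidable (χ = χ')] :
    (if χ = χ' then 1 else 0 : ℂ) = regSum p (χ : G → ℂ) (χ' : G → ℂ) / (Nat.card G : ℂ) +
      (((mults c hcyc).card : ℂ) * (Nat.card P : ℂ))⁻¹ *
        ∑ i ∈ Finset.univ.filter (· ≠ (0 : ZMod (Nat.card P))),
          fsum (n χ) i * conj (fsum (n χ') i) := by
  have h := hd.inner_eq hmax (stable_const 1) (stable_const 1) χ χ'
  rw [star_one hM hmax hχ, star_one hM hmax hχ', classInner_irr, pairing_one hM hmax hχ hχ'] at h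
  simp only [map_one, one_mul] at h
  rw [← h]
  split_ifs <;> rfl

variable (c hcyc) in
open scoped Classical in
/-- The indicator of an orbit. -/
noncomputable def ind (r : ZMod (Nat.card P)) (v : P) : ℂ :=
  if ∃ a ∈ mults c hcyc, ix hcyc v = a * r then 1 else 0

theorem stable_ind (hmax : Cfsg.IsMaximalBrauerPair p M B P c) (r : ZMod (Nat.card P))
    (hM : Cfsg.IsPModular p M) : Stable p M c (ind c hcyc r) := by
  refine stable_of_invariant hM hmax (comm_of_cyclic hcyc) fun u v t ht htv => ?_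
  obtain ⟨b, hb⟩ := exists_mult hcyc ht
  have hbS : b ∈ mults c hcyc := mem_mults.2 ⟨t, ht, hb⟩
  have h1 : ix hcyc v = b * ix hcyc u := pt_injective (hcyc := hcyc) (by
    rw [← hb, pt_ix, pt_ix, htv])
  obtain ⟨d, hd, hdb⟩ := (isFree_mults (hcyc := hcyc) hM hmax).exists_inv hbS
  have hmul : ∀ {a b}, a ∈ mults c hcyc → b ∈ mults c hcyc → a * b ∈ mults c hcyc :=
    fun ha hb => (isFree_mults (hcyc := hcyc) hM hmax).mul_mem ha hb
  unfold ind
  refine if_congr ⟨fun ⟨a, ha, h⟩ => ⟨b * a, hmul hbS ha, by rw [h1, h, mul_assoc]⟩,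
    fun ⟨a, ha, h⟩ => ⟨d * a, hmul hd ha, ?_⟩⟩ rfl rfl
  rw [mul_assoc, ← h, h1, ← mul_assoc, hdb, one_mul]

theorem ind_one (hmax : Cfsg.IsMaximalBrauerPair p M B P c) (hM : Cfsg.IsPModular p M)
    {r : ZMod (Nat.card P)} (hr : r ≠ 0) : ind c hcyc r 1 = 0 := by
  unfold ind
  rw [if_neg]
  rintro ⟨a, ha, h⟩
  rw [ix_one] at h
  exact hr (((isFree_mults (hcyc := hcyc) hM hmax).mul_eq_zero_iff ha).1 h.symm)

/-- Some character of the block has a part at each non-trivial element. -/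
theorem PartData.exists_ne (hd : PartData hM c hcyc n w)
    (hmax : Cfsg.IsMaximalBrauerPair p M B P c) {i : ZMod (Nat.card P)} (hi : i ≠ 0) :
    ∃ χ ∈ B, fsum (n χ) i ≠ 0 := by
  classical
  haveI := Fintype.ofFinite (Cfsg.IrrCharacter G)
  by_contra hcon
  push Not at hcon
  obtain ⟨g, hg, -, -⟩ := eps_spec hM hmax (pt hcyc i)
  have h1 := sum_pairing_top hM hmax (pt hcyc i)
  rw [lv_eq hM hmax hg, (CyclicSubpairs.isNilpotent_local hM hmax hcyc (zpowers_pt_ne_bot hi) hg).2,
    Nat.cast_one, mul_one, Finset.sum_eq_zero fun χ hχ => ?_] at h1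
  · exact (natCard_ne_zero : (Nat.card (CU (pt hcyc i : G)) : ℂ) ≠ 0) h1.symm
  · rw [hd.pairing_eq χ χ hi, hcon χ (Finset.mem_filter.1 hχ).2, zero_mul, zero_mul, zero_div]

variable {R : Finset (ZMod (Nat.card P))}

/-- The coefficients of the product with an indicator. -/
theorem PartData.inner_ind (hd : PartData hM c hcyc n w)
    (hmax : Cfsg.IsMaximalBrauerPair p M B P c) (hR : IsReps (mults c hcyc) R) {r : ZMod (Nat.card P)}
    (hr : r ∈ R) {η' : P → ℂ} (hη' : Stable p M c η') (χ χ' : Cfsg.IrrCharacter G) :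
    Cfsg.classInner (Blocks.Star.star hM (wt p M c (ind c hcyc r)) (χ : G → ℂ))
        (Blocks.Star.star hM (wt p M c η') (χ' : G → ℂ)) =
      conj (η' (pt hcyc r)) * (fsum (n χ) r * conj (fsum (n χ') r)) / (Nat.card P : ℂ) := by
  classical
  have hS := isFree_mults (hcyc := hcyc) hM hmax
  rw [hd.inner_eq hmax (stable_ind hmax r hM) hη', ind_one hmax hM (hR.ne_zero r hr), zero_mul,
    zero_mul, zero_add, ← sum_orbits hS hR, Finset.sum_eq_single_of_mem r hr fun r' hr' hne =>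
      Finset.sum_eq_zero fun a ha => ?_, Finset.sum_congr rfl (g := fun _ =>
      conj (η' (pt hcyc r)) * (fsum (n χ) r * conj (fsum (n χ') r))) fun a ha => ?_,
    Finset.sum_const, nsmul_eq_mul]
  · have h1 : ((mults c hcyc).card : ℂ) ≠ 0 :=
      Nat.cast_ne_zero.2 (Finset.card_ne_zero.2 ⟨1, hS.one_mem⟩)
    have h2 : (Nat.card P : ℂ) ≠ 0 := natCard_ne_zero
    field_simp
  · rw [ind, if_pos ⟨a, ha, ix_pt _⟩, one_mul, hd.inv χ a ha r (hR.ne_zero r hr),
      hd.inv χ' a ha r (hR.ne_zero r hr)]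
    congr 2
    obtain ⟨t, ht, hta⟩ := mem_mults.1 ha
    exact (hη' _ _ t (hta r).symm (cjE_eps hM hmax ht (hta r))).symm
  · rw [ind, if_neg, zero_mul, zero_mul]
    rintro ⟨b, hb, h⟩
    rw [ix_pt] at h
    obtain ⟨d, hd', hdb⟩ := hS.exists_inv hb
    refine hne (hR.sep _ hr' _ hr (d * a) (hS.mul_mem hd' ha) ?_)
    rw [mul_assoc, h, ← mul_assoc, hdb, one_mul]

/-- The columns at distinct orbits are orthogonal. -/
theorem PartData.orth (hd : PartData hM c hcyc n w)
    (hmax : Cfsg.IsMaximalBrauerPair p M B P c) (hR : IsReps (mults c hcyc) R)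
    [Fintype B] {r r' : ZMod (Nat.card P)} (hr : r ∈ R) (hr' : r' ∈ R) :
    ∑ θ : B, fsum (n θ) r * conj (fsum (n θ) r') = if r = r' then (Nat.card P : ℂ) else 0 := by
  classical
  haveI := Fintype.ofFinite (Cfsg.IrrCharacter G)
  obtain ⟨χ, hχ, hχ0⟩ := hd.exists_ne hmax (hR.ne_zero r hr)
  obtain ⟨χ', hχ', hχ'0⟩ := hd.exists_ne hmax (hR.ne_zero r' hr')
  have hq : (Nat.card P : ℂ) ≠ 0 := natCard_ne_zero
  set f := Blocks.Star.star hM (wt p M c (ind c hcyc r)) (χ : G → ℂ)
  set f' := Blocks.Star.star hM (wt p M c (ind c hcyc r')) (χ' : G → ℂ)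
  have hcoef : ∀ {r : ZMod (Nat.card P)}, r ∈ R → ∀ {χ θ : Cfsg.IrrCharacter G}, θ ∈ B →
      Cfsg.classInner (Blocks.Star.star hM (wt p M c (ind c hcyc r)) (χ : G → ℂ)) (θ : G → ℂ) =
        fsum (n χ) r * conj (fsum (n θ) r) / (Nat.card P : ℂ) := fun {r} hr {χ θ} hθ => by
    conv_lhs => arg 2; rw [← star_one hM hmax hθ]
    rw [hd.inner_ind hmax hR hr (stable_const 1), map_one, one_mul]
  have h1 := hd.inner_ind hmax hR hr (stable_ind (hcyc := hcyc) hmax r' hM) χ χ'
  have hind : conj (ind c hcyc r' (pt hcyc r)) = if r = r' then 1 else 0 := by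
    rw [ind]
    by_cases h : r = r'
    · subst h
      rw [if_pos rfl, if_pos ⟨1, (isFree_mults hM hmax).one_mem, by rw [ix_pt, one_mul]⟩, map_one]
    · rw [if_neg h, if_neg, map_zero]
      rintro ⟨a, ha, h'⟩
      rw [ix_pt] at h'
      exact h (hR.sep _ hr' _ hr a ha h'.symm).symm
  rw [hind, classFun_eq_sum (isClassFunction_star_wt hM (stable_ind hmax r hM)
    (irr_isClassFunction χ)), classInner_sum_left, Finset.sum_congr rfl fun θ _ => by
      rw [classInner_smul_left],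
    ← Finset.sum_subset (Finset.subset_univ (Finset.univ.filter (· ∈ B))) fun θ _ hθ => by
      rw [classInner_star_notMem' hM hmax (stable_ind hmax r hM) (by simpa using hθ), zero_mul],
    Finset.sum_congr rfl (g := fun θ => fsum (n χ) r * conj (fsum (n χ') r') /
      ((Nat.card P : ℂ) * Nat.card P) * conj (fsum (n θ) r * conj (fsum (n θ) r'))) fun θ hθ => by
      rw [hcoef hr (Finset.mem_filter.1 hθ).2, classInner_conj_symm,
        hcoef hr' (Finset.mem_filter.1 hθ).2]
      simp only [map_div₀, map_mul, Complex.conj_conj, Complex.conj_natCast]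
      ring,
    ← Finset.mul_sum, ← map_sum, Finset.sum_subtype (Finset.univ.filter (· ∈ B)) (p := (· ∈ B))
      (fun θ => by simp)] at h1
  have hne : fsum (n χ) r * conj (fsum (n χ') r') ≠ 0 :=
    mul_ne_zero hχ0 (by rw [Ne, starRingEnd_apply, star_eq_zero]; exact hχ'0)
  apply star_injective (R := ℂ)
  rw [← starRingEnd_apply, ← starRingEnd_apply]
  by_cases h : r = r'
  · subst h
    rw [if_pos rfl, Complex.conj_natCast]
    rw [if_pos rfl, one_mul] at h1
    field_simp at h1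
    exact mul_left_cancel₀ (right_ne_zero_of_mul hne) h1
  · rw [if_neg h, map_zero]
    rw [if_neg h, zero_mul, zero_div] at h1
    exact (mul_eq_zero.1 h1).resolve_left (div_ne_zero hne (mul_ne_zero hq hq))

/-- The columns are orthogonal to the values at regular elements. -/
theorem PartData.regular (hd : PartData hM c hcyc n w)
    (hmax : Cfsg.IsMaximalBrauerPair p M B P c) (hR : IsReps (mults c hcyc) R)
    [Fintype B] {r : ZMod (Nat.card P)} (hr : r ∈ R) {s : G} (hs : ¬ p ∣ orderOf s) :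
    ∑ θ : B, conj (fsum (n θ) r) * ((θ : Cfsg.IrrCharacter G) : G → ℂ) s = 0 := by
  classical
  haveI := Fintype.ofFinite (Cfsg.IrrCharacter G)
  obtain ⟨χ, hχ, hχ0⟩ := hd.exists_ne hmax (hR.ne_zero r hr)
  have h0 : Blocks.Star.star hM (wt p M c (ind c hcyc r)) (χ : G → ℂ) s = 0 := by
    rw [star_regular hM hmax (stable_ind hmax r hM) hχ hs, ind_one hmax hM (hR.ne_zero r hr),
      zero_mul]
  rw [classFun_eq_sum (isClassFunction_star_wt hM (stable_ind hmax r hM) (irr_isClassFunction χ)),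
    Finset.sum_apply,
    ← Finset.sum_subset (Finset.subset_univ (Finset.univ.filter (· ∈ B))) fun θ _ hθ => by
      rw [Pi.smul_apply, classInner_star_notMem' hM hmax (stable_ind hmax r hM)
        (by simpa using hθ), zero_smul],
    Finset.sum_congr rfl (g := fun θ => fsum (n χ) r / (Nat.card P : ℂ) *
      (conj (fsum (n θ) r) * (θ : G → ℂ) s)) fun θ hθ => by
      rw [Pi.smul_apply, smul_eq_mul]
      conv_lhs => arg 1; arg 2; rw [← star_one hM hmax (Finset.mem_filter.1 hθ).2]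
      rw [hd.inner_ind hmax hR hr (stable_const 1), map_one, one_mul]
      ring,
    ← Finset.mul_sum, Finset.sum_subtype (Finset.univ.filter (· ∈ B)) (p := (· ∈ B))
      (fun θ => by simp)] at h0
  exact (mul_eq_zero.1 h0).resolve_left (div_ne_zero hχ0 natCard_ne_zero)

/-- A combination without parts at the non-trivial elements vanishes at the singular elements. -/
theorem PartData.vanish (hd : PartData hM c hcyc n w)
    (hmax : Cfsg.IsMaximalBrauerPair p M B P c) [Fintype B] (coef : B → ℂ)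
    (h0 : ∀ i, i ≠ 0 → ∑ θ : B, coef θ * fsum (n θ) i = 0) {g : G} (hg : p ∣ orderOf g) :
    ∑ θ : B, coef θ * ((θ : Cfsg.IrrCharacter G) : G → ℂ) g = 0 := by
  classical
  obtain ⟨s, hgs, hc, hk, hs⟩ := isPPart_ppt hM g
  set u := ppt hM g
  have hu : u ≠ 1 := fun h => hs (by rw [h, one_mul] at hgs; rwa [hgs])
  have hsr : s ∈ regAt p u := mem_regAt.2 ⟨hc, hs⟩
  rw [← hgs, Finset.sum_congr rfl fun θ _ => by rw [eq_sum_th hM ((θ : Cfsg.IrrCharacter G) : G → ℂ) u s, Finset.mul_sum],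
    Finset.sum_comm]
  refine Finset.sum_eq_zero fun ε hε => ?_
  obtain ⟨f, hf, rfl⟩ := mem_BI.1 hε
  by_cases h : Cfsg.IsBrauerPairOf p M B (Subgroup.zpowers u) f
  · obtain ⟨v, x, hv, he⟩ := (witness_iff hM hmax hk hf).2 h
    have hv0 : ix hcyc v ≠ 0 := fun h' => hu (by
      have hv1 : v = 1 := by rw [← pt_ix (hcyc := hcyc) v, h', pt_zero]
      rw [hv1, Subgroup.coe_one] at hv
      calc u = x⁻¹ * (x * u * x⁻¹) * x := by group
        _ = 1 := by rw [← hv]; group)
    have hs' : x * s * x⁻¹ ∈ regAt p (pt hcyc (ix hcyc v) : G) := by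
      rw [pt_ix, hv]
      refine mem_regAt.2 ⟨hc.map (MulAut.conj x).toMonoidHom, ?_⟩
      rwa [show x * s * x⁻¹ = MulAut.conj x s from rfl, (MulAut.conj x).orderOf_eq]
    rw [Finset.sum_congr rfl (g := fun θ : B =>
      w (ix hcyc v) (x * s * x⁻¹) * (coef θ * fsum (n θ) (ix hcyc v))) fun θ _ => ?_,
      ← Finset.mul_sum, h0 _ hv0, mul_zero]
    rw [← th_conj (irr_isClassFunction (θ : Cfsg.IrrCharacter G)) x, he, ← hv]
    have h2 := hd.th_eq θ _ hv0 _ hs'
    rw [pt_ix] at h2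
    rw [h2]
    ring
  · exact Finset.sum_eq_zero fun θ _ => by
      rw [th_eq_zero hM hmax.1.2.1 θ.2 hk hf h hsr, mul_zero]

end Cfsg.Agent.BlockCharsA.CyclicDefect
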