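import Mathlib
import Cfsg.Agent.BlockCharsA.Contrib
import Cfsg.Agent.BlockCharsA.CyclicDefect.LowerBound
import Cfsg.Agent.BlockCharsA.CyclicDefect.Orth

/-!
# The characters of a block with cyclic defect group

The rank is the inertial index, all heights are zero, and up to signs the exceptional characters
and the others satisfy one relation on the regular elements.
-/

set_option linter.style.haveILetI false
set_option linter.unusedSectionVars false

namespace Cfsg.Agent.BlockCharsA.CyclicDefect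

open MonoidAlgebra Cfsg.Agent.Blocks Cfsg.Agent.Characters Cfsg.Agent.Blocks.Star
open Cfsg.Agent.BlockCharsA.BrauerPairs Cfsg.Agent.BlockCharsA.PairLocal
open Cfsg.Agent.BlockCharsA.PairConj Cfsg.Agent.BlockCharsA.PairMax
open Cfsg.Agent.CharTheory.CyclicCofactor
open scoped ComplexConjugate

universe u

variable {G : Type u} [Group G] [Finite G] {p : ℕ} {M : Ideal Cfsg.AlgInt}
  {B : Set (Cfsg.IrrCharacter G)} {P : Subgroup G}
  {c : Set (Cfsg.IrrCharacter (Subgroup.centralizer (P : Set G)))}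

theorem pow_dvd_sum_of_vanish (hM : Cfsg.IsPModular p M) {ι : Type*} [Fintype ι]
    (θ : ι → Cfsg.IrrCharacter G) (k : ι → ℤ)
    (h : ∀ g : G, p ∣ orderOf g → ∑ i, (k i : ℂ) * (θ i : G → ℂ) g = 0) :
    ((p ^ (Nat.card G).factorization p : ℕ) : ℤ) ∣
      ∑ i, k i * (Cfsg.charDegree (θ i : G → ℂ) : ℤ) := by
  classical
  haveI := fact_prime_of_pm hM
  obtain ⟨S⟩ : Nonempty (Sylow p G) := inferInstance
  haveI := Fintype.ofFinite (S : Subgroup G)
  have hint : ∀ i, ∃ z : ℤ, Cfsg.classInner (fun x : (S : Subgroup G) => (θ i : G → ℂ) x)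
      (fun x => (1 : (S : Subgroup G) →* ℂ) x) = (z : ℂ) := fun i =>
    classInner_gen_int
      (isGen_of_isCharacter (isCharacter_restrict (S : Subgroup G) (irr_isCharacter (θ i))))
      (isGen_of_isCharacter (isCharacter_of_isIrr (isIrrCharacter_monoidHom _)))
  choose z hz using hint
  refine ⟨∑ i, k i * z i, ?_⟩
  apply Int.cast_injective (α := ℂ)
  rw [← Sylow.card_eq_multiplicity S]
  push_cast
  simp only [← hz, classInner_def, MonoidHom.one_apply, map_one, mul_one, Finset.mul_sum,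
    charDegree_cast]
  rw [Finset.sum_comm, Finset.sum_eq_single (1 : (S : Subgroup G))]
  · refine Finset.sum_congr rfl fun i _ => ?_
    have hS : (Nat.card (S : Subgroup G) : ℂ) ≠ 0 := natCard_ne_zero
    show _ = (Nat.card (S : Subgroup G) : ℂ) * _
    rw [Subgroup.coe_one]
    field_simp
  · intro x _ hx
    obtain ⟨m, hm⟩ := IsPGroup.iff_orderOf.1 S.isPGroup' x
    have hp : p ∣ orderOf (x : G) := by
      rw [Subgroup.orderOf_coe, hm]
      refine dvd_pow_self p fun h0 => hx ?_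
      rw [h0, pow_zero, orderOf_eq_one_iff] at hm
      exact hm
    calc _ = (Nat.card (S : Subgroup G) : ℂ) * (Nat.card (S : Subgroup G) : ℂ)⁻¹ *
          ∑ i, (k i : ℂ) * (θ i : G → ℂ) x := by
          rw [Finset.mul_sum]
          exact Finset.sum_congr rfl fun i _ => by ring
      _ = 0 := by rw [h _ hp, mul_zero]
  · exact fun h => absurd (Finset.mem_univ _) h

variable {hcyc : IsCyclic P} [NeZero (Nat.card P)]

/-- The number of characters of the block. -/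
theorem card_eq [Fintype G] [Fintype P] (hM : Cfsg.IsPModular p M)
    (hmax : Cfsg.IsMaximalBrauerPair p M B P c) {R : Finset (ZMod (Nat.card P))}
    (hR : IsReps (mults c hcyc) R) : Nat.card B = Cfsg.blockRank p B + R.card := by
  classical
  have hab := comm_of_cyclic hcyc
  have hS := isFree_mults (hcyc := hcyc) hM hmax
  have horb : ∀ i, i ≠ 0 →
      Nat.card (orbS p M P c (pt hcyc i : G)) = (mults c hcyc).card := fun i hi =>
    Nat.eq_of_mul_eq_mul_right Nat.card_pos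
      ((Blocks.Star.nb_eq hM hmax hab _).symm.trans (nb_pt hM hmax hi))
  have h1 : Nat.card (orbS p M P c ((1 : P) : G)) = 1 := by
    rw [Nat.card_eq_one_iff_unique]
    refine ⟨⟨fun x y => ?_⟩, ⟨⟨_, (orbS_nonempty ((1 : P) : G)).choose_spec⟩⟩⟩
    obtain ⟨t, _, hx⟩ := x.2
    obtain ⟨t', _, hy⟩ := y.2
    exact Subtype.ext (by rw [hx, hy]; simp)
  have h := card_eq_sum hM hmax hab
  rw [← Fintype.sum_equiv ⟨pt hcyc, ix hcyc, fun i => ix_pt i, fun v => pt_ix v⟩
      (fun i => (lv p M c (Subgroup.zpowers (pt hcyc i : G)) : ℂ) /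
        (Nat.card (orbS p M P c (pt hcyc i : G)) : ℂ)) _ (fun _ => rfl),
    ← Finset.add_sum_erase _ _ (Finset.mem_univ 0), pt_zero, lv_one hM hmax, h1, Nat.cast_one,
    div_one, ← Finset.filter_ne', ← sum_orbits hS hR,
    Finset.sum_congr rfl (g := fun _ => (1 : ℂ)) fun r hr => ?_, Finset.sum_const, nsmul_one] at h
  · exact_mod_cast h
  · have hr0 := hR.ne_zero r hr
    have hne : ((mults c hcyc).card : ℂ) ≠ 0 :=
      Nat.cast_ne_zero.2 (Finset.card_ne_zero.2 ⟨1, hS.one_mem⟩)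
    rw [Finset.sum_congr rfl (g := fun _ => 1 / ((mults c hcyc).card : ℂ)) fun a ha => ?_,
      Finset.sum_const, nsmul_eq_mul, mul_one_div, div_self hne]
    have hai : a * r ≠ 0 := fun h => hr0 ((hS.mul_eq_zero_iff ha).1 h)
    obtain ⟨g, hg, -, -⟩ := eps_spec hM hmax (pt hcyc (a * r))
    rw [lv_eq hM hmax hg, (CyclicSubpairs.isNilpotent_local hM hmax hcyc (zpowers_pt_ne_bot hai) hg).2,
      Nat.cast_one, horb _ hai]

set_option maxHeartbeats 1000000 in
/-- The structure of a block with cyclic defect group. -/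
theorem structure_theorem (hM : Cfsg.IsPModular p M) (hmax : Cfsg.IsMaximalBrauerPair p M B P c)
    (hcyc : IsCyclic P) (hP1 : P ≠ ⊥) {e : ℕ}
    (he : (Subgroup.centralizer (P : Set G)).relIndex (stab P c) = e) :
    e ∣ p - 1 ∧ Cfsg.blockRank p B = e ∧ (∀ χ ∈ B, Cfsg.blockHeight p B (χ : G → ℂ) = 0) ∧
      ∃ X Y : Set (Cfsg.IrrCharacter G), B = X ∪ Y ∧ Disjoint X Y ∧ Nat.card X = e ∧
        Nat.card Y = (Nat.card P - 1) / e ∧
        (∀ ψ ∈ Y, ∀ ψ' ∈ Y, ∀ g : G, ¬ p ∣ orderOf g → (ψ : G → ℂ) g = (ψ' : G → ℂ) g) ∧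
        ∃ (δ : Cfsg.IrrCharacter G → ℤ) (δ₀ : ℤ), (∀ χ ∈ X, δ χ = 1 ∨ δ χ = -1) ∧
          (δ₀ = 1 ∨ δ₀ = -1) ∧
          (∀ ψ ∈ Y, ∀ g : G, ¬ p ∣ orderOf g →
            (δ₀ : ℂ) * (ψ : G → ℂ) g + ∑ᶠ χ ∈ X, (δ χ : ℂ) * (χ : G → ℂ) g = 0) ∧
          (∀ χ ∈ X, ∀ χ' ∈ X, δ χ * (Cfsg.charDegree (χ : G → ℂ) : ℤ) ≡
            δ χ' * (Cfsg.charDegree (χ' : G → ℂ) : ℤ) [ZMOD (Nat.card P : ℤ)]) ∧
          (∀ ψ ∈ Y, ∀ χ ∈ X, (Cfsg.charDegree (ψ : G → ℂ) : ℤ) ≡
            -((e : ℤ) * δ₀ * δ χ * (Cfsg.charDegree (χ : G → ℂ) : ℤ)) [ZMOD (Nat.card P : ℤ)]) := by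
  classical
  haveI := fact_prime_of_pm hM
  haveI := Fintype.ofFinite G
  haveI := Fintype.ofFinite P
  haveI := Fintype.ofFinite (Cfsg.IrrCharacter G)
  haveI := Fintype.ofFinite B
  haveI : NeZero (Nat.card P) := ⟨Nat.card_pos.ne'⟩
  obtain ⟨hdvd, hle⟩ := inertial_le_blockRank hM hmax hcyc hP1
  rw [he] at hdvd hle
  have hS := isFree_mults (hcyc := hcyc) hM hmax
  have hSe : (mults c hcyc).card = e := (card_mults hM hmax hP1).trans he
  obtain ⟨n, w, h1, h2, h3⟩ := exists_parts hM hmax hcyc hP1 (hSe.symm ▸ hdvd)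
  have hd : PartData hM c hcyc n w := ⟨h1, h2, h3⟩
  obtain ⟨R, hR⟩ := exists_reps hS
  have hq : 1 < Nat.card P :=
    Finite.one_lt_card_iff_nontrivial.2 ((Subgroup.nontrivial_iff_ne_bot P).2 hP1)
  have hB : Cfsg.IsPBlock M B := hmax.1.2.1
  have hdef : Nat.card P = p ^ Cfsg.blockDefect p B :=
    card_defectGroup hM hB (isDefectGroup_of_maximal hM hmax)
  have hcard : Fintype.card B = Cfsg.blockRank p B + R.card := by
    rw [← Nat.card_eq_fintype_card, card_eq hM hmax hR]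
  obtain ⟨hl, δ₀, Ψ, cc, hδ, hinj, hc0, hc1, hDY, hDX, hrel⟩ :=
    FourierTable.exists_exceptional hS hR hq (ι := B) (fun θ => n θ) (fun θ i => fsum (n θ) i)
      (fun θ x _ => rfl) (fun θ b hb x hx => hd.inv θ b hb x hx)
      (fun r hr r' hr' => hd.orth hmax hR hr hr')
      (fun θ => by
        obtain ⟨s, hs, hne⟩ := exists_th_ne_zero_center hM hmax (v := pt hcyc 1)
          (Subgroup.mem_centralizer_iff.2 fun y hy => comm_of_cyclic hcyc y hy _ (pt hcyc 1).2) θ.2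
        haveI : Fact (1 < Nat.card P) := ⟨hq⟩
        refine ⟨1, one_ne_zero, fun h0 => hne ?_⟩
        rw [hd.th_eq θ 1 one_ne_zero s hs, h0, zero_mul])
      (fun θ => (Cfsg.charDegree ((θ : Cfsg.IrrCharacter G) : G → ℂ) : ℤ))
      (fun θ => Int.natCast_pos.2 (charDegree_pos _))
      (fun r hr => by
        simp only [Int.cast_natCast, charDegree_cast]
        exact hd.regular hmax hR hr (by rw [orderOf_one, Nat.dvd_one]; exact hM.1.ne_one))
      hcard (hSe.symm ▸ hle)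
  rw [hSe] at hl
  set Y : Set (Cfsg.IrrCharacter G) := Set.range fun t => ((Ψ t : B) : Cfsg.IrrCharacter G) with hY
  set X : Set (Cfsg.IrrCharacter G) := B \ Y with hX
  have hYB : Y ⊆ B := by
    rintro _ ⟨t, rfl⟩
    exact (Ψ t).2
  have hnotY : ∀ θ : B, (θ : Cfsg.IrrCharacter G) ∉ Y → ∀ t, θ ≠ Ψ t := fun θ h t e =>
    h ⟨t, by rw [e]⟩
  have hcardR : R.card * e + 1 = Nat.card P := hSe ▸ card_reps hS hR
  have hYcard : Nat.card Y = R.card := by
    rw [hY, Nat.card_range_of_injective (fun a b h => hinj (Subtype.ext h)),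
      Nat.card_eq_fintype_card, Fintype.card_coe]
  have hXcard : Nat.card X = e := by
    rw [Nat.card_coe_set_eq, hX, Set.ncard_sdiff hYB (Set.toFinite _), ← Nat.card_coe_set_eq,
      ← Nat.card_coe_set_eq, hYcard, Nat.card_eq_fintype_card, hcard, hl]
    omega
  have he0 : 0 < e := hSe ▸ Finset.card_pos.2 ⟨1, hS.one_mem⟩
  have hδ2 : δ₀ * δ₀ = 1 := by rcases hδ with h | h <;> rw [h] <;> rfl
  have hR0 : 0 < R.card := by
    by_contra h0
    rw [Nat.le_zero.1 (not_lt.1 h0), zero_mul] at hcardR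
    omega
  -- regular relation
  have hrel' : ∀ (t : R) (g : G), ¬ p ∣ orderOf g →
      (δ₀ : ℂ) * ((Ψ t : B) : Cfsg.IrrCharacter G).1 g +
        ∑ θ : B, (cc θ : ℂ) * ((θ : Cfsg.IrrCharacter G) : G → ℂ) g = 0 := fun t g hg =>
    hrel (fun θ => ((θ : Cfsg.IrrCharacter G) : G → ℂ) g)
      (fun r hr => hd.regular hmax hR hr hg) t
  let δ : Cfsg.IrrCharacter G → ℤ := fun χ => if h : χ ∈ B then cc ⟨χ, h⟩ else 1
  have hδB : ∀ θ : B, δ θ = cc θ := fun θ => dif_pos θ.2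
  -- the heights
  have hcontrib : ∀ θ : B, (θ : Cfsg.IrrCharacter G) ∉ Y → ∀ t,
      Contrib.contrib p B (θ : Cfsg.IrrCharacter G) (Ψ t : B) = -((cc θ * δ₀ : ℤ) : ℂ) := by
    intro θ hθ t
    have h := hd.irr_eq hmax θ.2 (Ψ t).2
    rw [if_neg (fun e => hnotY θ hθ t (Subtype.ext e)),
      Finset.sum_congr rfl fun i hi => by
        rw [hDX θ (hnotY θ hθ) i (Finset.mem_filter.1 hi).2, hDY t i (Finset.mem_filter.1 hi).2,
          map_mul, map_intCast, neg_mul, ← mul_assoc, ← neg_mul],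
      ← Finset.mul_sum, FourierTable.sum_nonzero_orb hS hR t.2, hSe] at h
    have he' : (e : ℂ) ≠ 0 := Nat.cast_ne_zero.2 he0.ne'
    have hq' : (Nat.card P : ℂ) ≠ 0 := natCard_ne_zero
    have hG : (Nat.card G : ℂ) ≠ 0 := natCard_ne_zero
    rw [Contrib.contrib, ← hdef]
    push_cast
    field_simp at h ⊢
    linear_combination -h
  obtain ⟨z, hz, hzs, hzdvd, -⟩ := Contrib.exists_matrix hM hB
  have hheights : ∀ θ : B, (θ : Cfsg.IrrCharacter G) ∉ Y → ∀ t,
      Cfsg.blockHeight p B ((θ : Cfsg.IrrCharacter G) : G → ℂ) = 0 ∧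
        Cfsg.blockHeight p B (((Ψ t : B) : Cfsg.IrrCharacter G) : G → ℂ) = 0 := by
    intro θ hθ t
    have h := hcontrib θ hθ t
    rw [hz _ θ.2 _ (Ψ t).2, ← Int.cast_neg, Int.cast_inj] at h
    have hu : IsUnit (z θ (Ψ t)) := by
      rw [h]
      rcases hc1 θ (hnotY θ hθ) with h' | h' <;> rcases hδ with h'' | h'' <;> simp [h', h'']
    have key : ∀ {k : ℕ}, (p : ℤ) ^ k ∣ z θ (Ψ t) → k = 0 := fun {k} hk => by
      by_contra hk0
      exact (Nat.prime_iff_prime_int.1 hM.1).not_isUnit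
        (isUnit_of_dvd_unit ((dvd_pow_self (p : ℤ) hk0).trans hk) hu)
    refine ⟨key ?_, key (hzdvd _ θ.2 _ (Ψ t).2)⟩
    have := hzdvd _ (Ψ t).2 _ θ.2
    rwa [hzs _ θ.2 _ (Ψ t).2] at this
  obtain ⟨⟨t₀, ht₀⟩⟩ : Nonempty R := (Finset.card_pos.1 hR0).to_subtype
  obtain ⟨χX, hχX⟩ : X.Nonempty := by
    rw [← Set.ncard_pos (Set.toFinite _), ← Nat.card_coe_set_eq, hXcard]
    exact he0
  -- degrees
  have hvan : ∀ k : B → ℤ, (∀ i, i ≠ 0 → ∑ θ : B, (k θ : ℂ) * fsum (n θ) i = 0) →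
      (Nat.card P : ℤ) ∣ ∑ θ : B, k θ *
        (Cfsg.charDegree ((θ : Cfsg.IrrCharacter G) : G → ℂ) : ℤ) := fun k hk => by
    refine dvd_trans ?_ (pow_dvd_sum_of_vanish hM (fun θ : B => (θ : Cfsg.IrrCharacter G)) k
      fun g hg => hd.vanish hmax (fun θ => (k θ : ℂ)) hk hg)
    rw [hdef]
    exact Int.natCast_dvd_natCast.2 (pow_dvd_pow p (blockDefect_le p B))
  have hsumite : ∀ (a : B) (f : B → ℂ), ∑ θ, (if θ = a then (1 : ℂ) else 0) * f θ = f a :=
    fun a f => by simp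
  refine ⟨hdvd, hl, fun χ hχ => ?_, X, Y, ?_, ?_, hXcard, ?_, ?_, δ, δ₀, fun χ hχ => ?_, hδ,
    fun ψ hψ g hg => ?_, fun χ hχ χ' hχ' => ?_, fun ψ hψ χ hχ => ?_⟩
  · by_cases hχY : χ ∈ Y
    · obtain ⟨t, rfl⟩ := hχY
      exact (hheights ⟨χX, hχX.1⟩ hχX.2 t).2
    · exact (hheights ⟨χ, hχ⟩ hχY ⟨t₀, ht₀⟩).1
  · rw [hX, Set.sdiff_union_self, Set.union_eq_left.2 hYB]
  · exact Set.disjoint_sdiff_left
  · rw [hYcard, show Nat.card P - 1 = R.card * e by omega, Nat.mul_div_cancel _ he0]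
  · rintro _ ⟨t, rfl⟩ _ ⟨t', rfl⟩ g hg
    have ha := hrel' t g hg
    have hb := hrel' t' g hg
    have hne : (δ₀ : ℂ) ≠ 0 := by rcases hδ with h | h <;> simp [h]
    exact mul_left_cancel₀ hne (by linear_combination ha - hb)
  · have h := hc1 ⟨χ, hχ.1⟩ (hnotY _ hχ.2)
    rwa [← hδB ⟨χ, hχ.1⟩] at h
  · obtain ⟨t, rfl⟩ := hψ
    rw [← hrel' t g hg]
    congr 1
    rw [finsum_mem_eq_toFinset_sum, ← Finset.sum_subset (s₁ := Finset.univ.filter
        fun θ : B => (θ : Cfsg.IrrCharacter G) ∉ Y) (Finset.subset_univ _) fun θ _ hθ => ?_]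
    · refine Finset.sum_bij (fun χ hχ => (⟨χ, ((Set.mem_toFinset).1 hχ).1⟩ : B))
        (fun χ hχ => Finset.mem_filter.2 ⟨Finset.mem_univ _, (Set.mem_toFinset.1 hχ).2⟩)
        (fun _ _ _ _ h => congrArg Subtype.val h) (fun θ hθ => ⟨θ, Set.mem_toFinset.2
          ⟨θ.2, (Finset.mem_filter.1 hθ).2⟩, rfl⟩) fun χ hχ => ?_
      rw [← hδB ⟨χ, ((Set.mem_toFinset).1 hχ).1⟩]
    · obtain ⟨s, hs⟩ : (θ : Cfsg.IrrCharacter G) ∈ Y := by simpa using hθ
      rw [← Subtype.ext hs, hc0, Int.cast_zero, zero_mul]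
  · set a : B := ⟨χ, hχ.1⟩
    set b : B := ⟨χ', hχ'.1⟩
    have hda : cc a * cc a = 1 := by rcases hc1 a (hnotY a hχ.2) with h | h <;> rw [h] <;> rfl
    have hdb : cc b * cc b = 1 := by rcases hc1 b (hnotY b hχ'.2) with h | h <;> rw [h] <;> rfl
    have h := hvan (fun θ => cc a * (if θ = a then 1 else 0) - cc b * (if θ = b then 1 else 0))
      fun i hi => by
        push_cast
        simp only [sub_mul, Finset.sum_sub_distrib, mul_assoc, ← Finset.mul_sum, hsumite]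
        rw [hDX a (hnotY a hχ.2) i hi, hDX b (hnotY b hχ'.2) i hi, mul_neg, mul_neg,
          ← Int.cast_mul, ← Int.cast_mul, hda, hdb, sub_self]
    simp only [sub_mul, Finset.sum_sub_distrib, mul_assoc, ← Finset.mul_sum, ite_mul, one_mul,
      zero_mul, Finset.sum_ite_eq', Finset.mem_univ, if_true] at h
    rw [hδB a, hδB b]
    exact (Int.modEq_iff_dvd.2 h).symm
  · obtain ⟨t, rfl⟩ := hψ
    set a : B := ⟨χ, hχ.1⟩
    have hda : cc a * cc a = 1 := by rcases hc1 a (hnotY a hχ.2) with h | h <;> rw [h] <;> rfl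
    have h := hvan (fun θ => (∑ s : R, if θ = Ψ s then 1 else 0) -
        δ₀ * cc a * (if θ = a then 1 else 0)) fun i hi => by
      push_cast
      simp only [sub_mul, Finset.sum_sub_distrib, Finset.sum_mul, mul_assoc, ← Finset.mul_sum,
        hsumite]
      rw [Finset.sum_comm, Finset.sum_congr rfl fun s _ => by rw [hsumite, hDY s i hi],
        ← Finset.mul_sum, Finset.sum_coe_sort R fun s => FourierTable.orb (mults c hcyc) s i,
        FourierTable.sum_orb hS hR hi, hDX a (hnotY a hχ.2) i hi, mul_neg (cc a : ℂ),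
        ← Int.cast_mul, hda]
      push_cast
      ring
    have hdeg : ∀ s, (Cfsg.charDegree (((Ψ s : B) : Cfsg.IrrCharacter G) : G → ℂ) : ℤ) =
        (Cfsg.charDegree (((Ψ t : B) : Cfsg.IrrCharacter G) : G → ℂ) : ℤ) := fun s => by
      apply Int.cast_injective (α := ℂ)
      simp only [Int.cast_natCast, charDegree_cast]
      have h1' : ¬ p ∣ orderOf (1 : G) := by rw [orderOf_one, Nat.dvd_one]; exact hM.1.ne_one
      have ha := hrel' s 1 h1'
      have hb := hrel' t 1 h1'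
      have hne : (δ₀ : ℂ) ≠ 0 := by rcases hδ with h' | h' <;> simp [h']
      exact mul_left_cancel₀ hne (by linear_combination ha - hb)
    simp only [sub_mul, Finset.sum_sub_distrib, Finset.sum_mul, mul_assoc, ← Finset.mul_sum,
      ite_mul, one_mul, zero_mul, Finset.sum_ite_eq', Finset.mem_univ, if_true] at h
    rw [Finset.sum_comm] at h
    simp only [Finset.sum_ite_eq', Finset.mem_univ, if_true, hdeg, Finset.sum_const,
      Finset.card_univ, Fintype.card_coe, nsmul_eq_mul] at h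
    rw [Int.modEq_iff_dvd]
    obtain ⟨k, hk⟩ := h
    refine ⟨(e : ℤ) * k - (Cfsg.charDegree (((Ψ t : B) : Cfsg.IrrCharacter G) : G → ℂ) : ℤ), ?_⟩
    have hcR : ((R.card : ℤ) * e + 1) = (Nat.card P : ℤ) := by exact_mod_cast hcardR
    rw [hδB a]
    simp only [a] at hk ⊢
    linear_combination (e : ℤ) * hk -
      (Cfsg.charDegree (((Ψ t : B) : Cfsg.IrrCharacter G) : G → ℂ) : ℤ) * hcR

end Cfsg.Agent.BlockCharsA.CyclicDefect
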