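import Mathlib
import Cfsg.Agent.Lib.Blocks.Star.PerfectCriterion
import Cfsg.Agent.BlockCharsA.CyclicDefect.Main
import Cfsg.Agent.BlockCharsA.CyclicDefect.Isometry

/-!
# The exceptional table of a block with cyclic defect group

The multipliers of the inertial group are the roots of unity of their number, and the values of
the block at the singular elements are combinations of the orbit sums with local coefficients.
-/

set_option linter.style.haveILetI false
set_option linter.unusedSectionVars false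

namespace Cfsg.Agent.BlockCharsA.CyclicDefect

open Cfsg.Agent.Blocks Cfsg.Agent.Characters Cfsg.Agent.Blocks.Star
open Cfsg.Agent.BlockCharsA.BrauerPairs Cfsg.Agent.BlockCharsA.PairLocal
open Cfsg.Agent.CharTheory.CyclicCofactor
open scoped ComplexConjugate

universe u

/-- The roots of unity of order dividing `e` among the residues. -/
noncomputable def canon (q e : ℕ) [NeZero q] : Finset (ZMod q) :=
  haveI := Classical.decEq (ZMod q)
  Finset.univ.filter fun a => a ^ e = 1

theorem pow_card_of_isFree {q : ℕ} [NeZero q] {S : Finset (ZMod q)} (hS : IsFree S) {a : ZMod q}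
    (ha : a ∈ S) : a ^ S.card = 1 := by
  classical
  obtain ⟨d, hd, hda⟩ := hS.exists_inv ha
  have hmap : ∏ b ∈ S, a * b = ∏ b ∈ S, b :=
    Finset.prod_bij' (fun b _ => a * b) (fun b _ => d * b) (fun b hb => hS.mul_mem ha hb)
      (fun b hb => hS.mul_mem hd hb) (fun b _ => by rw [← mul_assoc, hda, one_mul])
      (fun b _ => by rw [← mul_assoc, mul_comm a d, hda, one_mul]) fun _ _ => rfl
  have hu : IsUnit (∏ b ∈ S, b) := IsUnit.prod_iff.2 fun b hb => by
    obtain ⟨d', -, hd'b⟩ := hS.exists_inv hb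
    exact IsUnit.of_mul_eq_one d' (by rw [mul_comm, hd'b])
  rw [Finset.prod_mul_distrib, Finset.prod_const] at hmap
  exact hu.mul_right_cancel (hmap.trans (one_mul _).symm)

theorem card_canon_le {p q e : ℕ} [hp : Fact p.Prime] [NeZero q] {k : ℕ} (hq : q = p ^ k)
    (hk : k ≠ 0) (he : e ∣ p - 1) : (canon q e).card ≤ e := by
  classical
  have he0 : 0 < e := Nat.pos_of_dvd_of_pos he (Nat.sub_pos_of_lt hp.1.one_lt)
  have hep : ¬ p ∣ e := fun h => by
    have := Nat.le_of_dvd (Nat.sub_pos_of_lt hp.1.one_lt) (h.trans he)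
    have := hp.1.one_lt
    omega
  have hdvd : p ∣ q := hq ▸ dvd_pow_self p hk
  set f := ZMod.castHom hdvd (ZMod p)
  have hunit : ∀ x : ZMod q, f x ≠ 0 → IsUnit x := fun x hx => by
    rw [← ZMod.natCast_zmod_val x, ZMod.isUnit_iff_coprime]
    rw [← ZMod.natCast_zmod_val x, map_natCast, Ne, ZMod.natCast_eq_zero_iff] at hx
    have h := Nat.Coprime.pow_right k ((hp.1.coprime_iff_not_dvd.2 hx).symm)
    rwa [← hq] at h
  have hmem : ∀ a ∈ canon q e, a ^ e = 1 := fun a ha => by simpa [canon] using ha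
  have hroot : ∀ a ∈ canon q e, f a ^ e = 1 := fun a ha => by
    rw [← map_pow, hmem a ha, map_one]
  calc (canon q e).card ≤ (Polynomial.nthRoots e (1 : ZMod p)).toFinset.card := by
        refine Finset.card_le_card_of_injOn f (fun a ha => ?_) fun a ha b hb hab => ?_
        · simp [Polynomial.mem_nthRoots he0, hroot a ha]
        · have h := geom_sum₂_mul a b e
          rw [hmem a ha, hmem b hb, sub_self] at h
          refine sub_eq_zero.1 ((hunit _ ?_).mul_right_eq_zero.1 h)
          rw [map_sum]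
          simp only [map_mul, map_pow, hab]
          rw [Finset.sum_congr rfl (g := fun _ => f b ^ (e - 1)) fun i hi => ?_, Finset.sum_const,
            Finset.card_range, nsmul_eq_mul]
          · refine mul_ne_zero (fun h0 => hep ((ZMod.natCast_eq_zero_iff e p).1 h0))
              (pow_ne_zero _ fun h0 => ?_)
            have := hroot b hb
            rw [h0, zero_pow he0.ne'] at this
            exact zero_ne_one this
          · rw [← pow_add]
            congr 1
            have := Finset.mem_range.1 hi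
            omega
    _ ≤ Multiset.card (Polynomial.nthRoots e (1 : ZMod p)) := Multiset.toFinset_card_le _
    _ ≤ e := Polynomial.card_nthRoots e 1

variable {G : Type u} [Group G] [Finite G] {p : ℕ} {M : Ideal Cfsg.AlgInt}
  {B : Set (Cfsg.IrrCharacter G)} {P : Subgroup G}
  {c : Set (Cfsg.IrrCharacter (Subgroup.centralizer (P : Set G)))}

theorem frees_of_cyclic (hM : Cfsg.IsPModular p M) (hmax : Cfsg.IsMaximalBrauerPair p M B P c)
    (hcyc : IsCyclic P) : Frees P c := by
  intro x hx v hv hv1 h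
  refine CyclicSubpairs.mem_centralizer_of_fix hM hmax hcyc (Subgroup.zpowers_le.2 hv)
    (fun h0 => hv1 (Subgroup.zpowers_eq_bot.1 h0)) hx ?_
  exact mem_centralizer_zpowers.2 (Subgroup.mem_centralizer_singleton_iff.2
    (mul_inv_eq_iff_eq_mul.1 h))

theorem mults_eq_canon (hM : Cfsg.IsPModular p M) (hmax : Cfsg.IsMaximalBrauerPair p M B P c)
    (hcyc : IsCyclic P) (hP1 : P ≠ ⊥) [NeZero (Nat.card P)] {e : ℕ}
    (he : (Subgroup.centralizer (P : Set G)).relIndex (stab P c) = e) :
    mults c hcyc = canon (Nat.card P) e := by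
  classical
  haveI := fact_prime_of_pm hM
  have hS := isFree_mults (hcyc := hcyc) hM hmax
  have hc : (mults c hcyc).card = e := (card_mults hM hmax hP1).trans he
  obtain ⟨k, hk⟩ := IsPGroup.iff_card.1 hmax.1.1.1
  have hk0 : k ≠ 0 := fun h => hP1 (Subgroup.eq_bot_of_card_eq _ (by rw [hk, h, pow_zero]))
  refine Finset.eq_of_subset_of_card_le (fun a ha => ?_) ?_
  · simp only [canon, Finset.mem_filter, Finset.mem_univ, true_and]
    rw [← hc]
    exact pow_card_of_isFree hS ha
  · rw [hc]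
    exact card_canon_le hk hk0 (structure_theorem hM hmax hcyc hP1 he).1

theorem conj_fsum {q : ℕ} [NeZero q] (n : ZMod q → ℤ) (x : ZMod q) :
    conj (fsum n x) = fsum n (-x) := by
  simp only [fsum, map_sum, map_mul, map_intCast, FourierTable.conj_std, mul_neg]

variable {hcyc : IsCyclic P} [NeZero (Nat.card P)]
  {n : Cfsg.IrrCharacter G → ZMod (Nat.card P) → ℤ} {w : ZMod (Nat.card P) → G → ℂ}
  {hM : Cfsg.IsPModular p M}

set_option maxHeartbeats 800000 in
/-- The coefficients are multiples of the Fourier sums. -/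
theorem PartData.coef_eq [Fintype G] [Fintype (Cfsg.IrrCharacter G)] (hd : PartData hM c hcyc n w)
    (hmax : Cfsg.IsMaximalBrauerPair p M B P c) {χ₁ : Cfsg.IrrCharacter G} {i : ZMod (Nat.card P)}
    (hi : i ≠ 0) {k : ℤ} (hk : k * k = 1) (h1 : fsum (n χ₁) i = (k : ℂ))
    (χ : Cfsg.IrrCharacter G) :
    coef p M c (χ : G → ℂ) (pt hcyc i : G) =
      (k : ℂ) * coef p M c (χ₁ : G → ℂ) (pt hcyc i : G) * fsum (n χ) i := by
  classical
  have hab := comm_of_cyclic hcyc
  have hv : FreeAt P c (pt hcyc i : G) :=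
    (frees_of_cyclic hM hmax hcyc).freeAt fun h => pt_ne_one hi (by rw [h, Subgroup.coe_one])
  obtain ⟨ξ, hξ⟩ := gAt_nonempty hM hmax (pt hcyc i)
  have hp1 : ¬ p ∣ orderOf (1 : CU (pt hcyc i : G)) := by simp [hM.1.ne_one]
  have hs : (1 : G) ∈ regAt p (pt hcyc i : G) :=
    mem_regAt.2 ⟨Commute.one_right _, by simp [hM.1.ne_one]⟩
  have key : ∀ θ : Cfsg.IrrCharacter G, fsum (n θ) i * w i 1 =
      coef p M c (θ : G → ℂ) (pt hcyc i : G) * (ξ : CU (pt hcyc i : G) → ℂ) 1 := fun θ => by
    rw [← hd.th_eq θ i hi 1 hs]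
    have h := th_eq_coef hM hmax hab hv (irr_isClassFunction θ) hξ (s := 1) hp1
    rw [OneMemClass.coe_one] at h
    exact h
  have ha := key χ
  have hb := key χ₁
  rw [h1] at hb
  have hk' : (k : ℂ) * k = 1 := by exact_mod_cast hk
  refine mul_right_cancel₀ (irr_one_ne_zero ξ.2) ?_
  linear_combination -ha + (k : ℂ) * fsum (n χ) i * hb - w i 1 * fsum (n χ) i * hk'

set_option maxHeartbeats 1000000 in
/-- The table of a block with cyclic defect group. -/
theorem exists_cycData' (hM : Cfsg.IsPModular p M) (hmax : Cfsg.IsMaximalBrauerPair p M B P c)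
    (hcyc : IsCyclic P) (hP1 : P ≠ ⊥) {R : Finset (ZMod (Nat.card P))}
    (hR : IsReps (mults c hcyc) R) :
    Nonempty (CycData p M B (mults c hcyc) R) := by
  classical
  haveI := fact_prime_of_pm hM
  haveI := Fintype.ofFinite G
  haveI := Fintype.ofFinite P
  haveI := Fintype.ofFinite (Cfsg.IrrCharacter G)
  haveI := Fintype.ofFinite B
  obtain ⟨hdvd, hle⟩ := inertial_le_blockRank hM hmax hcyc hP1
  obtain ⟨-, -, hh0, -⟩ := structure_theorem hM hmax hcyc hP1 rfl
  have hab := comm_of_cyclic hcyc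
  have hfree := frees_of_cyclic hM hmax hcyc
  have hS := isFree_mults (hcyc := hcyc) hM hmax
  have hSe := card_mults (hcyc := hcyc) hM hmax hP1
  obtain ⟨n, w, h1, h2, h3⟩ := exists_parts hM hmax hcyc hP1 (hSe.symm ▸ hdvd)
  have hd : PartData hM c hcyc n w := ⟨h1, h2, h3⟩
  have hq : 1 < Nat.card P :=
    Finite.one_lt_card_iff_nontrivial.2 ((Subgroup.nontrivial_iff_ne_bot P).2 hP1)
  have hcard : Fintype.card B = Cfsg.blockRank p B + R.card := by
    rw [← Nat.card_eq_fintype_card, card_eq hM hmax hR]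
  obtain ⟨hl, δ₀, Ψ, cc, hδ, hinj, hc0, hc1, hDY, hDX, hrel⟩ :=
    FourierTable.exists_exceptional hS hR hq (ι := B) (fun θ => n θ) (fun θ i => fsum (n θ) i)
      (fun θ x _ => rfl) (fun θ b hb x hx => hd.inv θ b hb x hx)
      (fun r hr r' hr' => hd.orth hmax hR hr hr')
      (fun θ => by
        obtain ⟨s, hs, hne⟩ := exists_th_ne_zero_center hM hmax (v := pt hcyc 1)
          (Subgroup.mem_centralizer_iff.2 fun y hy => hab y hy _ (pt hcyc 1).2) θ.2
        haveI : Fact (1 < Nat.card P) := ⟨hq⟩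
        refine ⟨1, one_ne_zero, fun h0 => hne ?_⟩
        rw [hd.th_eq θ 1 one_ne_zero s hs, h0, zero_mul])
      (fun θ => (Cfsg.charDegree ((θ : Cfsg.IrrCharacter G) : G → ℂ) : ℤ))
      (fun θ => Int.natCast_pos.2 (charDegree_pos _))
      (fun r hr => by
        simp only [Int.cast_natCast, charDegree_cast]
        exact hd.regular hmax hR hr (by rw [orderOf_one, Nat.dvd_one]; exact hM.1.ne_one))
      hcard (hSe.symm ▸ hle)
  let Ψ' : R → Cfsg.IrrCharacter G := fun t => ((Ψ t : B) : Cfsg.IrrCharacter G)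
  have hinj' : Function.Injective Ψ' := fun a b h => hinj (Subtype.ext h)
  set δ : Cfsg.IrrCharacter G → ℤ := fun χ => if h : χ ∈ B then cc ⟨χ, h⟩ else 1
  have hδB : ∀ θ : B, δ θ = cc θ := fun θ => dif_pos θ.2
  have hoff : ∀ χ (h : χ ∈ B \ Set.range Ψ'), ∀ t, (⟨χ, h.1⟩ : B) ≠ Ψ t := fun χ h t e =>
    h.2 ⟨t, (congrArg Subtype.val e).symm⟩
  have hXcard : Nat.card (B \ Set.range Ψ' : Set (Cfsg.IrrCharacter G)) = (mults c hcyc).card := by
    rw [Nat.card_coe_set_eq, Set.ncard_sdiff (by rintro _ ⟨t, rfl⟩; exact (Ψ t).2) (Set.toFinite _),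
      ← Nat.card_coe_set_eq, ← Nat.card_coe_set_eq, Nat.card_range_of_injective hinj',
      Nat.card_eq_fintype_card, Nat.card_eq_fintype_card, Fintype.card_coe, hcard, hl,
      Nat.add_sub_cancel]
  obtain ⟨χX, hχX⟩ : (B \ Set.range Ψ').Nonempty := by
    rw [← Set.ncard_pos (Set.toFinite _), ← Nat.card_coe_set_eq, hXcard]
    exact Finset.card_pos.2 ⟨1, hS.one_mem⟩
  have hsq : cc ⟨χX, hχX.1⟩ * cc ⟨χX, hχX.1⟩ = 1 := by
    rcases hc1 _ (hoff χX hχX) with h | h <;> rw [h] <;> rfl
  -- the factors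
  let κ : ZMod (Nat.card P) → ℂ := fun i =>
    ((-cc ⟨χX, hχX.1⟩ : ℤ) : ℂ) * coef p M c (χX : G → ℂ) (pt hcyc i : G)
  have hκ : ∀ (χ : Cfsg.IrrCharacter G) i, i ≠ 0 →
      coef p M c (χ : G → ℂ) (pt hcyc i : G) = κ i * fsum (n χ) i := fun χ i hi =>
    hd.coef_eq hmax hi (by rw [neg_mul_neg, hsq]) (by
      rw [Int.cast_neg]; exact hDX ⟨χX, hχX.1⟩ (hoff χX hχX) i hi) χ
  have hκr : ∀ i, Cfsg.MemLocalRing M (κ i) := fun i => ring_mul hM (ring_intCast hM _)
    (ring_of_isIntegral hM (coef_isIntegral hM (irr_isCharacter χX) _))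
  have hκu : ∀ i, i ≠ 0 → ¬ Cfsg.MemLocalIdeal M (κ i) := fun i hi hid => by
    have hv : (pt hcyc i : P) ≠ 1 := fun h => pt_ne_one hi (by rw [h, Subgroup.coe_one])
    refine coef_not_ideal hM hmax hab (hfree.freeAt hv) hχX.1 (hh0 _ hχX.1) ?_
    have h := ideal_mul_left hM (ring_intCast hM (-cc ⟨χX, hχX.1⟩)) hid
    simp only [κ, ← mul_assoc, ← Int.cast_mul, neg_mul_neg, hsq, Int.cast_one, one_mul] at h
    exact h
  refine ⟨{
    Ψ := Ψ'
    δ₀ := δ₀
    δ := δ
    mem := fun t => (Ψ t).2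
    inj := hinj'
    sign₀ := hδ
    sign := fun χ hχ => by
      rw [show δ χ = cc ⟨χ, hχ.1⟩ from hδB ⟨χ, hχ.1⟩]
      exact hc1 _ (hoff χ hχ)
    card := hXcard
    rel := fun t g hg => ?_
    sec := fun g hg => ?_ }⟩
  · rw [← hrel (fun θ => ((θ : Cfsg.IrrCharacter G) : G → ℂ) g)
      (fun r hr => hd.regular hmax hR hr hg) t]
    congr 1
    rw [finsum_mem_eq_toFinset_sum, ← Finset.sum_subset (s₁ := Finset.univ.filter
        fun θ : B => (θ : Cfsg.IrrCharacter G) ∉ Set.range Ψ') (Finset.subset_univ _)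
        fun θ _ hθ => ?_]
    · refine Finset.sum_bij (fun χ hχ => (⟨χ, ((Set.mem_toFinset).1 hχ).1⟩ : B))
        (fun χ hχ => Finset.mem_filter.2 ⟨Finset.mem_univ _, (Set.mem_toFinset.1 hχ).2⟩)
        (fun _ _ _ _ h => congrArg Subtype.val h) (fun θ hθ => ⟨θ, Set.mem_toFinset.2
          ⟨θ.2, (Finset.mem_filter.1 hθ).2⟩, rfl⟩) fun χ hχ => ?_
      rw [← hδB ⟨χ, ((Set.mem_toFinset).1 hχ).1⟩]
    · obtain ⟨s, hs⟩ : (θ : Cfsg.IrrCharacter G) ∈ Set.range Ψ' := by simpa using hθ
      rw [← Subtype.ext (a1 := Ψ s) hs, hc0, Int.cast_zero, zero_mul]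
  · obtain ⟨a, haR, ha1, hav⟩ := exists_value_comb hM hmax hab hfree hg
    let W : ZMod (Nat.card P) → ℂ := fun r => if r ∈ R then
      ∑ b ∈ mults c hcyc, a (pt hcyc (b * r)) * κ (b * r) else 0
    have hexp : ∀ χ ∈ B, (χ : G → ℂ) g = ∑ r ∈ R, W r * fsum (n χ) r := by
      intro χ hχ
      rw [hav χ hχ,
        ← Fintype.sum_equiv ⟨pt hcyc, ix hcyc, fun i => ix_pt i, fun v => pt_ix v⟩
          (fun i => a (pt hcyc i) * coef p M c (χ : G → ℂ) (pt hcyc i : G)) _ (fun _ => rfl),
        ← Finset.add_sum_erase _ _ (Finset.mem_univ 0), pt_zero, ha1, zero_mul, zero_add,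
        ← Finset.filter_ne', ← sum_orbits hS hR]
      refine Finset.sum_congr rfl fun r hr => ?_
      simp only [W, if_pos hr, Finset.sum_mul]
      refine Finset.sum_congr rfl fun b hb => ?_
      have hbr : b * r ≠ 0 := fun h => hR.ne_zero r hr ((hS.mul_eq_zero_iff hb).1 h)
      rw [hκ χ _ hbr, hd.inv χ b hb r (hR.ne_zero r hr)]
      ring
    have hW0 : W 0 = 0 := if_neg fun h => hR.ne_zero 0 h rfl
    have hsumW : ∀ f : ZMod (Nat.card P) → ℂ, ∑ i, W i * f i = ∑ r ∈ R, W r * f r := fun f =>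
      (Finset.sum_subset (Finset.subset_univ _) fun i _ hi => by
        simp only [W, if_neg hi, zero_mul]).symm
    refine ⟨W, hW0, fun i => ⟨?_, ?_⟩, fun t => ?_, fun χ hχ => ?_⟩
    · simp only [W]
      split
      exacts [ring_sum hM fun b _ => ring_mul hM (haR _) (hκr _), ring_zero hM]
    · by_cases hi : i ∈ R
      swap
      · simp only [W, if_neg hi, mul_zero, zero_div]
        exact ring_zero hM
      have hi0 := hR.ne_zero i hi
      have hni : -i ≠ 0 := neg_ne_zero.2 hi0
      have hne : pt hcyc (-i) ≠ 1 := fun h => pt_ne_one hni (by rw [h, Subgroup.coe_one])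
      have hk := (comb_pairing hM hmax hab hfree (fun v => if v = pt hcyc (-i) then 1 else 0)
        (fun v => by split; exacts [ring_one hM, ring_zero hM]) (if_neg (Ne.symm hne))
        (fun χ => coef p M c (χ : G → ℂ) (pt hcyc (-i) : G)) (fun χ _ => by simp) g).2
      have hval : ∑ χ ∈ Finset.univ.filter (fun χ => χ ∈ B),
          coef p M c (χ : G → ℂ) (pt hcyc (-i) : G) * (χ : G → ℂ) g =
            κ (-i) * ((Nat.card P : ℂ) * W i) := by
        rw [Finset.sum_congr rfl fun χ hχ => by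
          rw [hκ χ _ hni, hexp χ (Finset.mem_filter.1 hχ).2, Finset.mul_sum]]
        rw [Finset.sum_comm, Finset.sum_congr rfl (g := fun r => κ (-i) * W r *
          if r = i then (Nat.card P : ℂ) else 0) fun r hr => ?_]
        · simp only [mul_ite, mul_zero, Finset.sum_ite_eq', if_pos hi]
          ring
        · rw [← hd.orth hmax hR hr hi, Finset.mul_sum,
            Finset.sum_subtype (Finset.univ.filter (· ∈ B)) (p := (· ∈ B)) (fun θ => by simp)]
          refine Finset.sum_congr rfl fun θ _ => ?_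
          rw [conj_fsum]
          ring
      rw [hval, mul_div_assoc] at hk
      have h := ring_mul hM (ring_inv hM (hκr (-i)) (hκu _ hni)) hk
      rwa [← mul_assoc, inv_mul_cancel₀ (ne_zero_of_not_ideal hM (hκu _ hni)), one_mul] at h
    · rw [hexp _ (Ψ t).2, hsumW, Finset.mul_sum]
      refine Finset.sum_congr rfl fun r hr => ?_
      rw [hDY t r (hR.ne_zero r hr)]
      ring
    · rw [hexp χ hχ.1, show ∑ i, W i = ∑ i, W i * (fun _ => (1 : ℂ)) i by simp, hsumW,
        Finset.mul_sum]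
      refine Finset.sum_congr rfl fun r hr => ?_
      rw [hDX ⟨χ, hχ.1⟩ (hoff χ hχ) r (hR.ne_zero r hr),
        show δ χ = cc ⟨χ, hχ.1⟩ from hδB ⟨χ, hχ.1⟩]
      ring

/-- The table over the roots of unity, in a given modulus. -/
theorem exists_cycData (hM : Cfsg.IsPModular p M) (hmax : Cfsg.IsMaximalBrauerPair p M B P c)
    (hcyc : IsCyclic P) (hP1 : P ≠ ⊥) {e : ℕ}
    (he : (Subgroup.centralizer (P : Set G)).relIndex (stab P c) = e) {q : ℕ} [NeZero q]
    (hq : Nat.card P = q) :
    IsFree (canon q e) ∧ (canon q e).card = e ∧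
      ∀ R : Finset (ZMod q), IsReps (canon q e) R → Nonempty (CycData p M B (canon q e) R) := by
  subst hq
  rw [← mults_eq_canon hM hmax hcyc hP1 he]
  exact ⟨isFree_mults hM hmax, (card_mults hM hmax hP1).trans he,
    fun R hR => exists_cycData' hM hmax hcyc hP1 hR⟩

end Cfsg.Agent.BlockCharsA.CyclicDefect
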