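import Mathlib
import Cfsg.Agent.Lib.Blocks.InvariantCore
import Cfsg.Agent.BlockCharsA.CyclicDefect.Cyc

/-!
# The comparison with a Frobenius group

A group with a self-centralising cyclic subgroup of prime power order and coprime index dividing
`p - 1` has one block, and the perfect isometry with it has one sign on the characters that are
non-trivial on that subgroup.
-/

set_option linter.style.haveILetI false
set_option linter.unusedSectionVars false

namespace Cfsg.Agent.BlockCharsA.CyclicDefect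

open Cfsg.Agent.Blocks Cfsg.Agent.Characters
open Cfsg.Agent.BlockCharsA.BrauerPairs Cfsg.Agent.BlockCharsA.PairLocal
open Cfsg.Agent.CharTheory.CyclicCofactor
open scoped ComplexConjugate commutatorElement

universe u v

variable {p : ℕ} {M : Ideal Cfsg.AlgInt} {F : Type v} [Group F] [Finite F]

/-- A `p`-group has one block. -/
theorem block_eq_univ_of_pGroup (hM : Cfsg.IsPModular p M) {k : ℕ} (hF : Nat.card F = p ^ k)
    {b : Set (Cfsg.IrrCharacter F)} (hb : Cfsg.IsPBlock M b) : b = Set.univ := by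
  classical
  haveI := Fintype.ofFinite (⊥ : Subgroup F)
  let θ : Cfsg.IrrCharacter (⊥ : Subgroup F) :=
    ⟨fun x => (1 : (⊥ : Subgroup F) →* ℂ) x, isIrrCharacter_monoidHom _⟩
  obtain ⟨b₀, hb₀, hmem, -⟩ := InvariantCore.one_block_of_pPower_index hM (N := (⊥ : Subgroup F))
    (by rw [Subgroup.card_bot, Nat.dvd_one]; exact hM.1.ne_one)
    ⟨k, by rw [Subgroup.index_bot, hF]⟩ θ fun g => Subtype.ext (funext fun x => by
      rw [coe_conjIrr, CharTheory.Clifford.conjBy_apply, Subsingleton.elim x 1]; simp [θ])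
  have hall : ∀ η, η ∈ b₀ := fun η => (hmem η).2 (by
    rw [classInner_def, Finset.sum_eq_single (1 : (⊥ : Subgroup F))
      (fun x _ hx => absurd (Subsingleton.elim x 1) hx) fun h => absurd (Finset.mem_univ _) h]
    show (Nat.card (⊥ : Subgroup F) : ℂ)⁻¹ *
      ((η : F → ℂ) 1 * conj ((1 : (⊥ : Subgroup F) →* ℂ) 1)) ≠ 0
    simp [irr_one_ne_zero η.2])
  obtain ⟨χ, hχ⟩ := block_nonempty hM hb
  rw [block_eq_of_mem hM hb hb₀ hχ (hall χ)]
  exact Set.eq_univ_of_forall hall

theorem normal_of_index {Q : Subgroup F} {k e : ℕ} [hp : Fact p.Prime] (hQk : Nat.card Q = p ^ k)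
    (hidx : Q.index = e) (he : e ∣ p - 1) : Q.Normal := by
  have hp1 := hp.1.one_lt
  have he0 : 0 < e := Nat.pos_of_dvd_of_pos he (Nat.sub_pos_of_lt hp1)
  have hep : ¬ p ∣ e := fun h => by
    have := Nat.le_of_dvd (Nat.sub_pos_of_lt hp1) (h.trans he)
    omega
  have hv : (Nat.card F).factorization p = k := by
    rw [← Subgroup.card_mul_index Q, hQk, hidx, Nat.factorization_mul (pow_ne_zero _ hp.1.ne_zero)
      he0.ne', hp.1.factorization_pow]
    simp [Nat.factorization_eq_zero_of_not_dvd hep]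
  let S : Sylow p F := Sylow.ofCard Q (by rw [hQk, hv])
  have hS : (S : Subgroup F) = Q := Sylow.coe_ofCard Q _
  have h1 : Nat.card (Sylow p F) ≡ 1 [MOD p] := card_sylow_modEq_one p F
  have h2 : Nat.card (Sylow p F) ∣ e := by
    have := S.card_dvd_index
    rwa [hS, hidx] at this
  have hlt : Nat.card (Sylow p F) < p :=
    lt_of_le_of_lt (Nat.le_of_dvd he0 h2)
      (lt_of_le_of_lt (Nat.le_of_dvd (Nat.sub_pos_of_lt hp1) he) (by omega))
  have hone : Nat.card (Sylow p F) = 1 := by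
    rw [Nat.ModEq, Nat.mod_eq_of_lt hlt, Nat.mod_eq_of_lt hp1] at h1
    exact h1
  haveI : Subsingleton (Sylow p F) := (Nat.card_eq_one_iff_unique.1 hone).1
  rw [← hS]
  exact S.normal_of_subsingleton

/-- The one block of the group and its maximal pair. -/
theorem exists_frobenius_pair (hM : Cfsg.IsPModular p M) {Q : Subgroup F} {k e : ℕ}
    (hQk : Nat.card Q = p ^ k) (hF : Nat.card F = Nat.card Q * e)
    (he : e ∣ p - 1) (hQC : Subgroup.centralizer (Q : Set F) = Q) :
    ∃ c : Set (Cfsg.IrrCharacter (Subgroup.centralizer (Q : Set F))),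
      Cfsg.IsMaximalBrauerPair p M (Set.univ : Set (Cfsg.IrrCharacter F)) Q c ∧
        (∀ g : F, g ∈ stab Q c) ∧ (Subgroup.centralizer (Q : Set F)).relIndex (stab Q c) = e := by
  classical
  haveI := fact_prime_of_pm hM
  have hidx : Q.index = e :=
    Nat.eq_of_mul_eq_mul_left Nat.card_pos ((Subgroup.card_mul_index Q).trans hF)
  haveI := normal_of_index hQk hidx he
  have hQp : IsPGroup p Q := IsPGroup.of_card hQk
  have hC : Nat.card (Subgroup.centralizer (Q : Set F)) = p ^ k := by rw [hQC, hQk]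
  have hpair : ∀ B : Set (Cfsg.IrrCharacter F), Cfsg.IsPBlock M B →
      ∃ c, Cfsg.IsMaximalBrauerPair p M B Q c ∧ c = Set.univ := by
    intro B hB
    obtain ⟨D, hD⟩ := exists_defectGroup hM hB
    have hQD := normal_le_defect hM hQp hB hD
    have hDQ : D = Q := by
      obtain ⟨j, hj⟩ := IsPGroup.iff_card.1 (isPGroup_defect hD)
      refine (Subgroup.eq_of_le_of_card_ge hQD ?_).symm
      rw [hj, hQk]
      refine Nat.pow_le_pow_right hM.1.pos ?_
      have h : p ^ j ∣ p ^ k * e := hj ▸ hQk ▸ hF ▸ Subgroup.card_subgroup_dvd_card D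
      have hco : Nat.Coprime (p ^ j) e := by
        refine Nat.Coprime.pow_left _ (hM.1.coprime_iff_not_dvd.2 fun hpe => ?_)
        have := Nat.le_of_dvd (Nat.sub_pos_of_lt hM.1.one_lt) (hpe.trans he)
        have := hM.1.pos
        omega
      exact (Nat.pow_dvd_pow_iff_le_right hM.1.one_lt).1 (hco.dvd_of_dvd_mul_right h)
    subst hDQ
    obtain ⟨c, hc⟩ := PairCorr.exists_maximal_on hM hB hD
    exact ⟨c, hc, block_eq_univ_of_pGroup hM hC hc.1.1.2⟩
  obtain ⟨χ⟩ : Nonempty (Cfsg.IrrCharacter F) :=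
    ⟨⟨fun x => (1 : F →* ℂ) x, isIrrCharacter_monoidHom _⟩⟩
  obtain ⟨c, hc, hcu⟩ := hpair _ (isPBlock_blockOf M χ)
  have huniv : Cfsg.blockOf M (χ : F → ℂ) = (Set.univ : Set (Cfsg.IrrCharacter F)) := by
    refine Set.eq_univ_of_forall fun η => ?_
    obtain ⟨c', hc', hcu'⟩ := hpair _ (isPBlock_blockOf M η)
    subst hcu hcu'
    rw [brauerPairOf_unique hM hc.1 hc'.1]
    exact mem_blockOf_self hM η
  rw [huniv] at hc
  have hstab : ∀ g : F, g ∈ stab Q c := fun g => by
    rw [mem_stab]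
    refine ⟨by rw [Subgroup.normalizer_eq_top (H := Q)]; exact Subgroup.mem_top g, ?_⟩
    have hgC : g ∈ Subgroup.normalizer (Subgroup.centralizer (Q : Set F) : Set F) :=
      normalizer_le_normalizer_centralizer Q (by
        rw [Subgroup.normalizer_eq_top (H := Q)]; exact Subgroup.mem_top g)
    refine (stabilizes_iff hgC c).2 ?_
    subst hcu
    exact Set.eq_univ_of_forall fun η => Set.mem_univ _
  refine ⟨c, hc, hstab, ?_⟩
  rw [show stab Q c = ⊤ from eq_top_iff.2 fun g _ => hstab g, Subgroup.relIndex_top_right, hQC,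
    hidx]

/-- In such a group with `e ≥ 2` the derived subgroup is the cyclic subgroup. -/
theorem commutator_eq (hM : Cfsg.IsPModular p M) {Q : Subgroup F}
    {c : Set (Cfsg.IrrCharacter (Subgroup.centralizer (Q : Set F)))}
    {B : Set (Cfsg.IrrCharacter F)} (hmax : Cfsg.IsMaximalBrauerPair p M B Q c)
    (hQ : IsCyclic Q) (hQ1 : Q ≠ ⊥) (hQC : Subgroup.centralizer (Q : Set F) = Q)
    (hstab : ∀ g : F, g ∈ stab Q c)
    (he : 1 < (Subgroup.centralizer (Q : Set F)).relIndex (stab Q c)) :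
    commutator F = Q := by
  classical
  haveI : NeZero (Nat.card Q) := ⟨Nat.card_pos.ne'⟩
  refine le_antisymm ?_ fun v hv => ?_
  · rw [_root_.commutator_def, Subgroup.commutator_le]
    intro x _ y _
    rw [← hQC, Subgroup.mem_centralizer_iff]
    intro v hv
    obtain ⟨a, ha⟩ := exists_mult hQ (hstab x)
    obtain ⟨b, hb⟩ := exists_mult hQ (hstab y)
    have key : ∀ i, (x * y) * (pt hQ i : F) * (x * y)⁻¹ =
        (y * x) * (pt hQ i : F) * (y * x)⁻¹ := fun i => by
      have h1 : (x * y) * (pt hQ i : F) * (x * y)⁻¹ = pt hQ (a * (b * i)) := by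
        rw [← ha, ← hb]; group
      have h2 : (y * x) * (pt hQ i : F) * (y * x)⁻¹ = pt hQ (b * (a * i)) := by
        rw [← hb, ← ha]; group
      rw [h1, h2, mul_left_comm]
    have h := key (ix hQ (⟨_, (Subgroup.mem_normalizer_iff.1
      (stab_le_normalizer (hstab (y * x)⁻¹)) v).1 hv⟩ : Q))
    simp only [pt_ix] at h
    have h3 : ⁅x, y⁆ * v * ⁅x, y⁆⁻¹ = v := by
      rw [commutatorElement_def]
      calc x * y * x⁻¹ * y⁻¹ * v * (x * y * x⁻¹ * y⁻¹)⁻¹
          = (x * y) * ((y * x)⁻¹ * v * ((y * x)⁻¹)⁻¹) * (x * y)⁻¹ := by group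
        _ = (y * x) * ((y * x)⁻¹ * v * ((y * x)⁻¹)⁻¹) * (y * x)⁻¹ := h
        _ = v := by group
    exact (mul_inv_eq_iff_eq_mul.1 h3).symm
  · have hS := isFree_mults (hcyc := hQ) hM hmax
    rw [← card_mults (hcyc := hQ) hM hmax hQ1] at he
    obtain ⟨a, ha, ha1⟩ := Finset.exists_mem_ne he (1 : ZMod (Nat.card Q))
    obtain ⟨t, -, hta⟩ := mem_mults.1 ha
    have hinj : Function.Injective fun i => (a - 1) * i := fun i j hij => by
      by_contra hne
      refine ha1 ((isFree_mults (hcyc := hQ) hM hmax).free (i := i - j) ha (sub_ne_zero.2 hne) ?_)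
      simp only at hij
      linear_combination hij
    obtain ⟨i, hi⟩ := (Finite.injective_iff_surjective.1 hinj) (ix hQ ⟨v, hv⟩)
    have hvi : v = ⁅t, (pt hQ i : F)⁆ := by
      rw [commutatorElement_def, hta i]
      have h : pt hQ (a * i) = ⟨v, hv⟩ * pt hQ i := by
        rw [← pt_ix (hcyc := hQ) (⟨v, hv⟩ * pt hQ i), ix_mul, ix_pt, ← hi]
        congr 1
        ring
      rw [h, Subgroup.coe_mul, mul_inv_cancel_right]
    rw [hvi, _root_.commutator_def]
    exact Subgroup.commutator_mem_commutator (Subgroup.mem_top _) (Subgroup.mem_top _)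

/-- The signs of the table at one multiplier. -/
theorem CycData.sign_single {q : ℕ} [NeZero q] {S R : Finset (ZMod q)}
    {B : Set (Cfsg.IrrCharacter F)} (hM : Cfsg.IsPModular p M) (d : CycData p M B S R)
    (hS : S.card = 1) (hR : R.Nonempty) {χ : Cfsg.IrrCharacter F}
    (hχ : χ ∈ B \ Set.range d.Ψ) : d.δ χ = -d.δ₀ := by
  obtain ⟨t, ht⟩ := hR
  have h := d.rel ⟨t, ht⟩ 1 (by rw [orderOf_one, Nat.dvd_one]; exact hM.1.ne_one)
  have hset : B \ Set.range d.Ψ = {χ} :=
    (Set.subsingleton_iff_singleton hχ).1 (Set.subsingleton_coe _ |>.1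
      (Finite.card_le_one_iff_subsingleton.1 (d.card.trans hS).le))
  rw [hset, finsum_mem_singleton, ← charDegree_cast, ← charDegree_cast χ] at h
  have h' : d.δ₀ * (Cfsg.charDegree (d.Ψ ⟨t, ht⟩ : F → ℂ) : ℤ) +
      d.δ χ * (Cfsg.charDegree (χ : F → ℂ) : ℤ) = 0 := by exact_mod_cast h
  have h1 : (0 : ℤ) < Cfsg.charDegree (d.Ψ ⟨t, ht⟩ : F → ℂ) :=
    Int.natCast_pos.2 (charDegree_pos _)
  have h2 : (0 : ℤ) < Cfsg.charDegree (χ : F → ℂ) := Int.natCast_pos.2 (charDegree_pos χ)
  rcases d.sign χ hχ with e | e <;> rcases d.sign₀ with e' | e' <;> rw [e, e'] at h' ⊢ <;> omega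

theorem CycData.card_eq {q : ℕ} [NeZero q] {S R : Finset (ZMod q)} {B : Set (Cfsg.IrrCharacter F)}
    (d : CycData p M B S R) : Nat.card B = S.card + R.card := by
  have hsub : Set.range d.Ψ ⊆ B := by
    rintro _ ⟨t, rfl⟩
    exact d.mem t
  rw [← d.card, Nat.card_coe_set_eq, Nat.card_coe_set_eq,
    ← Set.ncard_sdiff_add_ncard_of_subset hsub (Set.toFinite _), ← Nat.card_coe_set_eq (Set.range _),
    Nat.card_range_of_injective d.inj, Nat.card_eq_fintype_card (α := R), Fintype.card_coe]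

/-- The exceptional characters are the ones that are non-trivial on the cyclic subgroup. -/
theorem range_eq_nontrivial (hM : Cfsg.IsPModular p M) {Q : Subgroup F}
    {c : Set (Cfsg.IrrCharacter (Subgroup.centralizer (Q : Set F)))}
    (hmax : Cfsg.IsMaximalBrauerPair p M (Set.univ : Set (Cfsg.IrrCharacter F)) Q c)
    (hQ : IsCyclic Q) (hQ1 : Q ≠ ⊥) (hQC : Subgroup.centralizer (Q : Set F) = Q)
    (hstab : ∀ g : F, g ∈ stab Q c) {e q : ℕ} [NeZero q]
    (he : (Subgroup.centralizer (Q : Set F)).relIndex (stab Q c) = e) (he1 : 1 < e)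
    (hq : Nat.card Q = q) {S R : Finset (ZMod q)} (hS : IsFree S) (hSe : S.card = e)
    (hR : IsReps S R) (d : CycData p M (Set.univ : Set (Cfsg.IrrCharacter F)) S R)
    {η η' : Cfsg.IrrCharacter F} (hη : ∃ x ∈ Q, (η : F → ℂ) x ≠ (η : F → ℂ) 1)
    (hη' : ∃ x ∈ Q, (η' : F → ℂ) x ≠ (η' : F → ℂ) 1) :
    η = η' ∨ η ∈ Set.range d.Ψ ∧ η' ∈ Set.range d.Ψ := by
  classical
  haveI := fact_prime_of_pm hM
  haveI := Fintype.ofFinite (Cfsg.IrrCharacter F)
  haveI : NeZero (Nat.card Q) := ⟨Nat.card_pos.ne'⟩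
  have hcomm := commutator_eq hM hmax hQ hQ1 hQC hstab (he.symm ▸ he1)
  set N : Set (Cfsg.IrrCharacter F) := {θ | ∃ x ∈ Q, (θ : F → ℂ) x ≠ (θ : F → ℂ) 1} with hN
  have hlin : ∀ θ : Cfsg.IrrCharacter F, θ ∉ N ↔ (θ : F → ℂ) 1 = 1 := by
    intro θ
    constructor
    · intro h
      haveI : Q.Normal := hcomm ▸ inferInstance
      obtain ⟨ψ, -, hψ, hψi⟩ := exists_deflate_quotient Q (irr_isCharacter θ) fun x hx => by
        by_contra h'
        exact h ⟨x, hx, h'⟩
      rw [← hψ 1]
      refine irr_degree_one_of_comm (fun a b => ?_) (hψi θ.2)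
      induction a using QuotientGroup.induction_on with | _ a =>
      induction b using QuotientGroup.induction_on with | _ b =>
      refine QuotientGroup.eq.2 ?_
      rw [← hcomm, _root_.commutator_def]
      have hh := Subgroup.commutator_mem_commutator (Subgroup.mem_top b⁻¹) (Subgroup.mem_top a⁻¹)
      rwa [commutatorElement_def, inv_inv, inv_inv, ← mul_inv_rev, mul_assoc] at hh
    · rintro h1 ⟨x, hx, hne⟩
      refine hne ?_
      rw [h1, ← linearOfDegreeOne_apply (irr_isCharacter θ) h1 x,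
        MonoidHom.mem_ker.1 (Abelianization.commutator_subset_ker _ (hcomm.symm ▸ hx))]
      rfl
  have hidx : Q.index = e := by
    rw [← he, show stab Q c = ⊤ from eq_top_iff.2 fun g _ => hstab g, Subgroup.relIndex_top_right,
      hQC]
  have hTcard : Nat.card (Nᶜ : Set (Cfsg.IrrCharacter F)) = e := by
    rw [← hidx, ← hcomm, ← card_degree_one]
    exact Nat.card_congr (Equiv.subtypeEquivRight fun θ => hlin θ)
  have hNcard : N.ncard = R.card := by
    have h1 := d.card_eq
    rw [Nat.card_coe_set_eq, hSe, Set.ncard_univ, ← Set.ncard_add_ncard_compl N] at h1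
    rw [Nat.card_coe_set_eq] at hTcard
    omega
  by_cases hm : R.card = 1
  · obtain ⟨a, ha⟩ := Set.ncard_eq_one.1 (hNcard.trans hm)
    left
    have h1 : η ∈ N := hη
    have h2 : η' ∈ N := hη'
    rw [ha, Set.mem_singleton_iff] at h1 h2
    rw [h1, h2]
  right
  suffices h : ∀ t, d.Ψ t ∈ N by
    have heq : Set.range d.Ψ = N := Set.eq_of_subset_of_ncard_le (by
      rintro _ ⟨t, rfl⟩
      exact h t) (by
      rw [hNcard, ← Nat.card_coe_set_eq, Nat.card_range_of_injective d.inj,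
        Nat.card_eq_fintype_card, Fintype.card_coe]) (Set.toFinite _)
    rw [heq]
    exact ⟨hη, hη'⟩
  intro t
  by_contra ht
  have ht1 := (hlin _).1 ht
  have hall : ∀ s, ∀ x ∈ Q, (d.Ψ s : F → ℂ) x = 1 := fun s x hx => by
    have hp1 : ¬ p ∣ orderOf (1 : F) := by rw [orderOf_one, Nat.dvd_one]; exact hM.1.ne_one
    have h0 : (d.δ₀ : ℂ) ≠ 0 := by rcases d.sign₀ with h | h <;> simp [h]
    have h1 : (d.Ψ s : F → ℂ) 1 = 1 := by
      rw [← ht1]
      exact mul_left_cancel₀ h0 (by linear_combination d.rel s 1 hp1 - d.rel t 1 hp1)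
    have h2 := (hlin _).2 h1
    rw [← h1]
    by_contra h'
    exact h2 ⟨x, hx, h'⟩
  obtain ⟨u, hu⟩ : ∃ u : F, u = (pt hQ 1 : F) := ⟨_, rfl⟩
  have hzu : Subgroup.zpowers u = Q := by
    refine le_antisymm (Subgroup.zpowers_le.2 (hu ▸ (pt hQ 1).2)) fun v hv => ?_
    rw [show v = (pt hQ (ix hQ ⟨v, hv⟩) : F) by rw [pt_ix], pt_eq_pow, SubmonoidClass.coe_pow, ← hu]
    exact Subgroup.npow_mem_zpowers _ _
  have hpu : p ∣ orderOf u := by
    rw [← Nat.card_zpowers, hzu]
    obtain ⟨k, hk⟩ := IsPGroup.iff_card.1 hmax.1.1.1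
    rw [hk]
    exact dvd_pow_self p fun h => hQ1 (Subgroup.eq_bot_of_card_eq _ (by rw [hk, h, pow_zero]))
  obtain ⟨W, hW0, -, hWY, hWX⟩ := d.sec u hpu
  have huQ : u ∈ Q := hu ▸ (pt hQ 1).2
  have hsum : (∑ i, W i) = -((d.δ₀ : ℂ) * R.card) := by
    have h0 : ((d.δ₀ : ℂ)) * d.δ₀ = 1 := by rcases d.sign₀ with h | h <;> simp [h]
    have h1 : ∑ s : R, (d.Ψ s : F → ℂ) u = (R.card : ℂ) := by
      rw [Finset.sum_congr rfl fun s _ => hall s u huQ, Finset.sum_const, Finset.card_univ,
        Fintype.card_coe, nsmul_one]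
    have h2 : ∑ s : R, (d.Ψ s : F → ℂ) u = -((d.δ₀ : ℂ) * ∑ i, W i) := by
      simp only [hWY, ← Finset.mul_sum]
      rw [Finset.sum_comm, ← mul_neg, ← Finset.sum_neg_distrib]
      congr 1
      refine Finset.sum_congr rfl fun i _ => ?_
      rw [← Finset.mul_sum, Finset.sum_coe_sort R fun s => FourierTable.orb S s i]
      rcases eq_or_ne i 0 with rfl | hi
      · rw [hW0, zero_mul, neg_zero]
      · rw [FourierTable.sum_orb hS hR hi, mul_neg_one]
    rw [h1] at h2
    linear_combination (d.δ₀ : ℂ) * h2 - (∑ i, W i) * h0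
  have horth := second_orthogonality u u
  rw [if_pos (IsConj.refl u), show Subgroup.centralizer ({u} : Set F) = Q by
      rw [← hQC, ← hzu]; ext; exact mem_centralizer_zpowers.symm, hq,
    ← Finset.sum_filter_add_sum_filter_not _ (· ∈ Set.range d.Ψ),
    Finset.sum_congr rfl (s₁ := Finset.univ.filter fun θ => θ ∈ Set.range d.Ψ)
      (g := fun _ => (1 : ℂ)) fun θ hθ => ?_,
    Finset.sum_congr rfl (s₁ := Finset.univ.filter fun θ => θ ∉ Set.range d.Ψ)
      (g := fun _ => (R.card : ℂ) * R.card) fun θ hθ => ?_,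
    Finset.sum_const, Finset.sum_const, nsmul_one, nsmul_eq_mul] at horth
  · have hY : (Finset.univ.filter (· ∈ Set.range d.Ψ)).card = R.card := by
      rw [← Fintype.card_coe R, ← Nat.card_eq_fintype_card, ← Nat.card_range_of_injective d.inj,
        Nat.card_eq_fintype_card, Fintype.card_subtype]
    have hX : (Finset.univ.filter fun θ => θ ∉ Set.range d.Ψ).card = e := by
      have h := d.card
      rw [hSe] at h
      rw [← h, Nat.card_eq_fintype_card, Fintype.card_subtype]
      congr 1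
      ext θ
      simp
    rw [hY, hX] at horth
    have hqm : R.card * e + 1 = q := hSe ▸ card_reps hS hR
    have h' : R.card + e * (R.card * R.card) = q := by exact_mod_cast horth
    replace h' := h'.trans hqm.symm
    refine hm (Nat.eq_of_mul_eq_mul_right (show 0 < R.card * e + 1 by omega) ?_)
    rw [one_mul]
    linarith
  · have hθ' : θ ∈ (Set.univ : Set (Cfsg.IrrCharacter F)) \ Set.range d.Ψ :=
      ⟨Set.mem_univ _, (Finset.mem_filter.1 hθ).2⟩
    rw [hWX θ hθ', hsum]
    rcases d.sign θ hθ' with e1 | e1 <;> rcases d.sign₀ with e2 | e2 <;> simp [e1, e2]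
  · obtain ⟨s, rfl⟩ := (Finset.mem_filter.1 hθ).2
    rw [hall s u huQ, map_one, one_mul]

end Cfsg.Agent.BlockCharsA.CyclicDefect
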