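import Mathlib
import Cfsg.Agent.BlockCharsA.CyclicDefect.Main
import Cfsg.Agent.Lib.Blocks.InducedPairs

/-!
# Blocks with cyclic defect group, from an induced block of the centraliser
-/

set_option linter.style.haveILetI false
set_option linter.unusedSectionVars false

namespace Cfsg.Agent.BlockCharsA.CyclicDefect

open Cfsg.Agent.Blocks Cfsg.Agent.Characters
open Cfsg.Agent.BlockCharsA.BrauerPairs Cfsg.Agent.BlockCharsA.PairLocal

universe u

variable {G : Type u} [Group G] [Finite G]

/-- The stabilizer given by all conjugate characters is the stabilizer of the pair. -/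
theorem eq_stab_of_forall {D : Subgroup G}
    {b : Set (Cfsg.IrrCharacter (Subgroup.centralizer (D : Set G)))} {T : Subgroup G}
    (hT : ∀ g : G, g ∈ T ↔ (g ∈ Subgroup.normalizer (D : Set G) ∧ ∀ θ ∈ b,
      ∀ θ' : Cfsg.IrrCharacter (Subgroup.centralizer (D : Set G)),
        (∀ h h' : Subgroup.centralizer (D : Set G), (h' : G) = g * h * g⁻¹ →
          (θ' : Subgroup.centralizer (D : Set G) → ℂ) h' =
            (θ : Subgroup.centralizer (D : Set G) → ℂ) h) → θ' ∈ b)) : T = stab D b := by
  refine eq_stab fun g => (hT g).trans (and_congr_right fun hg => ?_)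
  have hgC := normalizer_le_normalizer_centralizer D hg
  constructor
  · intro h
    refine ⟨hgC, fun θ hθ => ?_⟩
    have hconj : ∀ k k' : Subgroup.centralizer (D : Set G), (k' : G) = g * k * g⁻¹ →
        (irrAutEquiv (conjK hgC).symm θ : Subgroup.centralizer (D : Set G) → ℂ) k' =
          (θ : Subgroup.centralizer (D : Set G) → ℂ) k := fun k k' hk => by
      show (θ : Subgroup.centralizer (D : Set G) → ℂ) ((conjK hgC).symm k') = _
      refine congrArg (θ : Subgroup.centralizer (D : Set G) → ℂ) ?_
      rw [MulEquiv.symm_apply_eq]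
      exact Subtype.ext (by rw [coe_conjK, hk])
    exact ⟨_, h θ hθ _ hconj, hconj⟩
  · intro h θ hθ θ' hθ'
    obtain ⟨χ', hχ', hconj⟩ := h.2 θ hθ
    have : θ' = χ' := Subtype.ext (funext fun k' => by
      have hk : (k' : G) = g * (((conjK hgC).symm k' : Subgroup.centralizer (D : Set G)) : G) * g⁻¹ := by
        rw [← coe_conjK hgC, MulEquiv.apply_symm_apply]
      rw [hθ' _ _ hk]
      exact (hconj _ _ hk).symm)
    rwa [this]

theorem ne_bot_of_card {p a : ℕ} (hp : p.Prime) (ha : 1 ≤ a) {D : Subgroup G}
    (hDa : Nat.card D = p ^ a) : D ≠ ⊥ := fun h => by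
  rw [h, Subgroup.card_bot] at hDa
  have := Nat.one_lt_pow (by omega : a ≠ 0) hp.one_lt
  omega

end Cfsg.Agent.BlockCharsA.CyclicDefect
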